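import Cfsg.Agent.Lib.FusionPFive.NCong

/-!
Nonabelian essential subgroups of order `p³` in a group of order `p⁵` without abelian subgroup of
index `p`: they lie in every `Good` subgroup.
-/

set_option autoImplicit false

open Cfsg Cfsg.FusionSystem CfsgLib.Fusion
open scoped commutatorElement

namespace CfsgLib.FusionPFive

variable {Ω : Type*} [Group Ω] {S : Subgroup Ω} {p : ℕ} {F : Cfsg.FusionSystem S}
variable {P : Subgroup Ω}
variable [Fact p.Prime] [Finite S]

/-- The centre of a nonabelian group of order `p³`. -/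
theorem card_center_of_cube {Q : Type*} [Group Q] [Finite Q] (hQ : Nat.card Q = p ^ 3)
    (hna : ¬ ∀ a b : Q, a * b = b * a) : Nat.card (Subgroup.center Q) = p := by
  have hp : p.Prime := Fact.out
  have hG : IsPGroup p Q := IsPGroup.of_card hQ
  haveI : Nontrivial Q := Finite.one_lt_card_iff_nontrivial.1 (by rw [hQ]; exact Nat.one_lt_pow (by omega) hp.one_lt)
  obtain ⟨i, hi⟩ := IsPGroup.iff_card.1 (hG.to_subgroup (Subgroup.center Q))
  have hi0 : i ≠ 0 := fun h => by
    haveI := hG.center_nontrivial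
    have := Finite.one_lt_card (α := Subgroup.center Q)
    rw [hi, h, pow_zero] at this
    exact lt_irrefl _ this
  obtain ⟨j, hj⟩ := hG.index (Subgroup.center Q)
  have hij := (Subgroup.center Q).card_mul_index
  rw [hi, hj, hQ, ← pow_add] at hij
  have h3 := Nat.pow_right_injective hp.two_le hij
  by_contra hne
  refine hna fun a b => ?_
  have hcy : IsCyclic (Q ⧸ Subgroup.center Q) := by
    rw [Subgroup.index_eq_card] at hj
    have hi1 : i ≠ 1 := fun h => hne (by rw [hi, h, pow_one])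
    rcases (show j = 0 ∨ j = 1 by omega) with rfl | rfl
    · rw [pow_zero] at hj
      haveI := (Nat.card_eq_one_iff_unique.1 hj).1
      exact isCyclic_of_subsingleton
    · exact isCyclic_of_prime_card (p := p) (by rw [hj, pow_one])
  exact (isMulCommutative_of_isCyclic_quotient_center_self (G := Q)).is_comm.comm a b

/-- The centre of `S` in a nonabelian centric subgroup of order `p³`. -/
theorem pb_center_eq (hH : Hyp p F) (hPc : F.IsCentric P) (hP3 : Nat.card P = p ^ 3)
    (hna : ¬ ∀ a b : P, a * b = b * a) :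
    Subgroup.center S ≤ P.subgroupOf S ∧ Nat.card (Subgroup.center S) = p ∧
      pb hPc.1 (Subgroup.center S) = Subgroup.center P := by
  have hp : p.Prime := Fact.out
  have hPS := hPc.1
  have : Finite P := finite_of_le hPS
  have hle : Subgroup.center S ≤ P.subgroupOf S := fun s hs =>
    centralizerIn_le_of_isCentric hPc ⟨s.2, fun u hu => congrArg Subtype.val
      (Subgroup.mem_center_iff.1 hs ⟨u, hPS hu⟩)⟩
  have hle' : pb hPS (Subgroup.center S) ≤ Subgroup.center P := fun u hu =>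
    Subgroup.mem_center_iff.2 fun v => incl_injective hPS (by
      rw [map_mul, map_mul]; exact Subgroup.mem_center_iff.1 hu _)
  haveI : Nontrivial S := Finite.one_lt_card_iff_nontrivial.1
    (by rw [hH.card]; exact Nat.one_lt_pow (by omega) hp.one_lt)
  obtain ⟨i, hi⟩ := IsPGroup.iff_card.1 (hH.isP.to_subgroup (Subgroup.center S))
  have hi0 : i ≠ 0 := fun h => by
    haveI := hH.isP.center_nontrivial
    have := Finite.one_lt_card (α := Subgroup.center S)
    rw [hi, h, pow_zero] at this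
    exact lt_irrefl _ this
  have hcP := card_center_of_cube hP3 hna
  have h1 := Subgroup.card_le_of_le hle'
  rw [card_pb hPS hle, hcP, hi] at h1
  have hi1 : i = 1 := by
    have := (Nat.pow_le_pow_iff_right hp.one_lt).1 (h1.trans_eq (pow_one p).symm)
    omega
  have hZc : Nat.card (Subgroup.center S) = p := by rw [hi, hi1, pow_one]
  exact ⟨hle, hZc, Subgroup.eq_of_le_of_card_ge hle' (by rw [card_pb hPS hle, hZc, hcP])⟩

/-- A nonabelian essential subgroup of order `p³` lies in every `Good` subgroup. -/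
theorem cong_of_cube (hH : Hyp p F) {V : Subgroup S} (hV : Good F V) (hP : F.IsEssential p P)
    (hP3 : Nat.card P = p ^ 3) (hna : ¬ ∀ a b : P, a * b = b * a) (α : MulAut P) :
    Cong hP.1.1 V α := by
  have hp : p.Prime := Fact.out
  have hS := hH.isP
  have hPS := hP.1.1
  have : Finite P := finite_of_le hPS
  haveI := hV.normal
  obtain ⟨hZP, hZc, hZeq⟩ := pb_center_eq hH hP.1 hP3 hna
  set Z := Subgroup.center S
  set P' := P.subgroupOf S
  have hP'c : Nat.card P' = p ^ 3 := (card_subgroupOf hPS).trans hP3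
  have hne : P' ≠ ⊥ := fun h => by
    rw [h, Subgroup.card_bot] at hP'c
    exact (Nat.one_lt_pow (by norm_num) hp.one_lt).ne hP'c
  obtain ⟨-, hlt, -⟩ := CfsgLib.FusionIndexP.exists_outer_of_isEssential hS hH.sat hP
  -- the commuting elements lie in the centre
  have hcen : ∀ s : S, (∀ u ∈ P', s * u = u * s) → s ∈ Z := fun s hs => by
    have hsP : s ∈ P' := centralizerIn_le_of_isCentric hP.1
      ⟨s.2, fun u hu => congrArg Subtype.val (hs ⟨u, hPS hu⟩ hu).symm⟩
    refine show (⟨(s : Ω), hsP⟩ : P) ∈ pb hPS Z from hZeq.ge (Subgroup.mem_center_iff.2 fun v => ?_)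
    exact incl_injective hPS (by rw [map_mul, map_mul]; exact (hs _ (incl_mem hPS v)).symm)
  set N₁ := normalizerIn S P with hN₁
  have hN₁S : N₁ ≤ S := normalizerIn_le S P
  have hPN₁ : P ≤ N₁ := hlt.le
  have : Finite N₁ := finite_of_le hN₁S
  set N' := N₁.subgroupOf S
  have hP'N : P' < N' := lt_of_le_of_ne (Subgroup.comap_mono hPN₁) fun h => hlt.ne
    ((inf_eq_left.2 hPS).symm.trans ((Subgroup.subgroupOf_inj.1 h).trans (inf_eq_left.2 hN₁S)))
  have hNne : N' ≠ ⊤ := by
    intro htop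
    haveI hn : P'.Normal := ⟨fun v hv g => by
      have hg : (g : Ω) ∈ N₁ := show g ∈ N' from htop ▸ Subgroup.mem_top g
      exact (Subgroup.mem_normalizer_iff.1 hg.2 v).1 hv⟩
    obtain ⟨A, x₀, hAn, hAP, hx₀P, -, hAsup, hAc, -⟩ := CfsgLib.PGroup.exists_normal_index_prime hS P' hne
    haveI := hAn
    have hA2 : Nat.card A = p ^ 2 := by
      rw [hP'c, pow_succ'] at hAc
      exact (Nat.eq_of_mul_eq_mul_left hp.pos hAc).symm
    have hAcomm : ∀ a ∈ A, ∀ b ∈ A, a * b = b * a := fun a ha b hb =>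
      congrArg Subtype.val ((IsPGroup.isMulCommutative_of_card_eq_prime_sq hA2).is_comm.comm
        (⟨a, ha⟩ : A) ⟨b, hb⟩)
    set C₁ := Subgroup.centralizer (A : Set S)
    have hZA : Z ≤ C₁ := fun s hs => Subgroup.mem_centralizer_iff.2 fun v _ =>
      Subgroup.mem_center_iff.1 hs v
    -- `C₁` has index at most `p`
    obtain ⟨B, b₀, hBn, hBA, hb₀A, -, hBsup, hBc, -⟩ := CfsgLib.PGroup.exists_normal_index_prime hS A
      (fun h => by rw [h, Subgroup.card_bot] at hA2; exact (Nat.one_lt_pow (by norm_num) hp.one_lt).ne hA2)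
    have hBp : Nat.card B = p := by
      rw [hA2, pow_two] at hBc
      exact (Nat.eq_of_mul_eq_mul_left hp.pos hBc).symm
    have hBz := CfsgLib.FusionExtraspecial.le_center_of_card_eq hS hBn hBp
    have hb : ∀ g : S, ⁅g, b₀⁆ ∈ B := fun g => by
      rw [← commutatorElement_inv]
      exact inv_mem (commutator_mem_of_relIndex hS hAn hBn hBA
        (relIndex_of_card hBA (hBp.trans (pow_one p).symm) hA2) hb₀A)
    let f : S →* B :=
      { toFun := fun g => ⟨⁅g, b₀⁆, hb g⟩
        map_one' := Subtype.ext (commutatorElement_one_left b₀)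
        map_mul' := fun g g' => Subtype.ext (by
          show ⁅g * g', b₀⁆ = ⁅g, b₀⁆ * ⁅g', b₀⁆
          calc ⁅g * g', b₀⁆ = g * ⁅g', b₀⁆ * g⁻¹ * ⁅g, b₀⁆ := by simp [commutatorElement_def, mul_assoc]
            _ = ⁅g, b₀⁆ * ⁅g', b₀⁆ := by
              rw [Subgroup.mem_center_iff.1 (hBz (hb g')) g, mul_inv_cancel_right,
                (Subgroup.mem_center_iff.1 (hBz (hb g)) _).symm]) }
    have hfker : f.ker ≤ C₁ := fun g hg => by
      have h1 : g * b₀ = b₀ * g := commutatorElement_eq_one_iff_mul_comm.1 (congrArg Subtype.val hg)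
      have hle : A ≤ Subgroup.centralizer ({g} : Set S) := by
        rw [← hBsup]
        exact sup_le (fun v hv => Subgroup.mem_centralizer_singleton_iff.2
          (Subgroup.mem_center_iff.1 (hBz hv) g).symm)
          (Subgroup.zpowers_le.2 (Subgroup.mem_centralizer_singleton_iff.2 h1.symm))
      exact Subgroup.mem_centralizer_iff.2 fun v hv => Subgroup.mem_centralizer_singleton_iff.1 (hle hv)
    have hker : p ^ 4 ≤ Nat.card f.ker := by
      have h1 := f.ker.card_mul_index
      have h2 : f.ker.index ≤ p := by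
        rw [Subgroup.index_ker, ← hBp]
        exact Subgroup.card_le_card_group _
      rw [hH.card] at h1
      have h3 : p ^ 4 * p ≤ Nat.card f.ker * p := by
        rw [← pow_succ, ← h1]
        exact Nat.mul_le_mul_left _ h2
      exact Nat.le_of_mul_le_mul_right h3 hp.pos
    have hx₀ : ∀ c : S, ⁅c, x₀⁆ ∈ A := fun c => by
      rw [← commutatorElement_inv]
      exact inv_mem (commutator_mem_of_relIndex hS hn hAn hAP (relIndex_of_card hAP hA2 hP'c) hx₀P)
    let k : f.ker →* A :=
      { toFun := fun c => ⟨⁅(c : S), x₀⁆, hx₀ c⟩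
        map_one' := Subtype.ext (commutatorElement_one_left x₀)
        map_mul' := fun c d => Subtype.ext (by
          show ⁅(c : S) * d, x₀⁆ = ⁅(c : S), x₀⁆ * ⁅(d : S), x₀⁆
          calc ⁅(c : S) * d, x₀⁆ = c * ⁅(d : S), x₀⁆ * (c : S)⁻¹ * ⁅(c : S), x₀⁆ := by
                simp [commutatorElement_def, mul_assoc]
            _ = ⁅(c : S), x₀⁆ * ⁅(d : S), x₀⁆ := by
              rw [← (Subgroup.mem_centralizer_iff.1 (hfker c.2)) _ (hx₀ d), mul_inv_cancel_right,
                hAcomm _ (hx₀ d) _ (hx₀ c)]) }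
    have hk : Nat.card k.ker ≤ p := by
      rw [← Subgroup.card_map_of_injective f.ker.subtype_injective, ← hZc]
      refine Subgroup.card_le_of_le ?_
      rintro _ ⟨c, hc, rfl⟩
      refine hcen _ fun u hu => ?_
      have hle : P' ≤ Subgroup.centralizer ({(c : S)} : Set S) := by
        rw [← hAsup]
        exact sup_le (fun v hv => Subgroup.mem_centralizer_singleton_iff.2
          (Subgroup.mem_centralizer_iff.1 (hfker c.2) v hv))
          (Subgroup.zpowers_le.2 (Subgroup.mem_centralizer_singleton_iff.2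
            (commutatorElement_eq_one_iff_mul_comm.1 (congrArg Subtype.val hc)).symm))
      exact (Subgroup.mem_centralizer_singleton_iff.1 (hle hu)).symm
    have h1 := k.ker.card_mul_index
    rw [Subgroup.index_ker] at h1
    have h2 : Nat.card k.range ≤ p ^ 2 := hA2 ▸ Subgroup.card_le_card_group _
    have h3 := hker.trans (h1.symm.trans_le (Nat.mul_le_mul hk h2))
    rw [← pow_succ', Nat.pow_le_pow_iff_right hp.one_lt] at h3
    omega
  have hN'c : Nat.card N' = p ^ 4 := by
    have h1 := mul_card_le_of_lt hS hP'N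
    have h2 := mul_card_le_of_lt hS (lt_top_iff_ne_top.2 hNne)
    rw [hP'c, ← pow_succ'] at h1
    rw [Subgroup.card_top, hH.card, pow_succ' p 4] at h2
    exact le_antisymm (Nat.le_of_mul_le_mul_left h2 hp.pos) h1
  have hN₁c : Nat.card N₁ = p ^ 4 := (card_subgroupOf hN₁S).symm.trans hN'c
  haveI := normal_of_card hH.card hN'c
  set A := ⁅N', N'⁆ with hA
  haveI : A.Normal := by rw [hA]; infer_instance
  have hAmap : (commutator N₁).map (incl hN₁S) = A := map_commutator_eq hN₁S
  have hcenle : (Subgroup.center N₁).map (incl hN₁S) ≤ Z := by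
    rw [map_center_eq hN₁S]
    exact fun s hs => hcen s fun u hu =>
      (Subgroup.mem_centralizer_iff.1 hs.2 u (hP'N.le hu)).symm
  have hcle : Nat.card (Subgroup.center N₁) ≤ p := by
    have := Subgroup.card_le_of_le hcenle
    rwa [Subgroup.card_map_of_injective (incl_injective hN₁S), hZc] at this
  rcases order_p4_cases hN₁c (not_comm_of_card hH hN₁S hN₁c) with ⟨hc, -⟩ | ⟨hc, X, -, -, hZD, -, -, hDc⟩
  · exfalso
    rw [hc] at hcle
    exact absurd ((Nat.pow_le_pow_iff_right hp.one_lt).1 (hcle.trans_eq (pow_one p).symm)) (by omega)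
  have hA2 : Nat.card A = p ^ 2 := by
    rw [← hAmap, Subgroup.card_map_of_injective (incl_injective hN₁S), hDc]
  have hZA : Z ≤ A := by
    have heq : (Subgroup.center N₁).map (incl hN₁S) = Z := Subgroup.eq_of_le_of_card_ge hcenle
      (by rw [Subgroup.card_map_of_injective (incl_injective hN₁S), hc, hZc])
    rw [← heq, ← hAmap]
    exact Subgroup.map_mono hZD
  have hAP : A ≤ P' := by
    rw [hA, Subgroup.commutator_le]
    intro a ha b hb
    haveI hn : (P'.subgroupOf N').Normal := ⟨fun v hv n =>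
      (Subgroup.mem_normalizer_iff.1 (show ((n : S) : Ω) ∈ N₁ from n.2).2 _).1 hv⟩
    have := commutator_mem_of_relIndex (hS.to_subgroup N') (U := ⊤) (V := P'.subgroupOf N') inferInstance hn
      le_top (by
        rw [Subgroup.relIndex_top_right]
        exact relIndex_of_card hP'N.le hP'c hN'c) (g := (⟨b, hb⟩ : N')) (u := (⟨a, ha⟩ : N')) (Subgroup.mem_top _)
    exact this
  have hAV : A ≤ V := by
    rw [hA, Subgroup.commutator_le]
    exact fun a _ b _ => hV.comm a b
  have hrelA : Z.relIndex A = p := relIndex_of_card hZA (hZc.trans (pow_one p).symm) hA2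
  obtain ⟨x, hxA, hxZ⟩ : ∃ x ∈ A, x ∉ Z := by
    by_contra hall
    push Not at hall
    have := Subgroup.card_le_of_le (show A ≤ Z from hall)
    rw [hA2, hZc] at this
    exact absurd ((Nat.pow_le_pow_iff_right hp.one_lt).1 (this.trans_eq (pow_one p).symm)) (by omega)
  have hAgen : A = Z ⊔ Subgroup.zpowers x := le_antisymm (le_sup_zpowers_of_relIndex hS hZA hrelA hxA hxZ)
    (sup_le hZA (Subgroup.zpowers_le.2 hxA))
  set G := F.autGroup P
  have hZinv : ∀ (β : MulAut P), ∀ u ∈ pb hPS Z, β u ∈ pb hPS Z := fun β u hu => by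
    rw [hZeq] at hu ⊢
    exact (Subgroup.characteristic_iff_le_comap.1 inferInstance β) hu
  have hbot : ∀ (β : MulAut P), ∀ u ∈ (⊥ : Subgroup P), β u ∈ (⊥ : Subgroup P) := fun β u hu => by
    rw [Subgroup.mem_bot] at hu ⊢; rw [hu, map_one]
  have hflag : ∀ i < 3, chain (pb hPS A) (pb hPS Z) ⊥ (i + 1) ≤ chain (pb hPS A) (pb hPS Z) ⊥ i ∧
      (chain (pb hPS A) (pb hPS Z) ⊥ (i + 1)).relIndex (chain (pb hPS A) (pb hPS Z) ⊥ i) = p := by
    refine chain_factors3 ?_ (Subgroup.comap_mono hZA) (by rw [relIndex_pb hPS hAP, hrelA])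
      (by rw [card_pb hPS hZP, hZc])
    have h' := (pb hPS A).card_mul_index
    rw [card_pb hPS hAP, hA2, hP3, pow_succ p 2] at h'
    exact Nat.eq_of_mul_eq_mul_left (pow_pos hp.pos 2) h'
  set x' : P := ⟨x, hAP hxA⟩
  obtain ⟨g, hg, hgx⟩ : ∃ g ∈ G, g x' ∉ pb hPS A := by
    by_contra hall
    push Not at hall
    obtain ⟨β, hβ, i, u, hu, hu'⟩ := exists_not_preserve hS hH.sat hP rfl rfl hflag
    exact hu' (chain_invariant (map_mem_pb_of hPS hAP (x := x') hAgen β
      (fun v hv => Subgroup.comap_mono hZA (hZinv β v hv)) (hall β hβ)) (hZinv β) (hbot β) i u hu)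
  obtain ⟨g₀, hg₀, u₀, hu₀⟩ : ∃ g₀ ∈ N', ∃ u ∈ P', ⁅u, g₀⁆ ∉ Z := by
    by_contra hall
    push Not at hall
    refine not_autInducedBy_le_disp hS hH.sat hP (n := 2) (s := chain (pb hPS Z) ⊥ ⊥) rfl rfl
      (fun β _ => chain_invariant (hZinv β) (hbot β) (hbot β)) ?_
    intro a ha
    obtain ⟨g, hg, hgS, rfl⟩ := exists_eq_conjAut ha
    have hgN : (⟨g, hgS⟩ : S) ∈ N' := ⟨hgS, hg⟩
    refine ⟨mem_preserve_of_le (autInducedBy_le_autGroup F hPS (conjAut_mem_autInducedBy hgS hg))
      (chain_invariant (hZinv _) (hbot _) (hbot _)), fun i hi u hu => ?_⟩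
    have key := incl_inv_mul_conjAut hPS hg hgS u
    interval_cases i
    · show _ ∈ pb hPS Z
      rw [mem_pb, key]
      exact hall _ hgN _ (inv_mem (incl_mem hPS u))
    · show _ ∈ (⊥ : Subgroup P)
      refine Subgroup.mem_bot.2 (incl_injective hPS ?_)
      rw [key, map_one, commutatorElement_eq_one_iff_mul_comm]
      exact (Subgroup.mem_center_iff.1 (inv_mem (show incl hPS u ∈ Z from hu)) _).symm
  set A₀ := P ⧸ pb hPS Z
  have hcard : Nat.card A₀ = p ^ 2 := by
    have h1 := (pb hPS Z).card_mul_index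
    rw [card_pb hPS hZP, hZc, hP3, pow_succ' p 2] at h1
    exact Nat.eq_of_mul_eq_mul_left hp.pos h1
  have hAc : ∀ q r : A₀, q * r = r * q :=
    (IsPGroup.isMulCommutative_of_card_eq_prime_sq hcard).is_comm.comm
  set π := QuotientGroup.mk' (pb hPS Z)
  let ρ : G →* MulAut A₀ := actHom G (pb hPS Z) fun β _ => hZinv β
  have hρ : ∀ (β : G) (u : P), ρ β (π u) = π ((β : MulAut P) u) := fun β u => actHom_mk G _ _ β u
  have hg₀n : (g₀ : Ω) ∈ Subgroup.normalizer (P : Set Ω) := (show (g₀ : Ω) ∈ N₁ from hg₀).2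
  set c : G := ⟨conjAut P (g₀ : Ω) hg₀n,
    autInducedBy_le_autGroup F hPS (conjAut_mem_autInducedBy g₀.2 hg₀n)⟩
  have hcu : ∀ u : P, incl hPS (u⁻¹ * (c : MulAut P) u) = ⁅(incl hPS u)⁻¹, g₀⁆ := fun u =>
    incl_inv_mul_conjAut hPS hg₀n g₀.2 u
  have hlp : π x' ^ p = 1 := by
    rw [← map_pow, QuotientGroup.mk'_apply, QuotientGroup.eq_one_iff, mem_pb, map_pow]
    exact pow_mem_of_relIndex hrelA hxA
  obtain ⟨htop, a, -, b, -, h1, h2, h3, h4⟩ := exists_pair ρ hcard hAc
    (l := π x') (by rw [ne_eq, QuotientGroup.mk'_apply, QuotientGroup.eq_one_iff]; exact hxZ) hlp (a := c)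
    (by
      rw [hρ, eq_comm, mk_eq, mem_pb, hcu]
      exact commutator_mem_of_relIndex hS inferInstance inferInstance hZA hrelA (inv_mem hxA))
    (fun q => by
      obtain ⟨u, rfl⟩ := QuotientGroup.mk'_surjective (pb hPS Z) q
      rw [hρ, ← map_inv, ← map_mul, mk_mem_zpowers_iff, hcu]
      refine hAgen.le ?_
      exact Subgroup.commutator_mem_commutator (hP'N.le (inv_mem (incl_mem hPS u))) hg₀)
    (fun he => by
      have h2 : π ((⟨(u₀ : Ω), hu₀.1⟩ : P) * (c : MulAut P) (⟨(u₀ : Ω), hu₀.1⟩ : P)⁻¹) = 1 := by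
        rw [map_mul, ← hρ, he, MulAut.one_apply, map_inv, mul_inv_cancel]
      rw [QuotientGroup.mk'_apply, QuotientGroup.eq_one_iff, mem_pb] at h2
      refine hu₀.2 ?_
      convert h2 using 1
      rw [map_mul]
      show ⁅u₀, g₀⁆ = u₀ * (g₀ * u₀⁻¹ * g₀⁻¹)
      rw [commutatorElement_def]; group)
    (g := ⟨g, hg⟩) (by
      rw [hρ, mk_mem_zpowers_iff]
      exact fun hm => hgx (hAgen.ge hm))
  obtain ⟨d, -, hd1, hd2⟩ := diag_of_pair ρ (hAc (π x') (ρ ⟨g, hg⟩ (π x'))) hlp
    (by rw [← map_pow, hlp, map_one]) h1 h2 h3 h4 (K := ⊤) (Subgroup.mem_top a) (Subgroup.mem_top b)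
    (p - 1) (p - 1) (by rw [Nat.cast_mul, cast_pred]; ring)
  have hinv : ∀ u : P, (d : MulAut P) u * u ∈ pb hPS Z := fun u => by
    rw [← QuotientGroup.eq_one_iff]
    show π ((d : MulAut P) u * u) = 1
    have hq : π u ∈ Subgroup.zpowers (π x') ⊔ Subgroup.zpowers (ρ ⟨g, hg⟩ (π x')) :=
      htop ▸ Subgroup.mem_top _
    have hle : Subgroup.zpowers (π x') ⊔ Subgroup.zpowers (ρ ⟨g, hg⟩ (π x')) ≤
        ({ toFun := fun q => q ^ p, map_one' := one_pow p,
           map_mul' := fun q r => (show Commute q r from hAc q r).mul_pow p } : A₀ →* A₀).ker :=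
      sup_le (Subgroup.zpowers_le.2 hlp) (Subgroup.zpowers_le.2 (by
        show ρ ⟨g, hg⟩ (π x') ^ p = 1
        rw [← map_pow, hlp, map_one]))
    rw [map_mul, ← hρ, apply_eq_pow_of_gen hAc htop _ _ hd1 hd2 (π u), pow_pred (hle hq), inv_mul_cancel]
  have hdA : (d : MulAut P) x' ∈ pb hPS A := by
    refine hAgen.ge ((mk_mem_zpowers_iff hPS x').1 ?_)
    rw [show QuotientGroup.mk' (pb hPS Z) ((d : MulAut P) x') = π x' ^ (p - 1) from (hρ d x').symm.trans hd1]
    exact Subgroup.pow_mem _ (Subgroup.mem_zpowers _) _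
  obtain ⟨β, hβ, hag⟩ := exists_extend hS hH.sat hP.1 hP.2.1 hPN₁ hN₁.symm
    (s := chain (pb hPS A) (pb hPS Z) ⊥) (n := 3) rfl rfl
    (autInducedBy_le_preserve hPS fun g hg hgS => chain_invariant (conjAut_mem_pb hPS hg hgS)
      (conjAut_mem_pb hPS hg hgS) (hbot _)) hflag d.2
    (chain_invariant (map_mem_pb_of hPS hAP (x := x') hAgen _
      (fun v hv => Subgroup.comap_mono hZA (hZinv _ v hv)) hdA) (hZinv _) (hbot _))
  have hdc : Cong hPS V (d : MulAut P) := Cong.of_agree hPN₁ hN₁S hag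
    (cong_of_card4 hH hV (isCentric_mono hP.1 hPN₁ hN₁S) hN₁c hβ)
  have hmem : ∀ u : P, incl hPS u ∈ V := fun u => hV.mem_of_inverted hH hdc (by
    rw [← map_mul]; exact hAV (hZA (hinv u)))
  exact fun u => mul_mem (inv_mem (hmem u)) (hmem _)

end CfsgLib.FusionPFive
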