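import Cfsg.Agent.Lib.FusionPFive.Setting
import Cfsg.Agent.Lib.Fusion.Alperin

/-!
An abelian essential subgroup of order `p³` is not normal in a group of order `p⁵` without abelian
subgroup of index `p`.
-/

set_option autoImplicit false

open Cfsg Cfsg.FusionSystem CfsgLib.Fusion
open scoped commutatorElement

namespace CfsgLib.FusionPFive

variable {Ω : Type*} [Group Ω] {S : Subgroup Ω} {p : ℕ} {F : Cfsg.FusionSystem S}
variable {E : Subgroup Ω}

/-- Two automorphisms of an abelian group stabilising the same series of length two commute. -/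
theorem commute_of_disp {X : Type*} [Group X] (hcomm : ∀ a b : X, a * b = b * a) {K : Subgroup X}
    {σ ρ : MulAut X} (hσ : ∀ k ∈ K, σ k = k) (hσ' : ∀ u, u⁻¹ * σ u ∈ K) (hρ : ∀ k ∈ K, ρ k = k)
    (hρ' : ∀ u, u⁻¹ * ρ u ∈ K) : σ * ρ = ρ * σ := by
  refine MulEquiv.ext fun u => ?_
  simp only [MulAut.mul_apply]
  have e1 : ∀ (f : MulAut X) v, f v = v * (v⁻¹ * f v) := fun f v => (mul_inv_cancel_left _ _).symm
  have f1 : σ (ρ u) = σ u * (u⁻¹ * ρ u) := by
    conv_lhs => rw [e1 ρ u, map_mul, hσ _ (hρ' u)]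
  have f2 : ρ (σ u) = ρ u * (u⁻¹ * σ u) := by
    conv_lhs => rw [e1 σ u, map_mul, hρ _ (hσ' u)]
  rw [f1, f2]
  calc σ u * (u⁻¹ * ρ u) = u⁻¹ * (σ u * ρ u) := by
        rw [← mul_assoc, hcomm (σ u) u⁻¹, mul_assoc]
    _ = ρ u * (u⁻¹ * σ u) := by rw [hcomm (σ u) (ρ u), ← mul_assoc, hcomm u⁻¹ (ρ u), mul_assoc]

variable [Fact p.Prime] [Finite S]

/-- An element conjugating a nontrivial `p`-element of the strongly embedded subgroup into it lies
in it. -/
theorem mem_extendableAut_of_conj (hS : IsPGroup p S) (hF : F.IsSaturated p) (hP : F.IsEssential p E)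
    (hInn : Cfsg.Inn E = ⊥) {s g : MulAut E} (hg : g ∈ F.autGroup E) (hs : s ∈ extendableAut F E)
    (hsp : IsPGroup p (Subgroup.zpowers s)) (hs1 : s ≠ 1) (hgs : g * s * g⁻¹ ∈ extendableAut F E) :
    g ∈ extendableAut F E := by
  obtain ⟨hPc, hPn, -⟩ := id hP
  have hPS : E ≤ S := hPn.1
  have : Finite E := finite_of_le hPS
  have : Finite (MulAut E) := finite_mulAut
  obtain ⟨hlt, -, -⟩ := CfsgLib.FusionIndexP.exists_outer_of_isEssential hS hF hP
  have hrec := isReceptive_of_isFullyNormalized hS hF hPn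
  obtain ⟨-, T, hT⟩ := isFullyAutomized_of_isFullyNormalized hS hF hPn
  let G := F.autGroup E
  set M := (extendableAut F E).subgroupOf G
  have hTM : (T : Subgroup G) ≤ M := hT ▸ fun x hx => autInducedBy_le_extendableAut hS hlt hx
  have conjT : ∀ t : G, t ∈ M → IsPGroup p (Subgroup.zpowers (t : MulAut E)) →
      ∃ m ∈ M, ((m * t * m⁻¹ : G) : MulAut E) ∈ autInducedBy S E := by
    intro t htM htp
    have hX : IsPGroup p ((Subgroup.zpowers t).subgroupOf M) := by
      refine IsPGroup.comap_subtype ?_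
      have h1 := IsPGroup.comap_subtype (K := G) htp
      refine h1.to_le (Subgroup.zpowers_le.2 ?_)
      exact Subgroup.mem_subgroupOf.2 (Subgroup.mem_zpowers _)
    obtain ⟨b, hb⟩ := exists_conj_le_sylow (T.subtype hTM) hX
    have h2 : ((b : G) * t * (b : G)⁻¹) ∈ (T : Subgroup G) := hb ⟨t, htM⟩ (Subgroup.mem_zpowers t)
    rw [hT] at h2
    exact ⟨b, b.2, h2⟩
  have hsG : s ∈ G := extendableAut_le F E hs
  obtain ⟨m₁, hm₁, hs'⟩ := conjT ⟨s, hsG⟩ hs hsp
  obtain ⟨m₂, hm₂, hgs'⟩ := conjT ⟨g * s * g⁻¹, mul_mem (mul_mem hg hsG) (inv_mem hg)⟩ hgs (by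
    have h := hsp.map (MulAut.conj g).toMonoidHom
    rwa [MonoidHom.map_zpowers] at h)
  obtain ⟨n, hn, hnS, he⟩ := exists_eq_conjAut hs'
  set k : G := m₂ * ⟨g, hg⟩ * m₁⁻¹ with hk
  have hnE : n ∉ E := fun hnE => hs1 (by
    have h1 : conjAut E n hn = 1 := by
      rw [← Subgroup.mem_bot, ← hInn]
      exact ⟨⟨n, hnE⟩, MulEquiv.ext fun x => Subtype.ext rfl⟩
    rw [h1] at he
    have := (mul_inv_eq_one.1 (Subtype.ext he : (m₁ * ⟨s, hsG⟩ * m₁⁻¹ : G) = 1))
    exact congrArg Subtype.val (mul_eq_left.1 this))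
  have hkM : (k : MulAut E) ∈ extendableAut F E := by
    refine mem_extendableAut_of_transport hrec k.2 hnS hn hnE ?_
    rw [← he]
    convert hgs' using 1
    simp only [hk, Subgroup.coe_mul, InvMemClass.coe_inv]
    group
  have : ⟨g, hg⟩ ∈ M := by
    have := mul_mem (mul_mem (inv_mem hm₂) (show k ∈ M from hkM)) hm₁
    simpa [hk, mul_assoc] using this
  exact this

/-- An abelian essential subgroup of order `p³` is not normal. -/
theorem not_normal_of_card3 (hH : Hyp p F) (hP : F.IsEssential p E) (hE3 : Nat.card E = p ^ 3)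
    (hcomm : ∀ a b : E, a * b = b * a) : ¬ (E.subgroupOf S).Normal := by
  intro hn
  have hp : p.Prime := Fact.out
  have hS := hH.isP
  have hF := hH.sat
  obtain ⟨hPc, hPn, -⟩ := id hP
  have hPS : E ≤ S := hPn.1
  have : Finite E := finite_of_le hPS
  haveI := hn
  have hnor := normalizerIn_eq_of_normal hn hPS
  have hnorm : ∀ s : S, (s : Ω) ∈ Subgroup.normalizer (E : Set Ω) := fun s =>
    ((show (s : Ω) ∈ normalizerIn S E by rw [hnor]; exact s.2)).2
  have hInn : Cfsg.Inn E = ⊥ := by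
    refine (Subgroup.eq_bot_iff_forall _).2 ?_
    rintro _ ⟨u, rfl⟩
    exact MulEquiv.ext fun v => by
      show u * v * u⁻¹ = v
      rw [hcomm u v, mul_inv_cancel_right]
  set E' := E.subgroupOf S with hE'
  have hE'c : Nat.card E' = p ^ 3 := (card_subgroupOf hPS).trans hE3
  -- a normal subgroup `L'` of order `p²` in `E'` and `L₀` of order `p` in it
  have hne : E' ≠ ⊥ := fun h => by
    rw [h, Subgroup.card_bot] at hE'c
    exact (Nat.one_lt_pow (by norm_num) hp.one_lt).ne hE'c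
  obtain ⟨L, -, hLn, hLE, -, -, -, hLc, -⟩ := CfsgLib.PGroup.exists_normal_index_prime hS E' hne
  haveI := hLn
  have hL2 : Nat.card L = p ^ 2 := by
    rw [hE'c, pow_succ'] at hLc
    exact (Nat.eq_of_mul_eq_mul_left hp.pos hLc).symm
  obtain ⟨L₀, l₀, hL₀n, -, hl₀L, hl₀L₀, hL₀sup, hL₀c, -⟩ := CfsgLib.PGroup.exists_normal_index_prime hS L
    (fun h => by rw [h, Subgroup.card_bot] at hL2; exact (Nat.one_lt_pow (by norm_num) hp.one_lt).ne hL2)
  haveI := hL₀n
  have hL₀p : Nat.card L₀ = p := by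
    rw [hL2, pow_two] at hL₀c
    exact (Nat.eq_of_mul_eq_mul_left hp.pos hL₀c).symm
  have hL₀z := CfsgLib.FusionExtraspecial.le_center_of_card_eq hS hL₀n hL₀p
  have hrelL₀ : L₀.relIndex L = p := relIndex_of_card (by rw [← hL₀sup]; exact le_sup_left)
    (hL₀p.trans (pow_one p).symm) hL2
  have hL₀L : L₀ ≤ L := by rw [← hL₀sup]; exact le_sup_left
  have hrelL : L.relIndex E' = p := relIndex_of_card hLE hL2 hE'c
  -- `C = C_S(L)` has order at least `p⁴`
  have hg0 : ∀ g : S, ⁅g, l₀⁆ ∈ L₀ := fun g => by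
    rw [← commutatorElement_inv]
    exact inv_mem (commutator_mem_of_relIndex hS hLn hL₀n hL₀L hrelL₀ hl₀L)
  let f : S →* L₀ :=
    { toFun := fun g => ⟨⁅g, l₀⁆, hg0 g⟩
      map_one' := Subtype.ext (commutatorElement_one_left l₀)
      map_mul' := fun g g' => Subtype.ext (by
        show ⁅g * g', l₀⁆ = ⁅g, l₀⁆ * ⁅g', l₀⁆
        calc ⁅g * g', l₀⁆ = g * ⁅g', l₀⁆ * g⁻¹ * ⁅g, l₀⁆ := by simp [commutatorElement_def, mul_assoc]
          _ = ⁅g, l₀⁆ * ⁅g', l₀⁆ := by
            rw [Subgroup.mem_center_iff.1 (hL₀z (hg0 g')) g, mul_inv_cancel_right,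
              (Subgroup.mem_center_iff.1 (hL₀z (hg0 g)) _).symm]) }
  have hker : p ^ 4 ≤ Nat.card f.ker := by
    have h1 := f.ker.card_mul_index
    have h2 : f.ker.index ≤ p := by
      rw [Subgroup.index_ker, ← hL₀p]
      exact Subgroup.card_le_card_group _
    rw [hH.card] at h1
    have h3 : p ^ 4 * p ≤ Nat.card f.ker * p := by
      rw [← pow_succ, ← h1]
      exact Nat.mul_le_mul_left _ h2
    exact Nat.le_of_mul_le_mul_right h3 hp.pos
  have hkerL : ∀ g ∈ f.ker, ∀ l ∈ L, g * l = l * g := by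
    intro g hg
    have h1 : g * l₀ = l₀ * g := commutatorElement_eq_one_iff_mul_comm.1 (congrArg Subtype.val hg)
    have hle : L ≤ Subgroup.centralizer ({g} : Set S) := by
      rw [← hL₀sup]
      exact sup_le (fun l hl => Subgroup.mem_centralizer_singleton_iff.2
        (Subgroup.mem_center_iff.1 (hL₀z hl) g).symm)
        (Subgroup.zpowers_le.2 (Subgroup.mem_centralizer_singleton_iff.2 h1.symm))
    exact fun l hl => (Subgroup.mem_centralizer_singleton_iff.1 (hle hl)).symm
  obtain ⟨n, hnk, hnE⟩ : ∃ n ∈ f.ker, n ∉ E' := by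
    by_contra hall
    push Not at hall
    have := hker.trans (Subgroup.card_le_of_le hall)
    rw [hE'c, Nat.pow_le_pow_iff_right hp.one_lt] at this
    omega
  set L' := pb hPS L
  have hL'c : Nat.card L' = p ^ 2 := (card_pb hPS hLE).trans hL2
  set t : MulAut E := conjAut E (n : Ω) (hnorm n)
  set M := extendableAut F E
  have hlt : E < S := (CfsgLib.FusionIndexP.exists_outer_of_isEssential hS hF hP).1
  have hAS : autInducedBy S E ≤ M := autInducedBy_le_extendableAut hS hlt
  have htA : t ∈ autInducedBy S E := conjAut_mem_autInducedBy n.2 _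
  have hne1 : ∀ s : S, s ∉ E' → conjAut E (s : Ω) (hnorm s) ≠ 1 := fun s hsE he =>
    hsE (centralizerIn_le_of_isCentric hPc ⟨s.2, (conjAut_eq_one_iff _).1 he⟩)
  have htfix : ∀ l ∈ L', t l = l := fun l hl => Subtype.ext (by
    rw [conjAut_apply]
    have := congrArg Subtype.val (hkerL n hnk (incl hPS l) hl)
    exact mul_inv_eq_iff_eq_mul.2 this)
  have hAdisp : ∀ (s : S) (u : E), u⁻¹ * conjAut E (s : Ω) (hnorm s) u ∈ L' := fun s u => by
    rw [mem_pb, incl_inv_mul_conjAut hPS (hnorm s) s.2]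
    exact commutator_mem_of_relIndex hS hn hLn hLE hrelL (inv_mem (incl_mem hPS u))
  obtain ⟨v, hv⟩ : ∃ v : E, v ∉ L' := by
    by_contra hall
    push Not at hall
    have : L' = ⊤ := eq_top_iff.2 fun u _ => hall u
    rw [this, Subgroup.card_top, hE3] at hL'c
    exact absurd (Nat.pow_right_injective hp.two_le hL'c) (by omega)
  haveI hL'n : L'.Normal := pb_normal hPS L
  have hEi : L'.index = p := by
    have h := L'.card_mul_index
    rw [hL'c, hE3, pow_succ p 2] at h
    exact Nat.eq_of_mul_eq_mul_left (pow_pos hp.pos 2) h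
  have hdec : ∀ w, w ∉ L' → ∀ u : E, ∃ i : ℕ, (w ^ i)⁻¹ * u ∈ L' := fun w hw u =>
    exists_pow_mem (B := ⊤) (le_sup_zpowers_of_relIndex (hS.to_le hPS) le_top
      (by rw [Subgroup.relIndex_top_right, hEi]) (Subgroup.mem_top w) hw) (Subgroup.mem_top u)
  have hvp : v ^ p ∈ L' := hEi ▸ Subgroup.pow_index_mem L' v
  set d := v⁻¹ * t v with hd
  have hdL : d ∈ L' := hAdisp n v
  have htpow : ∀ (u : E) (i : ℕ), (v ^ i)⁻¹ * u ∈ L' → t u = u * d ^ i := by
    intro u i hu
    have e1 : t u = t v ^ i * ((v ^ i)⁻¹ * u) := by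
      conv_lhs => rw [show u = v ^ i * ((v ^ i)⁻¹ * u) by group, map_mul, map_pow, htfix _ hu]
    rw [e1, show t v = v * d by rw [hd, mul_inv_cancel_left], (show Commute v d from hcomm v d).mul_pow,
      hcomm (v ^ i), mul_assoc, mul_inv_cancel_left, hcomm]
  have ht1 : t ≠ 1 := hne1 n hnE
  have hd1 : d ≠ 1 := fun h1 => ht1 (MulEquiv.ext fun u => by
    obtain ⟨i, hi⟩ := hdec v hv u
    rw [htpow u i hi, h1, one_pow, mul_one, MulAut.one_apply])
  have hdp : d ^ p = 1 := by
    have h1 := htpow (v ^ p) p (by rw [inv_mul_cancel]; exact one_mem _)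
    rw [htfix _ hvp] at h1
    exact mul_eq_left.1 h1.symm
  have hdisp : ∀ u, ∃ i : ℕ, t u = u * d ^ i := fun u => (hdec v hv u).elim fun i hi => ⟨i, htpow u i hi⟩
  have hpgrp : ∀ {s : MulAut E}, s ∈ autInducedBy S E → IsPGroup p (Subgroup.zpowers s) := fun hs =>
    (isPGroup_autInducedBy hS E).to_le (Subgroup.zpowers_le.2 hs)
  have hJ : ∀ {g s : MulAut E}, g ∈ F.autGroup E → s ∈ M → IsPGroup p (Subgroup.zpowers s) → s ≠ 1 →
      g * s * g⁻¹ ∈ M → g ∈ M := fun hg hs hsp hs1 h => mem_extendableAut_of_conj hS hF hP hInn hg hs hsp hs1 h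
  -- outside `M` the element `d` is moved out of `L'`
  have claim : ∀ g ∈ F.autGroup E, g ∉ M → g d ∉ L' := by
    intro g hg hgM hgd
    set t' := g * t * g⁻¹
    have ht'G : t' ∈ F.autGroup E := mul_mem (mul_mem hg (extendableAut_le F E (hAS htA))) (inv_mem hg)
    have ht'd : ∀ u, ∃ i : ℕ, t' u = u * g d ^ i := fun u => by
      obtain ⟨i, hi⟩ := hdisp (g⁻¹ u)
      exact ⟨i, by simp only [t', MulAut.mul_apply, hi, map_mul, map_pow, MulAut.apply_inv_self]⟩
    have ht'gd : t' (g d) = g d := by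
      simp only [t', MulAut.mul_apply, MulAut.inv_apply_self, htfix d hdL]
    have ht'M : t' ∉ M := fun h => hgM (hJ hg (hAS htA) (hpgrp htA) ht1 h)
    by_cases hcom : t' * t = t * t'
    · refine ht'M (hJ ht'G (hAS htA) (hpgrp htA) ht1 ?_)
      rw [hcom, mul_inv_cancel_right]
      exact hAS htA
    set s := t' * t * t'⁻¹ * t⁻¹
    have hsG : s ∈ F.autGroup E := mul_mem (mul_mem (mul_mem ht'G (extendableAut_le F E (hAS htA)))
      (inv_mem ht'G)) (inv_mem (extendableAut_le F E (hAS htA)))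
    have hgL : ∀ i : ℕ, g d ^ i ∈ L' := fun i => pow_mem hgd i
    have hinv' : ∀ u, ∃ i : ℕ, u = t'⁻¹ u * g d ^ i := fun u => by
      obtain ⟨i, hi⟩ := ht'd (t'⁻¹ u)
      rw [MulAut.apply_inv_self] at hi
      exact ⟨i, hi⟩
    have hsd : ∀ u, u⁻¹ * s u ∈ Subgroup.zpowers (g d) := by
      intro u
      obtain ⟨j, hj⟩ := hinv' (t⁻¹ u)
      obtain ⟨k, hk⟩ := ht'd (t (t'⁻¹ (t⁻¹ u)))
      have e1 : u = t (t'⁻¹ (t⁻¹ u)) * g d ^ j := by
        conv_lhs => rw [← MulAut.apply_inv_self _ t u, hj, map_mul, htfix _ (hgL j)]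
      have e2 : s u = t (t'⁻¹ (t⁻¹ u)) * g d ^ k := hk
      rw [e2]
      conv => arg 2; arg 1; rw [e1]
      rw [mul_inv_rev, mul_assoc, inv_mul_cancel_left]
      exact mul_mem (inv_mem (Subgroup.pow_mem _ (Subgroup.mem_zpowers _) j))
        (Subgroup.pow_mem _ (Subgroup.mem_zpowers _) k)
    have hsfix : ∀ l ∈ L', s l = l := by
      intro l hl
      obtain ⟨j, hj⟩ := hinv' l
      have htl : t⁻¹ l = l := by conv_lhs => rw [← htfix l hl, MulAut.inv_apply_self]
      have hl' : t'⁻¹ l ∈ L' := by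
        have := mul_mem hl (inv_mem (hgL j))
        rwa [show l * (g d ^ j)⁻¹ = t'⁻¹ l by conv_lhs => rw [hj, mul_inv_cancel_right]] at this
      simp only [s, MulAut.mul_apply, htl, htfix _ hl', MulAut.apply_inv_self]
    have hs1 : s ≠ 1 := fun h => hcom (by
      rw [mul_inv_eq_one, mul_inv_eq_iff_eq_mul] at h
      exact h)
    have hcomm_t : s * t = t * s := commute_of_disp hcomm (K := L') hsfix
      (fun u => Subgroup.zpowers_le.2 hgd (hsd u)) htfix (fun u => hAdisp n u)
    have hcomm_t' : s * t' = t' * s := commute_of_disp hcomm (K := Subgroup.zpowers (g d))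
      (fun k hk => hsfix k (Subgroup.zpowers_le.2 hgd hk)) hsd
      (fun k hk => by
        obtain ⟨i, rfl⟩ := Subgroup.mem_zpowers_iff.1 hk
        rw [map_zpow, ht'gd])
      (fun u => by
        obtain ⟨i, hi⟩ := ht'd u
        rw [hi, inv_mul_cancel_left]
        exact Subgroup.pow_mem _ (Subgroup.mem_zpowers _) i)
    have hsM : s ∈ M := hJ hsG (hAS htA) (hpgrp htA) ht1 (by
      rw [hcomm_t, mul_inv_cancel_right]; exact hAS htA)
    refine ht'M (hJ ht'G hsM ?_ hs1 (by rw [← hcomm_t', mul_inv_cancel_right]; exact hsM))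
    refine (isPGroup_disp (hS.to_le hPS) (F.autGroup E) (chain L' ⊥ ⊥) 2 rfl rfl).to_le
      (Subgroup.zpowers_le.2 ⟨mem_preserve_of_le hsG (chain_invariant
        (fun u hu => by rw [hsfix u hu]; exact hu)
        (fun u hu => by rw [Subgroup.mem_bot] at hu ⊢; rw [hu, map_one])
        (fun u hu => by rw [Subgroup.mem_bot] at hu ⊢; rw [hu, map_one])), fun i hi u hu => ?_⟩)
    interval_cases i
    · exact Subgroup.zpowers_le.2 hgd (hsd u)
    · show _ ∈ (⊥ : Subgroup E)
      rw [Subgroup.mem_bot, hsfix u hu, inv_mul_cancel]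
  -- an element outside `M`
  obtain ⟨g, hg, hgM⟩ : ∃ g ∈ F.autGroup E, g ∉ M := by
    by_contra hall
    push Not at hall
    exact extendableAut_ne_of_isEssential hS hF hP (le_antisymm (extendableAut_le F E) hall)
  set u := g d
  have hu : u ∉ L' := claim g hg hgM
  have hd' : g⁻¹ d ∉ L' := claim _ (inv_mem hg) fun h => hgM (inv_inv g ▸ inv_mem h)
  set gL := L'.map g.toMonoidHom
  have hdgL : d ∉ gL := by
    rintro ⟨l, hl, hld⟩
    refine hd' ?_
    rw [← hld]
    simpa using hl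
  obtain ⟨i, hi⟩ := hdec v hv u
  have htu : t u = u * d ^ i := htpow u i hi
  have hdig : d ^ i ∉ gL := fun hmem => by
    have hi0 : (i : ZMod p) ≠ 0 := fun h0 => hu (by
      obtain ⟨k, rfl⟩ := (ZMod.natCast_eq_zero_iff i p).1 h0
      rw [show u = v ^ (p * k) * ((v ^ (p * k))⁻¹ * u) by group]
      exact mul_mem (by rw [pow_mul]; exact pow_mem hvp k) hi)
    refine hdgL ?_
    have := pow_mem hmem ((i : ZMod p)⁻¹).val
    rwa [← pow_mul, pow_cast_eq hdp (j := 1) (by
      rw [Nat.cast_mul, ZMod.natCast_zmod_val, mul_inv_cancel₀ hi0, Nat.cast_one]), pow_one] at this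
  obtain ⟨n₁, hn₁⟩ : ∃ n₁ : S, n₁ ∉ E' ⊔ Subgroup.zpowers n := by
    by_contra hall
    push Not at hall
    have hnp : n ^ p ∈ E' := by
      by_contra hnp
      refine hne1 _ hnp (MulEquiv.ext fun u => ?_)
      have hpow : ∀ k : ℕ, conjAut E ((n ^ k : S) : Ω) (hnorm (n ^ k)) = t ^ k := fun k => by
        induction k with
        | zero => exact MulEquiv.ext fun u => Subtype.ext (by simp [conjAut_apply])
        | succ k ih =>
          rw [pow_succ t, ← ih]
          exact MulEquiv.ext fun u => Subtype.ext (by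
            simp [conjAut_apply, MulAut.mul_apply, pow_succ, t, mul_assoc])
      obtain ⟨j, hj⟩ := hdec v hv u
      have hk : ∀ k : ℕ, (t ^ k) u = u * (d ^ j) ^ k := fun k => by
        induction k with
        | zero => simp
        | succ k ih =>
          rw [pow_succ', MulAut.mul_apply, ih, map_mul, map_pow, map_pow, htfix d hdL, htpow u j hj,
            mul_assoc, ← pow_succ']
      rw [hpow, hk, ← pow_mul, mul_comm j, pow_mul, hdp, one_pow, mul_one, MulAut.one_apply]
    have h1 := CfsgLib.PGroup.card_sup_zpowers (p := p) hnE hnp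
    rw [show E' ⊔ Subgroup.zpowers n = ⊤ from eq_top_iff.2 fun g _ => hall g, Subgroup.card_top,
      hH.card, hE'c, ← pow_succ'] at h1
    exact absurd (Nat.pow_right_injective hp.two_le h1) (by omega)
  set a₁ := conjAut E (n₁ : Ω) (hnorm n₁)
  set c := u⁻¹ * a₁ u
  have hc : c ∈ L' := hAdisp n₁ u
  -- `L' = (L' ⊓ gL) ⟨d ^ i⟩`
  have hLle : L' ≤ (L' ⊓ gL) ⊔ Subgroup.zpowers (d ^ i) := by
    have hgLc : Nat.card gL = p ^ 2 := by
      rw [Subgroup.card_map_of_injective (f := g.toMonoidHom) g.injective, hL'c]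
    have hgLi : gL.index = p := by
      have h := gL.card_mul_index
      rw [hgLc, hE3, pow_succ p 2] at h
      exact Nat.eq_of_mul_eq_mul_left (pow_pos hp.pos 2) h
    haveI : gL.Normal := Subgroup.Normal.map inferInstance _ g.surjective
    have hrel : gL.relIndex L' ∣ p := hgLi ▸ Subgroup.relIndex_dvd_index_of_normal gL L'
    have hcard : p ≤ Nat.card (L' ⊓ gL : Subgroup E) := by
      have h := ((L' ⊓ gL).subgroupOf L').card_mul_index
      rw [Nat.card_congr (Subgroup.subgroupOfEquivOfLe inf_le_left).toEquiv, hL'c] at h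
      rw [show ((L' ⊓ gL).subgroupOf L').index = gL.relIndex L' from Subgroup.inf_relIndex_left _ _] at h
      have hle : gL.relIndex L' ≤ p := Nat.le_of_dvd hp.pos hrel
      by_contra hlt'
      push Not at hlt'
      have := Nat.mul_lt_mul_of_lt_of_le hlt' hle hp.pos
      rw [h, pow_two] at this
      exact lt_irrefl _ this
    have hlt' : L' ⊓ gL < (L' ⊓ gL) ⊔ Subgroup.zpowers (d ^ i) := lt_of_le_of_ne le_sup_left
      fun e => hdig (e ▸ Subgroup.mem_sup_right (Subgroup.mem_zpowers _) : d ^ i ∈ L' ⊓ gL).2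
    refine (Subgroup.eq_of_le_of_card_ge (sup_le inf_le_left
      (Subgroup.zpowers_le.2 (pow_mem hdL i))) ?_).ge
    rw [hL'c, pow_two]
    exact (Nat.mul_le_mul_left p hcard).trans (mul_card_le_of_lt (hS.to_le hPS) hlt')
  haveI : (L' ⊓ gL).Normal := ⟨fun w hw r => by rwa [hcomm r w, mul_inv_cancel_right]⟩
  obtain ⟨k, hk⟩ := exists_pow_mem hLle hc
  -- `a = t ^ (-k) a₁`
  set a := (t ^ k)⁻¹ * a₁ with ha
  have haA : a ∈ autInducedBy S E := mul_mem (inv_mem (pow_mem htA k)) (conjAut_mem_autInducedBy n₁.2 _)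
  have hau : a u ∈ gL := by
    have htk : ∀ q : ℕ, (t ^ q) u = u * (d ^ i) ^ q := fun q => by
      induction q with
      | zero => simp
      | succ q ih =>
        rw [pow_succ', MulAut.mul_apply, ih, map_mul, map_pow, map_pow, htfix d hdL, htu, mul_assoc,
          ← pow_succ']
    have htkf : ∀ (q : ℕ) l, l ∈ L' → (t ^ q) l = l := fun q l hl => by
      induction q with
      | zero => simp
      | succ q ih => rw [pow_succ', MulAut.mul_apply, ih, htfix l hl]
    have e1 : (t ^ k) (u * (((d ^ i) ^ k)⁻¹ * c)) = a₁ u := by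
      rw [map_mul, htk, htkf k _ (mul_mem (inv_mem (pow_mem (pow_mem hdL i) k)) hc), mul_assoc,
        mul_inv_cancel_left, mul_inv_cancel_left]
    rw [ha, MulAut.mul_apply, ← e1, MulAut.inv_apply_self]
    exact mul_mem ⟨d, hdL, rfl⟩ hk.2
  have ha1 : a ≠ 1 := by
    intro h1
    rw [ha, inv_mul_eq_one] at h1
    have hpow : conjAut E ((n ^ k : S) : Ω) (hnorm (n ^ k)) = t ^ k := by
      clear hau hk ha haA h1
      induction k with
      | zero => exact MulEquiv.ext fun u => Subtype.ext (by simp [conjAut_apply])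
      | succ k ih =>
        rw [pow_succ t, ← ih]
        exact MulEquiv.ext fun u => Subtype.ext (by
          simp [conjAut_apply, MulAut.mul_apply, pow_succ, t, mul_assoc])
    have hmem : (n ^ k)⁻¹ * n₁ ∈ E' := by
      by_contra hno
      refine hne1 _ hno (MulEquiv.ext fun u => ?_)
      have e1 := congrArg (fun φ : MulAut E => (φ u : E)) (hpow.trans h1)
      refine Subtype.ext ?_
      have e2 := congrArg Subtype.val e1
      rw [conjAut_apply, conjAut_apply] at e2
      rw [conjAut_apply, MulAut.one_apply]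
      simp only [Subgroup.coe_mul, InvMemClass.coe_inv, mul_inv_rev, inv_inv]
      calc ((n ^ k : S) : Ω)⁻¹ * n₁ * u * ((n₁ : Ω)⁻¹ * (n ^ k : S))
          = ((n ^ k : S) : Ω)⁻¹ * ((n₁ : Ω) * u * (n₁ : Ω)⁻¹) * (n ^ k : S) := by group
        _ = u := by rw [← e2]; group
    refine hn₁ ?_
    have := mul_mem (Subgroup.mem_sup_right (S := E') (Subgroup.pow_mem _ (Subgroup.mem_zpowers n) k))
      (Subgroup.mem_sup_left (T := Subgroup.zpowers n) hmem)
    rwa [mul_inv_cancel_left] at this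
  obtain ⟨l, hl, hlu⟩ := hau
  set h := g⁻¹ * a * g
  have hhG : h ∈ F.autGroup E := mul_mem (mul_mem (inv_mem hg) (extendableAut_le F E (hAS haA))) hg
  refine claim h hhG (fun hM => hgM (inv_inv g ▸ inv_mem ?_)) ?_
  · refine hJ (inv_mem hg) (hAS haA) (hpgrp haA) ha1 ?_
    rwa [inv_inv]
  · simp only [h, MulAut.mul_apply]
    rw [show a (g d) = g l from hlu.symm, MulAut.inv_apply_self]
    exact hl

end CfsgLib.FusionPFive
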