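import Cfsg.Agent.Lib.FusionPFive.NCong
import Cfsg.Agent.Lib.FusionPFive.NotNormal
import Cfsg.Agent.Lib.FusionIndexP.Essential

/-!
Abelian essential subgroups of order `p³` in a group of order `p⁵` without abelian subgroup of index
`p`: they force `p = 3` and class three, and their automorphisms are trivial modulo a `Good` subgroup.
-/

set_option autoImplicit false

open Cfsg Cfsg.FusionSystem CfsgLib.Fusion
open scoped commutatorElement IsMulCommutative

namespace CfsgLib.FusionPFive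

variable {Ω : Type*} [Group Ω] {S : Subgroup Ω} {p : ℕ} {F : Cfsg.FusionSystem S}
variable {E N : Subgroup Ω}

/-- An abelian essential subgroup of order `p³` with its normalizer. -/
structure ECtx (p : ℕ) (F : Cfsg.FusionSystem S) (E N : Subgroup Ω) (W D : Subgroup S) (y : S) : Prop where
  hyp : Hyp p F
  ess : F.IsEssential p E
  cardE : Nat.card E = p ^ 3
  commE : ∀ a b : E, a * b = b * a
  le_N : E ≤ N
  N_le : N ≤ S
  normalizer_eq : normalizerIn S E = N
  centric : F.IsCentric N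
  cardN : Nat.card N = p ^ 4
  cardW : Nat.card (Subgroup.center N) = p ^ 2
  cardD : Nat.card (commutator N) = p
  W_eq : W = (Subgroup.center N).map (incl N_le)
  D_eq : D = (commutator N).map (incl N_le)
  W_le : W ≤ E.subgroupOf S
  D_le : D ≤ W
  y_notMem : y ∉ N.subgroupOf S
  comm_notMem : ∀ e ∈ E.subgroupOf S, e ∉ W → ⁅e, y⁆ ∉ W

variable [Fact p.Prime] [Finite S]

theorem exists_ECtx (hH : Hyp p F) (hE : F.IsEssential p E) (hE3 : Nat.card E = p ^ 3)
    (hcomm : ∀ a b : E, a * b = b * a) :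
    ∃ (N : Subgroup Ω) (W D : Subgroup S) (y : S), ECtx p F E N W D y := by
  have hp : p.Prime := Fact.out
  have hS := hH.isP
  have hES : E ≤ S := hE.1.1
  have : Finite E := finite_of_le hES
  obtain ⟨-, hlt, -⟩ := CfsgLib.FusionIndexP.exists_outer_of_isEssential hS hH.sat hE
  set N := normalizerIn S E with hNdef
  have hNS : N ≤ S := normalizerIn_le S E
  have hEN : E ≤ N := hlt.le
  have : Finite N := finite_of_le hNS
  set E' := E.subgroupOf S
  set N' := N.subgroupOf S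
  have hE'c : Nat.card E' = p ^ 3 := (card_subgroupOf hES).trans hE3
  have hEN' : E' < N' := lt_of_le_of_ne (Subgroup.comap_mono hEN) fun h => hlt.ne
    ((inf_eq_left.2 hES).symm.trans ((Subgroup.subgroupOf_inj.1 h).trans (inf_eq_left.2 hNS)))
  have hNt : N' ≠ ⊤ := fun h => by
    have hn : normalizerIn S E = S := le_antisymm hNS (Subgroup.subgroupOf_eq_top.1 h)
    refine not_normal_of_card3 hH hE hE3 hcomm ⟨fun u hu s => ?_⟩
    have hs : (s : Ω) ∈ normalizerIn S E := by rw [hn]; exact s.2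
    exact (Subgroup.mem_normalizer_iff.1 hs.2 u).1 hu
  have hN'c : Nat.card N' = p ^ 4 := by
    have h1 := mul_card_le_of_lt hS hEN'
    have h2 := mul_card_le_of_lt hS (lt_top_iff_ne_top.2 hNt)
    rw [hE'c, ← pow_succ'] at h1
    rw [Subgroup.card_top, hH.card, pow_succ' p 4] at h2
    exact le_antisymm (Nat.le_of_mul_le_mul_left h2 hp.pos) h1
  have hcN : Nat.card N = p ^ 4 := (card_subgroupOf hNS).symm.trans hN'c
  haveI hN'n : N'.Normal := normal_of_card hH.card hN'c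
  obtain ⟨y, hy⟩ : ∃ y, y ∉ N' := by
    by_contra h
    push Not at h
    exact hNt (eq_top_iff.2 fun g _ => h g)
  have hEc : ∀ a ∈ E', ∀ b ∈ E', a * b = b * a := fun a ha b hb =>
    Subtype.ext (congrArg Subtype.val (hcomm ⟨a, ha⟩ ⟨b, hb⟩) :)
  set Ey := E'.map (MulAut.conj y).toMonoidHom
  have hEyN : Ey ≤ N' := by
    rintro _ ⟨u, hu, rfl⟩
    exact hN'n.conj_mem u (hEN'.le hu) y
  have hEyc : Nat.card Ey = p ^ 3 :=
    (Subgroup.card_map_of_injective (f := (MulAut.conj y).toMonoidHom) (MulAut.conj y).injective).trans hE'c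
  have hEy : ¬ Ey ≤ E' := fun h => hy (by
    have heq : Ey = E' := Subgroup.eq_of_le_of_card_ge h (hE'c.trans hEyc.symm).le
    refine Subgroup.mem_subgroupOf.2 ⟨y.2, Subgroup.mem_normalizer_iff.2 fun u => ⟨fun hu => ?_, fun hu => ?_⟩⟩
    · exact show (y * ⟨u, hES hu⟩ * y⁻¹ : S) ∈ E' from heq ▸ ⟨⟨u, hES hu⟩, hu, rfl⟩
    · have huS : u ∈ S := by
        have := S.mul_mem (S.mul_mem (S.inv_mem y.2) (hES hu)) y.2
        simpa [mul_assoc] using this
      obtain ⟨v, hv, hvu⟩ := heq.ge (show (y * ⟨u, huS⟩ * y⁻¹ : S) ∈ E' from hu)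
      rw [show (MulAut.conj y).toMonoidHom v = y * v * y⁻¹ from rfl] at hvu
      have e1 : v = ⟨u, huS⟩ := mul_left_cancel (mul_right_cancel hvu)
      rw [e1] at hv
      exact hv)
  have hsup : N' ≤ E' ⊔ Ey := by
    obtain ⟨u, hu, hu'⟩ := SetLike.not_le_iff_exists.1 hEy
    exact (le_sup_zpowers_of_relIndex hS hEN'.le (relIndex_of_card hEN'.le hE'c hN'c) (hEyN hu) hu').trans
      (sup_le le_sup_left (Subgroup.zpowers_le.2 (Subgroup.mem_sup_right hu)))
  have hW0 : p ^ 2 ≤ Nat.card (E' ⊓ Ey : Subgroup S) := by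
    have h1 : E'.relIndex Ey ≤ p := by
      rw [← relIndex_of_card hEN'.le hE'c hN'c]
      exact Subgroup.relIndex_le_of_le_right hEyN (by rw [relIndex_of_card hEN'.le hE'c hN'c]; exact hp.ne_zero)
    have h2 := ((E' ⊓ Ey).subgroupOf Ey).card_mul_index
    rw [Nat.card_congr (Subgroup.subgroupOfEquivOfLe inf_le_right).toEquiv, hEyc,
      show ((E' ⊓ Ey).subgroupOf Ey).index = E'.relIndex Ey from Subgroup.inf_relIndex_right _ _] at h2
    have h3 : p ^ 2 * p ≤ Nat.card (E' ⊓ Ey : Subgroup S) * p := by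
      rw [← pow_succ, ← h2]; exact Nat.mul_le_mul_left _ h1
    exact Nat.le_of_mul_le_mul_right h3 hp.pos
  have hW0c : ∀ w ∈ E' ⊓ Ey, ∀ n ∈ N', n * w = w * n := by
    intro w hw n hn
    have hle : E' ⊔ Ey ≤ Subgroup.centralizer ({w} : Set S) := by
      refine sup_le (fun u hu => Subgroup.mem_centralizer_singleton_iff.2 (hEc u hu w hw.1)) ?_
      rintro _ ⟨u, hu, rfl⟩
      obtain ⟨v, hv, hvw⟩ := hw.2
      rw [← hvw]
      exact Subgroup.mem_centralizer_singleton_iff.2 (((show Commute u v from hEc u hu v hv).map _).eq)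
    exact Subgroup.mem_centralizer_singleton_iff.1 (hle (hsup hn))
  set W := (Subgroup.center N).map (incl hNS) with hW
  have hW0W : E' ⊓ Ey ≤ W := fun w hw => by
    rw [hW, map_center_eq hNS]
    exact ⟨hEN'.le hw.1, Subgroup.mem_centralizer_iff.2 fun n hn => hW0c w hw n hn⟩
  have hWc : Nat.card W = Nat.card (Subgroup.center N) :=
    Subgroup.card_map_of_injective (incl_injective hNS)
  rcases order_p4_cases hcN (not_comm_of_card hH hNS hcN) with ⟨hZ, hD⟩ | ⟨hZ, -⟩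
  swap
  · have := hW0.trans (Subgroup.card_le_of_le hW0W)
    rw [hWc, hZ] at this
    exact absurd ((Nat.pow_le_pow_iff_right hp.one_lt).1 (this.trans_eq (pow_one p).symm)) (by omega)
  have hWeq : E' ⊓ Ey = W := Subgroup.eq_of_le_of_card_ge hW0W (by rw [hWc, hZ]; exact hW0)
  have hWE : W ≤ E' := hWeq ▸ inf_le_left
  haveI : W.Normal := by rw [hW, map_center_eq hNS]; infer_instance
  refine ⟨N, W, (commutator N).map (incl hNS), y, hH, hE, hE3, hcomm, hEN, hNS, rfl,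
    isCentric_mono hE.1 hEN hNS, hcN, hZ, hD, rfl, rfl, hWE, Subgroup.map_mono
    (CfsgLib.FusionExtraspecial.le_center_of_card_eq (IsPGroup.of_card hcN) inferInstance hD), hy, ?_⟩
  intro e he heW hx
  apply hEy
  rintro _ ⟨u, hu, rfl⟩
  obtain ⟨i, hi⟩ := exists_pow_mem (le_sup_zpowers_of_relIndex hS hWE
    (relIndex_of_card hWE (hWc.trans hZ) hE'c) he heW) hu
  have hye : y * e * y⁻¹ ∈ E' := by
    have h1 := mul_mem (inv_mem (hWE hx)) he
    rwa [show ⁅e, y⁆⁻¹ * e = y * e * y⁻¹ by rw [commutatorElement_def]; group] at h1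
  have h2 := mul_mem (pow_mem hye i) (hWE ((inferInstance : W.Normal).conj_mem _ hi y))
  show y * u * y⁻¹ ∈ E'
  rw [show (y * e * y⁻¹) ^ i = y * e ^ i * y⁻¹ from conj_pow] at h2
  convert h2 using 1
  group

variable {W D : Subgroup S} {y : S}

theorem ECtx.W_normal (h : ECtx p F E N W D y) : W.Normal := by
  haveI := normal_of_card h.hyp.card ((card_subgroupOf h.N_le).trans h.cardN)
  rw [h.W_eq, map_center_eq h.N_le]; infer_instance

theorem ECtx.E_le (h : ECtx p F E N W D y) : E ≤ S := h.le_N.trans h.N_le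

theorem ECtx.W_central (h : ECtx p F E N W D y) {w n : S} (hw : w ∈ W) (hn : n ∈ N.subgroupOf S) :
    n * w = w * n := by
  rw [h.W_eq, map_center_eq h.N_le] at hw
  exact Subgroup.mem_centralizer_iff.1 hw.2 n hn

theorem ECtx.cardW' (h : ECtx p F E N W D y) : Nat.card W = p ^ 2 := by
  rw [h.W_eq, Subgroup.card_map_of_injective (incl_injective h.N_le), h.cardW]

theorem ECtx.cardD' (h : ECtx p F E N W D y) : Nat.card D = p := by
  rw [h.D_eq, Subgroup.card_map_of_injective (incl_injective h.N_le), h.cardD]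

theorem ECtx.comm_mem (h : ECtx p F E N W D y) {a b : S} (ha : a ∈ N.subgroupOf S)
    (hb : b ∈ N.subgroupOf S) : ⁅a, b⁆ ∈ D := by
  rw [h.D_eq, map_commutator_eq h.N_le]
  exact Subgroup.commutator_mem_commutator ha hb

theorem ECtx.index_pbW (h : ECtx p F E N W D y) : (pb h.E_le W).index = p := by
  have hp : p.Prime := Fact.out
  have h' := (pb h.E_le W).card_mul_index
  rw [card_pb h.E_le h.W_le, h.cardW', h.cardE, pow_succ p 2] at h'
  exact Nat.eq_of_mul_eq_mul_left (pow_pos hp.pos 2) h'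

/-- The invariant decomposition of `E`. -/
structure EDec (p : ℕ) (F : Cfsg.FusionSystem S) (E : Subgroup Ω) (hES : E ≤ S) (W D : Subgroup S)
    (W' : Subgroup E) (l l₁ : E) : Prop where
  W'_le : W' ≤ pb hES W
  l_mem : l ∈ pb hES W
  l_notMem : l ∉ W'
  sup_eq : W' ⊔ Subgroup.zpowers l = pb hES W
  inf_eq : W' ⊓ (Subgroup.zpowers l ⊔ Subgroup.zpowers l₁) = ⊥
  W'_inv : ∀ g ∈ F.autGroup E, ∀ u ∈ W', g u ∈ W'
  D_eq : Subgroup.zpowers (incl hES l) = D
  sup_top : W' ⊔ Subgroup.zpowers l ⊔ Subgroup.zpowers l₁ = ⊤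
  E₀_inv : ∀ g ∈ F.autGroup E, ∀ u ∈ Subgroup.zpowers l ⊔ Subgroup.zpowers l₁,
    g u ∈ Subgroup.zpowers l ⊔ Subgroup.zpowers l₁
  exists_k : ∃ k ∈ F.autGroup E, (∀ u ∈ pb hES W, k u = u) ∧ (∀ u, u⁻¹ * k u ∈ Subgroup.zpowers l) ∧
    ∃ u, u⁻¹ * k u = l
  exists_back : ∀ g ∈ F.autGroup E, ∃ a ∈ F.autGroup E, (∀ u ∈ W', a u = u) ∧
    ∀ u ∈ pb hES W, a (g u) ∈ pb hES W
  exists_neg : ∃ τ ∈ F.autGroup E, (∀ u ∈ W', τ u = u) ∧ τ l = l⁻¹ ∧ τ l₁ = l₁⁻¹

theorem ECtx.exists_EDec (h : ECtx p F E N W D y) :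
    ∃ (W' : Subgroup E) (l l₁ : E), EDec p F E h.E_le W D W' l l₁ := by
  have hp : p.Prime := Fact.out
  haveI : IsMulCommutative E := ⟨⟨h.commE⟩⟩
  haveI := h.W_normal
  have hES := h.E_le
  have : Finite E := finite_of_le hES
  have hsub : (W.map S.subtype).subgroupOf E = pb hES W := by
    ext u
    constructor
    · rintro ⟨w, hw, he⟩
      exact mem_pb.2 (show incl hES u ∈ W by rwa [show incl hES u = w from Subtype.ext he.symm])
    · exact fun hu => ⟨incl hES u, hu, rfl⟩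
  obtain ⟨W', l, l₁, hsp, hstab, -⟩ := CfsgLib.FusionIndexP.exists_split_of_essential h.hyp.isP h.hyp.sat
    (Z₀ := W.map S.subtype) h.ess
    (by rintro _ ⟨w, hw, rfl⟩; exact h.W_le hw)
    (by show ((W.map S.subtype).subgroupOf E).index = p
        rw [hsub]; exact h.index_pbW)
    (by
      rintro g hg _ ⟨w, hw, rfl⟩
      rw [h.normalizer_eq] at hg
      exact congrArg Subtype.val (h.W_central hw (n := ⟨g, h.N_le hg⟩) hg))
    (by
      rintro g hg x hx
      rw [h.normalizer_eq] at hg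
      refine ⟨⁅(⟨x, hES hx⟩ : S)⁻¹, ⟨g, h.N_le hg⟩⁆, h.D_le (h.comm_mem (inv_mem (h.le_N hx)) hg), ?_⟩
      simp [commutatorElement_def, mul_assoc])
  rw [hsub] at hsp hstab
  obtain ⟨k, hk, u, hlu⟩ := hsp.l_eq
  have hl1 : l ≠ 1 := fun e => hsp.l_notMem (e ▸ one_mem _)
  have hlD : incl hES l ∈ D := by
    obtain ⟨g, hg, hgS, he⟩ := exists_eq_conjAut (hstab ▸ hk : k ∈ autInducedBy S E)
    rw [hlu, he, incl_inv_mul_conjAut hES hg hgS]
    exact h.comm_mem (inv_mem (h.le_N u.2)) (show g ∈ N from h.normalizer_eq ▸ ⟨hgS, hg⟩)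
  have hlo : orderOf l = p := orderOf_eq_prime hsp.l_pow hl1
  refine ⟨W', l, l₁, hsp.W_le, hsp.l_mem, hsp.l_notMem, hsp.W_sup, ?_, hsp.W_inv, ?_,
    by rw [hsp.W_sup]; exact hsp.sup_top, hsp.E_inv,
    ⟨k, hk.1, hk.2.1, hsp.stab_mem k hk, u, hlu.symm⟩, hsp.exists_back, hsp.exists_neg⟩
  · exact hsp.W_inf
  · refine Subgroup.eq_of_le_of_card_ge (Subgroup.zpowers_le.2 hlD) ?_
    rw [h.cardD', ← MonoidHom.map_zpowers, Subgroup.card_map_of_injective (incl_injective hES),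
      Nat.card_zpowers, hlo]

variable {W' : Subgroup E} {l l₁ : E}

theorem EDec.card_W' (h : ECtx p F E N W D y) (d : EDec p F E h.E_le W D W' l l₁) :
    Nat.card W' = p ∧ W'.relIndex (pb h.E_le W) = p := by
  have hp : p.Prime := Fact.out
  have : Finite E := finite_of_le h.E_le
  have hEp : IsPGroup p E := h.hyp.isP.to_le h.E_le
  have hlo : Nat.card (Subgroup.zpowers l) = p := by
    rw [← h.cardD', ← d.D_eq, ← MonoidHom.map_zpowers,
      Subgroup.card_map_of_injective (incl_injective h.E_le)]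
  have hWc : Nat.card (pb h.E_le W) = p ^ 2 := (card_pb h.E_le h.W_le).trans h.cardW'
  have hlt : W' < pb h.E_le W := lt_of_le_of_ne d.W'_le fun e => d.l_notMem (e ▸ d.l_mem)
  have h1 := mul_card_le_of_lt hEp hlt
  rw [hWc, pow_two] at h1
  have h2 : W' ≠ ⊥ := fun e => by
    have := d.sup_eq
    rw [e, bot_sup_eq] at this
    rw [← this, hlo] at hWc
    exact absurd (Nat.pow_right_injective hp.two_le ((pow_one p).trans hWc)) (by omega)
  have h3 := mul_card_le_of_lt hEp (bot_lt_iff_ne_bot.2 h2)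
  rw [Subgroup.card_bot, mul_one] at h3
  have hc : Nat.card W' = p := le_antisymm (Nat.le_of_mul_le_mul_left h1 hp.pos) h3
  exact ⟨hc, relIndex_of_card d.W'_le (hc.trans (pow_one p).symm) hWc⟩

/-- An automorphism preserving `W` extends to `N`. -/
theorem EDec.exists_ext (h : ECtx p F E N W D y) (d : EDec p F E h.E_le W D W' l l₁) {α : MulAut E}
    (hα : α ∈ F.autGroup E) (hW : ∀ u ∈ pb h.E_le W, α u ∈ pb h.E_le W) :
    ∃ β ∈ F.autGroup N, Agree h.le_N α β := by
  haveI := h.W_normal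
  have : Finite E := finite_of_le h.E_le
  refine exists_extend h.hyp.isP h.hyp.sat h.ess.1 h.ess.2.1 h.le_N h.normalizer_eq
    (s := chain (pb h.E_le W) W' ⊥) (n := 3) rfl rfl ?_
    (chain_factors3 h.index_pbW d.W'_le (d.card_W' h).2 (d.card_W' h).1) hα
    (chain_invariant hW (d.W'_inv α hα) (fun u hu => by rw [Subgroup.mem_bot] at hu ⊢; rw [hu, map_one]))
  refine autInducedBy_le_preserve h.E_le fun g hg hgS => chain_invariant (conjAut_mem_pb h.E_le hg hgS)
    (fun u hu => d.W'_inv _ (autInducedBy_le_autGroup F h.E_le (conjAut_mem_autInducedBy hgS hg)) u hu)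
    (fun u hu => by rw [Subgroup.mem_bot] at hu ⊢; rw [hu, map_one])

/-- Exponents of an automorphism of `E` inverting or scaling `l`. -/
theorem EDec.diag_rel (h : ECtx p F E N W D y) (d : EDec p F E h.E_le W D W' l l₁) {e z : S}
    (hN : NSet p F N W e y ⁅e, y⁆ z) (he : e ∈ E.subgroupOf S) (heW : e ∉ W)
    {ν μ : ℕ} (hνμ : ((ν * μ : ℕ) : ZMod p) = 1) {a : MulAut E} (ha : a ∈ F.autGroup E)
    (haW : ∀ u ∈ W', a u = u) (hal : a l = l ^ ν)
    (hae : ((incl h.E_le ⟨e, he⟩) ^ μ)⁻¹ * incl h.E_le (a ⟨e, he⟩) ∈ W) :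
    (p = 3 ∧ ¬ W ≤ Subgroup.center S ∧ ⁅⁅e, y⁆, y⁆ ∈ Subgroup.zpowers z) ∨
      ((¬ W ≤ Subgroup.center S → (μ : ZMod p) ^ 2 = 1) ∧
        (⁅⁅e, y⁆, y⁆ ∈ Subgroup.zpowers z ∨ (ν : ZMod p) ^ 5 = 1)) := by
  have hp : p.Prime := Fact.out
  haveI := h.W_normal
  haveI := hN.normal_N
  have : Finite E := finite_of_le h.E_le
  have haWinv : ∀ u ∈ pb h.E_le W, a u ∈ pb h.E_le W := by
    intro u hu
    have hle : W' ⊔ Subgroup.zpowers l ≤ (pb h.E_le W).comap a.toMonoidHom :=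
      sup_le (fun v hv => d.W'_le (show a v ∈ W' from d.W'_inv a ha v hv)) (Subgroup.zpowers_le.2 (by
        show a l ∈ pb h.E_le W
        rw [hal]; exact pow_mem d.l_mem ν))
    exact hle (d.sup_eq.ge hu)
  obtain ⟨β, hβ, hag⟩ := d.exists_ext h ha haWinv
  by_cases hX : β ⟨((⁅e, y⁆ : S) : Ω), hN.data.x_mem⟩ ∈ pb hN.le (W ⊔ Subgroup.zpowers ⁅e, y⁆)
  swap
  · exact Or.inl (hN.of_move h.hyp hβ hX)
  right
  obtain ⟨γ, -, hag'⟩ := hN.exists_top h.hyp hβ hX
  have hag'' : Agree h.E_le a γ := hag.trans hag'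
  have hDz : Subgroup.zpowers z = D := by
    refine Subgroup.eq_of_le_of_card_ge (Subgroup.zpowers_le.2 ?_) ?_
    · rw [hN.data.z_def]
      exact h.comm_mem (h.le_N he) hN.data.x_mem
    · rw [h.cardD', Nat.card_zpowers, hN.data.z_order]
  have hγe : (e ^ μ)⁻¹ * γ e ∈ W ⊔ Subgroup.zpowers ⁅e, y⁆ := by
    refine Subgroup.mem_sup_left ?_
    rw [show γ e = incl h.E_le (a ⟨e, he⟩) from hag'' ⟨e, he⟩]
    exact hae
  obtain ⟨b, hb⟩ := exists_pow_mem (A := N.subgroupOf S) (B := ⊤) (y := y)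
    (fun g _ => hN.y_generates g) (Subgroup.mem_top (γ y))
  obtain ⟨-, r2, r3, r4⟩ := hN.data.rel γ hγe hb
  have hγl : γ (incl h.E_le l) = incl h.E_le l ^ ν := by
    rw [show γ (incl h.E_le l) = incl h.E_le (a l) from hag'' l, hal, map_pow]
  have hz : γ z = z ^ ν := by
    obtain ⟨i, hi⟩ := Subgroup.mem_zpowers_iff.1 ((d.D_eq.trans hDz.symm).ge (Subgroup.mem_zpowers z))
    rw [← hi, map_zpow, hγl, ← zpow_natCast, ← zpow_natCast, ← zpow_mul, ← zpow_mul, mul_comm]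
  push_cast at hνμ
  have hb3 : (b : ZMod p) = (ν : ZMod p) ^ 3 := by
    have h1 := cast_eq_of_pow_eq (p := p) (fun e' => by
      have := hN.data.z_order; rw [e', orderOf_one] at this; exact hp.ne_one this.symm)
      (hN.data.z_order ▸ pow_orderOf_eq_one z) (hz.symm.trans r2)
    push_cast at h1
    linear_combination (-(ν : ZMod p) ^ 2) * h1 - ((b : ZMod p) * ((ν : ZMod p) * μ + 1)) * hνμ
  have hfix : ∀ u ∈ W', γ (incl h.E_le u) = incl h.E_le u := fun u hu => by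
    rw [show γ (incl h.E_le u) = incl h.E_le (a u) from hag'' u, haW u hu]
  have hW1 : ∀ w ∈ W, (w ^ 1)⁻¹ * γ w ∈ Subgroup.zpowers z := by
    intro w hw
    haveI := hN.data.zpowers_normal
    have hwm : (⟨w, h.W_le hw⟩ : E) ∈ W' ⊔ Subgroup.zpowers l := d.sup_eq.ge hw
    have hle : W' ⊔ Subgroup.zpowers l ≤ ((QuotientGroup.mk' (Subgroup.zpowers z)).comp
        (γ.toMonoidHom.comp (incl h.E_le))).eqLocus
        ((QuotientGroup.mk' (Subgroup.zpowers z)).comp (incl h.E_le)) := by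
      refine sup_le (fun v hv => ?_) (Subgroup.zpowers_le.2 ?_)
      · exact congrArg (QuotientGroup.mk' (Subgroup.zpowers z)) (hfix v hv)
      · have hlz : incl h.E_le l ∈ Subgroup.zpowers z := hDz.ge (d.D_eq.le (Subgroup.mem_zpowers _))
        show QuotientGroup.mk' (Subgroup.zpowers z) (γ (incl h.E_le l)) = QuotientGroup.mk' _ (incl h.E_le l)
        rw [hγl, mk_eq]
        exact mul_mem (inv_mem (pow_mem hlz ν)) hlz
    rw [pow_one, ← mk_eq]
    exact (hle hwm).symm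
  refine ⟨fun hWc => ?_, ?_⟩
  · have hex : ∃ u ∈ W', incl h.E_le u ∉ Subgroup.center S := by
      by_contra hall
      push Not at hall
      refine hWc fun w hw => ?_
      have hle : W' ⊔ Subgroup.zpowers l ≤ (Subgroup.center S).comap (incl h.E_le) :=
        sup_le hall (Subgroup.zpowers_le.2 (show incl h.E_le l ∈ Subgroup.center S from
          (Subgroup.zpowers_le.2 hN.data.z_central) (hDz.ge (d.D_eq.le (Subgroup.mem_zpowers _)))))
      exact hle (show (⟨w, h.W_le hw⟩ : E) ∈ W' ⊔ Subgroup.zpowers l from d.sup_eq.ge hw)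
    obtain ⟨u, hu, huc⟩ := hex
    have := r3 1 _ (show incl h.E_le u ∈ W from d.W'_le hu) huc (hW1 _ (d.W'_le hu))
    rw [hb3, Nat.cast_one] at this
    linear_combination (-(μ : ZMod p) ^ 3) * this +
      (1 - (μ : ZMod p) ^ 2) * (((μ : ZMod p) * ν) ^ 2 + (μ : ZMod p) * ν + 1) * hνμ
  · rcases r4 1 (hW1 _ (hN.data.x_comm y)) with ht | ht
    · exact Or.inl ht
    · refine Or.inr ?_
      rw [hb3, Nat.cast_one] at ht
      linear_combination -ht - (ν : ZMod p) ^ 5 * hνμ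

/-- An abelian essential subgroup of order `p³` forces `p = 3` and class three. -/
theorem ECtx.base (h : ECtx p F E N W D y) :
    ∃ (e z : S), NSet p F N W e y ⁅e, y⁆ z ∧ p = 3 ∧ ¬ W ≤ Subgroup.center S ∧
      ⁅⁅e, y⁆, y⁆ ∈ Subgroup.zpowers z := by
  have hp : p.Prime := Fact.out
  obtain ⟨W', l, l₁, d⟩ := h.exists_EDec
  haveI := h.W_normal
  have hES := h.E_le
  have : Finite E := finite_of_le hES
  set G := F.autGroup E
  obtain ⟨k, hk, hkW, hkd, u₀, hu₀⟩ := d.exists_k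
  haveI : W'.Normal := ⟨fun w hw r => by rwa [h.commE r w, mul_inv_cancel_right]⟩
  set π := QuotientGroup.mk' W' with hπ
  have hcard : Nat.card (E ⧸ W') = p ^ 2 := by
    have h1 := W'.card_mul_index
    rw [(d.card_W' h).1, h.cardE, pow_succ' p 2] at h1
    exact Nat.eq_of_mul_eq_mul_left hp.pos h1
  have hAc : ∀ q r : E ⧸ W', q * r = r * q := fun q r => by
    obtain ⟨u, rfl⟩ := QuotientGroup.mk'_surjective W' q
    obtain ⟨v, rfl⟩ := QuotientGroup.mk'_surjective W' r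
    rw [← map_mul, ← map_mul, h.commE]
  let ρ : G →* MulAut (E ⧸ W') := actHom G W' d.W'_inv
  have hρ : ∀ (β : G) (u : E), ρ β (π u) = π ((β : MulAut E) u) := fun β u => actHom_mk G _ _ β u
  have hl1 : π l ≠ 1 := by
    rw [ne_eq, hπ, QuotientGroup.mk'_apply, QuotientGroup.eq_one_iff]; exact d.l_notMem
  have hlp : l ^ p = 1 := by
    refine incl_injective hES ?_
    have := pow_card_eq_one' (x := (⟨incl hES l, d.D_eq.le (Subgroup.mem_zpowers _)⟩ : D))
    rw [h.cardD'] at this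
    rw [map_pow, map_one]
    exact congrArg Subtype.val this
  obtain ⟨g, hg, hgl⟩ : ∃ g ∈ G, g l ∉ pb hES W := by
    by_contra hall
    push Not at hall
    obtain ⟨α, hα, i, u, hu, hu'⟩ := exists_not_preserve h.hyp.isP h.hyp.sat h.ess (n := 3)
      (s := chain (pb hES W) W' ⊥) rfl rfl (chain_factors3 h.index_pbW d.W'_le (d.card_W' h).2 (d.card_W' h).1)
    refine hu' (chain_invariant (fun v hv => ?_) (d.W'_inv α hα)
      (fun v hv => by rw [Subgroup.mem_bot] at hv ⊢; rw [hv, map_one]) i u hu)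
    have hle : W' ⊔ Subgroup.zpowers l ≤ (pb hES W).comap α.toMonoidHom :=
      sup_le (fun w hw => d.W'_le (d.W'_inv α hα w hw)) (Subgroup.zpowers_le.2 (hall α hα))
    exact hle (d.sup_eq.ge hv)
  have hmemW : ∀ v, π v ∈ Subgroup.zpowers (π l) → v ∈ pb hES W := fun v hv =>
    d.sup_eq.le ((mem_sup_iff_mk (W := W') (x := l)).2 hv)
  obtain ⟨-, a, haK, b, hbK, h1, h2, h3, h4⟩ := exists_pair ρ hcard hAc hl1
    (by rw [← map_pow, hlp, map_one]) (a := ⟨k, hk⟩)
    (by rw [hρ, hkW l d.l_mem])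
    (fun q => by
      obtain ⟨u, rfl⟩ := QuotientGroup.mk'_surjective W' q
      rw [hρ, ← map_inv, ← map_mul, ← MonoidHom.map_zpowers]
      exact Subgroup.mem_map_of_mem π (hkd u))
    (fun he => hl1 (by
      rw [← hu₀, map_mul, map_inv, ← hρ ⟨k, hk⟩, he, MulAut.one_apply, inv_mul_cancel]))
    (g := ⟨g, hg⟩) (fun hm => hgl (hmemW _ (by rwa [hρ] at hm)))
  set K : Subgroup G := Subgroup.normalClosure ({⟨k, hk⟩} : Set G)
  have hKfix : ∀ β ∈ K, ∀ u ∈ W', (β : MulAut E) u = u := by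
    let s : ℕ → Subgroup E := fun i => match i with
      | 0 => W'
      | _ + 1 => ⊥
    have hs : ∀ β ∈ G, β ∈ preserve G s := fun β hβ => mem_preserve_of_le hβ fun i u hu =>
      match i, hu with
      | 0, hu => d.W'_inv β hβ u hu
      | _ + 1, hu => by rw [Subgroup.mem_bot] at hu ⊢; rw [hu, map_one]
    have hn : ((disp G s 1).subgroupOf G).Normal := ⟨fun x hx γ => conj_mem_disp (hs _ γ.2) hx⟩
    have hle : K ≤ (disp G s 1).subgroupOf G := Subgroup.normalClosure_le_normal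
      (Set.singleton_subset_iff.2 (show k ∈ disp G s 1 from ⟨hs _ hk, fun i hi u hu => by
        interval_cases i
        show _ ∈ (⊥ : Subgroup E)
        rw [Subgroup.mem_bot, hkW u (d.W'_le hu), inv_mul_cancel]⟩))
    intro β hβ u hu
    exact (inv_mul_eq_one.1 (Subgroup.mem_bot.1 ((hle hβ).2 0 (by omega) u hu))).symm
  rw [hρ] at h2 h3 h4
  have hmW : g l ∉ pb hES W := hgl
  set e : S := incl hES (g l)
  have he : e ∈ E.subgroupOf S := incl_mem hES _
  obtain ⟨z, hN⟩ := exists_NSet h.hyp h.centric h.cardN h.cardW h.cardD h.W_eq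
    (e := e) (y := y) (h.le_N (g l).2) h.y_notMem (h.comm_notMem e he hmW)
  refine ⟨e, z, hN, ?_⟩
  have main : ∀ ν μ : ℕ, ((ν * μ : ℕ) : ZMod p) = 1 →
      (p = 3 ∧ ¬ W ≤ Subgroup.center S ∧ ⁅⁅e, y⁆, y⁆ ∈ Subgroup.zpowers z) ∨
      ((¬ W ≤ Subgroup.center S → (μ : ZMod p) ^ 2 = 1) ∧
        (⁅⁅e, y⁆, y⁆ ∈ Subgroup.zpowers z ∨ (ν : ZMod p) ^ 5 = 1)) := by
    intro ν μ hνμ
    obtain ⟨c, hcK, hc1, hc2⟩ := diag_of_pair ρ (hAc (π l) (π (g l)))
      (by rw [← map_pow, hlp, map_one]) (by rw [← map_pow, ← map_pow, hlp, map_one, map_one])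
      h1 h2 h3 h4 (K := K) haK hbK ν μ hνμ
    rw [hρ] at hc1 hc2
    refine d.diag_rel h hN he hmW hνμ c.2 (hKfix c hcK) ?_ ?_
    · have hW' : (l ^ ν)⁻¹ * (c : MulAut E) l ∈ W' := mk_eq.1 (by rw [map_pow]; exact hc1.symm)
      have hE₀ : (l ^ ν)⁻¹ * (c : MulAut E) l ∈ Subgroup.zpowers l ⊔ Subgroup.zpowers l₁ :=
        mul_mem (inv_mem (pow_mem (Subgroup.mem_sup_left (Subgroup.mem_zpowers l)) ν))
          (d.E₀_inv _ c.2 l (Subgroup.mem_sup_left (Subgroup.mem_zpowers l)))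
      exact (inv_mul_eq_one.1 (Subgroup.mem_bot.1 (d.inf_eq.le ⟨hW', hE₀⟩))).symm
    · have h5 : ((g l) ^ μ)⁻¹ * (c : MulAut E) (g l) ∈ pb hES W :=
        d.W'_le (mk_eq.1 (by rw [map_pow]; exact hc2.symm))
      rw [mem_pb, map_mul, map_inv, map_pow] at h5
      exact h5
  have hneg : (((p - 1) * (p - 1) : ℕ) : ZMod p) = 1 := by rw [Nat.cast_mul, cast_pred]; ring
  rcases main (p - 1) (p - 1) hneg with hd | ⟨-, ht⟩
  · exact hd
  have ht' : ⁅⁅e, y⁆, y⁆ ∈ Subgroup.zpowers z := ht.resolve_right fun h5 => by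
    rw [cast_pred] at h5
    exact neg_one_ne_one h.hyp.ne_two (by linear_combination h5)
  have hWc : ¬ W ≤ Subgroup.center S := fun hWc => hN.data.notMem_of_le_center hWc ht'
  have h2 : ((2 : ℕ) : ZMod p) ≠ 0 := fun h0 => h.hyp.ne_two
    ((Nat.prime_dvd_prime_iff_eq hp Nat.prime_two).1 ((ZMod.natCast_eq_zero_iff 2 p).1 h0))
  rcases main (((2 : ℕ) : ZMod p)⁻¹).val 2
    (by rw [Nat.cast_mul, ZMod.natCast_zmod_val, inv_mul_cancel₀ h2]) with hd | ⟨h3, -⟩
  · exact hd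
  exact ⟨eq_three_of_sq (h3 hWc), hWc, ht'⟩

/-- The automorphisms of an abelian essential subgroup of order `p³` are trivial modulo `V`. -/
theorem ECtx.cong (h : ECtx p F E N W D y) {V : Subgroup S} (hV : Good F V) {α : MulAut E}
    (hα : α ∈ F.autGroup E) : Cong h.E_le V α := by
  obtain ⟨W', l, l₁, d⟩ := h.exists_EDec
  haveI := h.W_normal
  haveI := hV.normal
  have hES := h.E_le
  have hext : ∀ a ∈ F.autGroup E, (∀ u ∈ pb hES W, a u ∈ pb hES W) → Cong hES V a := fun a ha haW => by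
    obtain ⟨β, hβ, hag⟩ := d.exists_ext h ha haW
    exact Cong.of_agree h.le_N h.N_le hag (cong_of_card4 h.hyp hV h.centric h.cardN hβ)
  obtain ⟨τ, hτ, hτW, hτl, hτ₁⟩ := d.exists_neg
  have hτc : Cong hES V τ := hext τ hτ fun u hu => by
    have hle : W' ⊔ Subgroup.zpowers l ≤ (pb hES W).comap τ.toMonoidHom :=
      sup_le (fun w hw => by show τ w ∈ pb hES W; rw [hτW w hw]; exact d.W'_le hw)
        (Subgroup.zpowers_le.2 (by show τ l ∈ pb hES W; rw [hτl]; exact inv_mem d.l_mem))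
    exact hle (d.sup_eq.ge hu)
  have hmem : ∀ u : E, τ u = u⁻¹ → incl hES u ∈ V := fun u hu =>
    hV.mem_of_inverted h.hyp hτc (by rw [hu, ← map_mul, inv_mul_cancel, map_one]; exact one_mem _)
  have hE₀ : Subgroup.zpowers l ⊔ Subgroup.zpowers l₁ ≤ V.comap (incl hES) :=
    sup_le (Subgroup.zpowers_le.2 (hmem l hτl)) (Subgroup.zpowers_le.2 (hmem l₁ hτ₁))
  intro u
  have hum : u ∈ W' ⊔ (Subgroup.zpowers l ⊔ Subgroup.zpowers l₁) := by
    rw [← sup_assoc, d.sup_top]; exact Subgroup.mem_top u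
  haveI : W'.Normal := ⟨fun w hw r => by rwa [h.commE r w, mul_inv_cancel_right]⟩
  obtain ⟨w, hw, f, hf, rfl⟩ := Subgroup.mem_sup_of_normal_left.1 hum
  obtain ⟨a, ha, hafix, haW⟩ := d.exists_back α hα
  have e1 := hext (a * α) (mul_mem ha hα) (fun v hv => haW v hv) w
  rw [MulAut.mul_apply, hafix _ (d.W'_inv α hα w hw)] at e1
  have e2 : incl hES f ∈ V := hE₀ hf
  have e3 : incl hES (α f) ∈ V := hE₀ (d.E₀_inv α hα f hf)
  rw [h.commE w f, map_mul α, map_mul, map_mul, ← QuotientGroup.eq_one_iff]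
  rw [← QuotientGroup.eq_one_iff] at e1 e2 e3
  simp only [QuotientGroup.mk_mul, QuotientGroup.mk_inv] at e1 ⊢
  rw [e2, e3, one_mul, one_mul]
  exact e1

end CfsgLib.FusionPFive
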