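import Cfsg.Agent.Lib.PGroup.Basic
import Cfsg.Agent.Lib.FusionExtraspecial.Basic
import Cfsg.Agent.Lib.FusionIndexP.CenterIndexGroup
import Mathlib.Data.ZMod.Basic
import Mathlib.Algebra.Field.ZMod
import Mathlib.Tactic.LinearCombination
import Mathlib.GroupTheory.SpecificGroups.Cyclic

/-!
Groups of order `p⁵` without an abelian subgroup of index `p`: relations between the exponents by
which an automorphism acts on the factors of the natural series.
-/

set_option autoImplicit false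

open Subgroup
open scoped commutatorElement

namespace CfsgLib.FusionPFive

variable {G : Type*} [Group G]

/-- No abelian subgroup of order at least `p⁴`. -/
def NoAb (p : ℕ) (G : Type*) [Group G] : Prop :=
  ∀ A : Subgroup G, (∀ a ∈ A, ∀ b ∈ A, a * b = b * a) → Nat.card A < p ^ 4

/-- Bilinearity of a central commutator. -/
theorem comm_pow {g h c c' : G} (hzg : Commute ⁅g, h⁆ g) (hzh : Commute ⁅g, h⁆ h) (hch : Commute c h)
    (hcc : Commute c c') (hgc : Commute g c') (i j : ℕ) :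
    ⁅g ^ i * c, h ^ j * c'⁆ = ⁅g, h⁆ ^ (i * j) := by
  set z := ⁅g, h⁆ with hz
  have h1 : g * h * g⁻¹ = z * h := by rw [hz, commutatorElement_def]; group
  have h2 : ∀ n : ℕ, g ^ n * h * (g ^ n)⁻¹ = z ^ n * h := by
    intro n
    induction n with
    | zero => simp
    | succ n ih =>
      calc g ^ (n + 1) * h * (g ^ (n + 1))⁻¹ = g * (g ^ n * h * (g ^ n)⁻¹) * g⁻¹ := by
            rw [pow_succ']; group
        _ = g * z ^ n * g⁻¹ * (g * h * g⁻¹) := by rw [ih]; group
        _ = z ^ n * (z * h) := by rw [(hzg.symm.pow_right n).eq, h1]; group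
        _ = z ^ (n + 1) * h := by rw [pow_succ]; group
  have h3 : g ^ i * h ^ j * (g ^ i)⁻¹ = z ^ (i * j) * h ^ j := by
    rw [← conj_pow, h2, (hzh.pow_left i).mul_pow, ← pow_mul]
  have e1 : c * (h ^ j * c') * c⁻¹ = h ^ j * c' := by
    rw [((hch.pow_right j).mul_right hcc).eq, mul_inv_cancel_right]
  calc ⁅g ^ i * c, h ^ j * c'⁆
      = g ^ i * (c * (h ^ j * c') * c⁻¹) * (g ^ i)⁻¹ * (h ^ j * c')⁻¹ := by
        rw [commutatorElement_def]; group
    _ = g ^ i * h ^ j * (c' * (g ^ i)⁻¹ * c'⁻¹) * (h ^ j)⁻¹ := by rw [e1]; group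
    _ = g ^ i * h ^ j * (g ^ i)⁻¹ * (h ^ j)⁻¹ := by
        rw [(((hgc.symm.pow_right i).inv_right)).eq, mul_inv_cancel_right]
    _ = _ := by rw [h3, mul_inv_cancel_right]

theorem mk_eq {N : Subgroup G} [N.Normal] {a b : G} :
    QuotientGroup.mk' N a = QuotientGroup.mk' N b ↔ a⁻¹ * b ∈ N := by
  rw [QuotientGroup.mk'_apply, QuotientGroup.mk'_apply, QuotientGroup.eq]

theorem mk_commute {N : Subgroup G} [N.Normal] {a b : G} (h : ⁅a, b⁆ ∈ N) :
    Commute (QuotientGroup.mk' N a) (QuotientGroup.mk' N b) := by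
  refine commutatorElement_eq_one_iff_commute.1 ?_
  rw [← map_commutatorElement, QuotientGroup.mk'_apply, QuotientGroup.eq_one_iff]
  exact h

/-- Bilinearity modulo a normal subgroup. -/
theorem comm_pow_mod {N : Subgroup G} [N.Normal] {g h c c' : G} (hzg : ⁅⁅g, h⁆, g⁆ ∈ N)
    (hzh : ⁅⁅g, h⁆, h⁆ ∈ N) (hch : ⁅c, h⁆ ∈ N) (hcc : ⁅c, c'⁆ ∈ N) (hgc : ⁅g, c'⁆ ∈ N) (i j : ℕ) :
    (⁅g, h⁆ ^ (i * j))⁻¹ * ⁅g ^ i * c, h ^ j * c'⁆ ∈ N := by
  rw [← mk_eq, map_pow, map_commutatorElement, map_commutatorElement, map_mul, map_mul, map_pow, map_pow]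
  refine (comm_pow ?_ ?_ (mk_commute hch) (mk_commute hcc) (mk_commute hgc) i j).symm
  · rw [← map_commutatorElement]; exact mk_commute hzg
  · rw [← map_commutatorElement]; exact mk_commute hzh

variable {p : ℕ} [hp : Fact p.Prime]

/-- Exponents of a nontrivial element of order `p` modulo `N`. -/
theorem cast_eq_of_pow {N : Subgroup G} [N.Normal] {z : G} (hz : z ∉ N) (hzp : z ^ p ∈ N) {m m' : ℕ}
    (h : (z ^ m)⁻¹ * z ^ m' ∈ N) : (m : ZMod p) = m' := by
  have ho : orderOf (QuotientGroup.mk' N z) = p := by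
    refine orderOf_eq_prime ?_ ?_
    · rw [← map_pow, QuotientGroup.mk'_apply, QuotientGroup.eq_one_iff]; exact hzp
    · rw [ne_eq, QuotientGroup.mk'_apply, QuotientGroup.eq_one_iff]; exact hz
  rw [← mk_eq, map_pow, map_pow, pow_eq_pow_iff_modEq, ho] at h
  exact (ZMod.natCast_eq_natCast_iff _ _ _).2 h

theorem cast_eq_of_pow_eq {z : G} (hz : z ≠ 1) (hzp : z ^ p = 1) {m m' : ℕ} (h : z ^ m = z ^ m') :
    (m : ZMod p) = m' := by
  rw [pow_eq_pow_iff_modEq, orderOf_eq_prime hzp hz] at h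
  exact (ZMod.natCast_eq_natCast_iff _ _ _).2 h

variable [Finite G]

/-- A factor of order `p` of two normal subgroups of a `p`-group is central. -/
theorem commutator_mem_of_relIndex (hG : IsPGroup p G) {U V : Subgroup G} (hU : U.Normal)
    (hV : V.Normal) (hVU : V ≤ U) (hi : V.relIndex U = p) {g : G} {u : G} (hu : u ∈ U) :
    ⁅u, g⁆ ∈ V := by
  haveI := hV
  haveI := hU
  have hn : (U.map (QuotientGroup.mk' V)).Normal :=
    hU.map _ (QuotientGroup.mk'_surjective V)
  have hc : Nat.card (U.map (QuotientGroup.mk' V)) = p := by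
    rw [← relIndex_ker (f := QuotientGroup.mk' V), QuotientGroup.ker_mk', hi]
  have hz := CfsgLib.FusionExtraspecial.le_center_of_card_eq (hG.to_quotient V) hn hc ⟨u, hu, rfl⟩
  rw [← QuotientGroup.eq_one_iff, ← QuotientGroup.mk'_apply (N := V), map_commutatorElement,
    commutatorElement_eq_one_iff_mul_comm]
  exact (mem_center_iff.1 hz _).symm

omit [Finite G] hp in
theorem commute_pair_closure {s : Set G} (h : ∀ a ∈ s, ∀ b ∈ s, a * b = b * a) :
    ∀ a ∈ closure s, ∀ b ∈ closure s, a * b = b * a := fun a ha b hb =>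
  congrArg Subtype.val ((isMulCommutative_closure h).is_comm.comm ⟨a, ha⟩ ⟨b, hb⟩)

/-- A subgroup properly containing another has at least `p` times its order. -/
theorem mul_card_le_of_lt (hG : IsPGroup p G) {A B : Subgroup G} (h : A < B) :
    p * Nat.card A ≤ Nat.card B := by
  obtain ⟨i, hi⟩ := IsPGroup.iff_card.1 (hG.to_subgroup A)
  obtain ⟨j, hj⟩ := IsPGroup.iff_card.1 (hG.to_subgroup B)
  have hlt : Nat.card A < Nat.card B :=
    lt_of_le_of_ne (card_le_of_le h.le) fun e => h.ne (eq_of_le_of_card_ge h.le e.ge)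
  rw [hi, hj, Nat.pow_lt_pow_iff_right hp.out.one_lt] at hlt
  rw [hi, hj, ← pow_succ']
  exact Nat.pow_le_pow_right hp.out.pos hlt

theorem card_center_le (hG : IsPGroup p G) (hc : Nat.card G = p ^ 5) (hab : NoAb p G) :
    Nat.card (center G) ≤ p ^ 2 := by
  obtain ⟨i, hi⟩ := IsPGroup.iff_card.1 (hG.to_subgroup (center G))
  rw [hi]
  refine Nat.pow_le_pow_right hp.out.pos ?_
  by_contra h
  push Not at h
  obtain ⟨g, hg⟩ : ∃ g, g ∉ center G := by
    by_contra h'
    push Not at h'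
    have := hab ⊤ fun a _ b _ => (mem_center_iff.1 (h' b) a)
    rw [card_top, hc, Nat.pow_lt_pow_iff_right hp.out.one_lt] at this
    omega
  set A := closure ((center G : Set G) ∪ {g})
  have hA : ∀ a ∈ A, ∀ b ∈ A, a * b = b * a := by
    refine commute_pair_closure ?_
    rintro a (ha | rfl) b (hb | rfl)
    · exact mem_center_iff.1 hb a
    · exact (mem_center_iff.1 ha _).symm
    · exact mem_center_iff.1 hb _
    · rfl
  have hlt : center G < A := lt_of_le_of_ne (fun a ha => subset_closure (Or.inl ha))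
    fun e => hg (e ▸ subset_closure (Or.inr rfl))
  have h1 := (mul_card_le_of_lt hG hlt).trans_lt (hab A hA)
  rw [hi, ← pow_succ', Nat.pow_lt_pow_iff_right hp.out.one_lt] at h1
  omega

/-- A group of order `p⁴` with centre of order `p²` or less: either `|G'| = p` with `|Z(G)| = p²`, or
there are characteristic subgroups of orders `p`, `p²`, `p³`. -/
theorem order_p4_cases {P : Type*} [Group P] [Finite P] (hc : Nat.card P = p ^ 4)
    (hna : ¬ ∀ a b : P, a * b = b * a) :
    (Nat.card (center P) = p ^ 2 ∧ Nat.card (commutator P) = p) ∨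
      (Nat.card (center P) = p ∧ ∃ X : Subgroup P, X.Characteristic ∧ (commutator P).Characteristic ∧
        center P ≤ commutator P ∧ commutator P ≤ X ∧ Nat.card X = p ^ 3 ∧
        Nat.card (commutator P) = p ^ 2) := by
  have hP : IsPGroup p P := IsPGroup.of_card hc
  haveI : Nontrivial P := Finite.one_lt_card_iff_nontrivial.1
    (by rw [hc]; exact Nat.one_lt_pow (by omega) hp.out.one_lt)
  have hZt : center P ≠ ⊤ := fun h => hna fun a b => (mem_center_iff.1 (h ▸ mem_top b) a)
  obtain ⟨i, hi⟩ := IsPGroup.iff_card.1 (hP.to_subgroup (center P))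
  have hi0 : i ≠ 0 := fun h => by
    haveI := hP.center_nontrivial
    have := Finite.one_lt_card (α := center P)
    rw [hi, h, pow_zero] at this
    exact lt_irrefl _ this
  have hidx := (center P).card_mul_index
  obtain ⟨j, hj⟩ := hP.index (center P)
  rw [hc, hi, hj, ← pow_add] at hidx
  have hij := Nat.pow_right_injective hp.out.two_le hidx
  have hj2 : 2 ≤ j := by
    by_contra h
    refine hna fun a b => ?_
    have hcy : IsCyclic (P ⧸ center P) := by
      interval_cases j
      · rw [pow_zero, index_eq_card] at hj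
        haveI := (Nat.card_eq_one_iff_unique.1 hj).1
        exact isCyclic_of_subsingleton
      · exact isCyclic_of_prime_card (p := p) (by rw [← index_eq_card, hj, pow_one])
    have h' := isMulCommutative_of_isCyclic_quotient_center_self (G := P)
    exact h'.is_comm.comm a b
  rcases (show i = 1 ∨ i = 2 by omega) with rfl | rfl
  swap
  · exact Or.inl ⟨hi, CfsgLib.FusionIndexP.card_commutator_of_index_sq
      (by rw [hj, show j = 2 by omega])⟩
  right
  refine ⟨by rw [hi, pow_one], ?_⟩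
  rw [pow_one] at hi
  set D := commutator P with hD
  have hDne : D ≠ ⊥ := fun h => hna fun a b => commutatorElement_eq_one_iff_mul_comm.1
    (mem_bot.1 (h ▸ commutator_mem_commutator (mem_top a) (mem_top b)))
  have hZD : center P ≤ D := by
    obtain ⟨z, hzD, hzc, hz⟩ := CfsgLib.PGroup.exists_central_orderOf_eq hP D hDne
    rw [← eq_of_le_of_card_ge (zpowers_le.2 hzc) (by rw [Nat.card_zpowers, hz, hi])]
    exact zpowers_le.2 hzD
  -- `D` is not central
  have hDZ : ¬ D ≤ center P := by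
    intro hle
    have hab : ∀ a b : P, ⁅a, b⁆ ∈ center P := fun a b =>
      hle (commutator_mem_commutator (mem_top a) (mem_top b))
    have hsmall : ∀ g : P, (centralizer ({g} : Set P)).index ≤ p := by
      intro g
      let f : P →* center P :=
        { toFun := fun u => ⟨⁅u, g⁆, hab u g⟩
          map_one' := Subtype.ext (commutatorElement_one_left g)
          map_mul' := fun u v => Subtype.ext (by
            show ⁅u * v, g⁆ = ⁅u, g⁆ * ⁅v, g⁆
            calc ⁅u * v, g⁆ = u * ⁅v, g⁆ * u⁻¹ * ⁅u, g⁆ := by simp [commutatorElement_def, mul_assoc]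
              _ = ⁅u, g⁆ * ⁅v, g⁆ := by
                rw [mem_center_iff.1 (hab v g) u, mul_inv_cancel_right,
                  (mem_center_iff.1 (hab u g) _).symm]) }
      have hk : f.ker = centralizer ({g} : Set P) := by
        ext u
        rw [MonoidHom.mem_ker, mem_centralizer_singleton_iff]
        constructor
        · exact fun h => commutatorElement_eq_one_iff_mul_comm.1 (congrArg Subtype.val h)
        · exact fun h => Subtype.ext (commutatorElement_eq_one_iff_mul_comm.2 h)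
      rw [← hk, index_ker, ← hi]
      exact card_le_card_group _
    obtain ⟨a, b, hab'⟩ : ∃ a b : P, a * b ≠ b * a := by push Not at hna; exact hna
    set K := centralizer ({a} : Set P) ⊓ centralizer ({b} : Set P) with hK
    have hKc : p ^ 2 ≤ Nat.card K := by
      have h1 : K.index ≤ _ := index_inf_le (H := centralizer ({a} : Set P)) (K := centralizer ({b} : Set P))
      have h2 : K.index ≤ p * p := h1.trans (Nat.mul_le_mul (hsmall a) (hsmall b))
      have h3 := K.card_mul_index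
      rw [hc] at h3
      have h4 : p ^ 2 * (p * p) ≤ Nat.card K * (p * p) := by
        calc p ^ 2 * (p * p) = p ^ 4 := by ring
          _ = Nat.card K * K.index := h3.symm
          _ ≤ _ := Nat.mul_le_mul_left _ h2
      exact Nat.le_of_mul_le_mul_right h4 (Nat.mul_pos hp.out.pos hp.out.pos)
    have hab_ne : a ∉ K := fun h =>
      hab' (mem_centralizer_singleton_iff.1 h.2)
    set T := closure ((K : Set P) ∪ {a}) with hT
    have hKT : K < T := lt_of_le_of_ne (fun u hu => subset_closure (Or.inl hu))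
      fun e => hab_ne (e ▸ subset_closure (Or.inr rfl))
    have hTcomm : T ≤ centralizer ({a} : Set P) := (closure_le _).2 (by
      rintro u (hu | rfl)
      · exact hu.1
      · exact mem_centralizer_singleton_iff.2 rfl)
    have hbT : b ∉ T := fun h => hab' (mem_centralizer_singleton_iff.1 (hTcomm h)).symm
    set T2 := closure ((T : Set P) ∪ {b})
    have hT2 : T < T2 := lt_of_le_of_ne (fun u hu => subset_closure (Or.inl hu))
      fun e => hbT (e ▸ subset_closure (Or.inr rfl))
    have hcards := (Nat.mul_le_mul_left p (mul_card_le_of_lt hP hKT)).trans (mul_card_le_of_lt hP hT2)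
    have hT2c : Nat.card T2 ≤ p ^ 4 := hc ▸ card_le_card_group _
    have hKeq : Nat.card K = p ^ 2 := by
      refine le_antisymm ?_ hKc
      have := hcards.trans hT2c
      rw [← mul_assoc, show p ^ 4 = p * p * p ^ 2 by ring] at this
      exact Nat.le_of_mul_le_mul_left this (Nat.mul_pos hp.out.pos hp.out.pos)
    have htop : T2 = ⊤ := by
      refine eq_top_of_le_card _ ?_
      rw [hKeq] at hcards
      rw [hc]
      calc p ^ 4 = p * (p * p ^ 2) := by ring
        _ ≤ _ := hcards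
    have hKab := IsPGroup.isMulCommutative_of_card_eq_prime_sq hKeq
    have hKle : K ≤ center P := by
      intro k hk
      rw [mem_center_iff]
      intro u
      have hle : T2 ≤ centralizer ({k} : Set P) := (closure_le _).2 (by
        rintro v (hv | rfl)
        · refine (show T ≤ centralizer ({k} : Set P) from (closure_le _).2 ?_) hv
          rintro v (hv | rfl)
          · exact mem_centralizer_singleton_iff.2
              (congrArg Subtype.val (hKab.is_comm.comm (⟨v, hv⟩ : K) ⟨k, hk⟩))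
          · exact mem_centralizer_singleton_iff.2 (mem_centralizer_singleton_iff.1 hk.1).symm
        · exact mem_centralizer_singleton_iff.2 (mem_centralizer_singleton_iff.1 hk.2).symm)
      exact mem_centralizer_singleton_iff.1 (hle (htop ▸ mem_top u))
    have := (card_le_of_le hKle).trans hi.le
    rw [hKeq] at this
    exact absurd ((Nat.pow_le_pow_iff_right hp.out.one_lt).1 (by rwa [pow_one] : p ^ 2 ≤ p ^ 1)) (by omega)
  obtain ⟨d, hd⟩ := IsPGroup.iff_card.1 (hP.to_subgroup D)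
  have hd2 : d = 2 := by
    have h1 : center P < D := lt_of_le_of_ne hZD fun e => hDZ e.ge
    have h2 := mul_card_le_of_lt hP h1
    rw [hi, hd, ← pow_two, Nat.pow_le_pow_iff_right hp.out.one_lt] at h2
    -- the derived subgroup has index at least `p²`
    have h3 : D ⊔ center P = D := sup_eq_left.2 hZD
    by_contra hne
    have hge : 3 ≤ d := by omega
    have hDi := D.card_mul_index
    obtain ⟨k, hk⟩ := hP.index D
    rw [hc, hd, hk, ← pow_add] at hDi
    have := Nat.pow_right_injective hp.out.two_le hDi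
    have hcy : IsCyclic (P ⧸ D) := by
      rcases (show k = 0 ∨ k = 1 by omega) with rfl | rfl
      · rw [pow_zero, index_eq_card] at hk
        haveI := (Nat.card_eq_one_iff_unique.1 hk).1
        exact isCyclic_of_subsingleton
      · exact isCyclic_of_prime_card (p := p) (by rw [← index_eq_card, hk, pow_one])
    obtain ⟨q, hq⟩ := isCyclic_iff_exists_zpowers_eq_top.1 hcy
    obtain ⟨g, rfl⟩ := QuotientGroup.mk'_surjective D q
    have hg : zpowers g ⊔ D = ⊤ := by
      rw [← comap_top (QuotientGroup.mk' D), ← hq, ← MonoidHom.map_zpowers, comap_map_eq,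
        QuotientGroup.ker_mk']
    have hgt := frattini_nongenerating (K := zpowers g)
      (top_le_iff.1 (hg ▸ sup_le_sup_left (CfsgLib.PGroup.commutator_le_frattini hP) _))
    refine hna fun u v => ?_
    obtain ⟨r, rfl⟩ := mem_zpowers_iff.1 (hgt ▸ mem_top u : u ∈ zpowers g)
    obtain ⟨s, rfl⟩ := mem_zpowers_iff.1 (hgt ▸ mem_top v : v ∈ zpowers g)
    exact (Commute.zpow_zpow_self g r s).eq
  subst hd2
  have hDab := IsPGroup.isMulCommutative_of_card_eq_prime_sq hd
  set X := centralizer (D : Set P) with hX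
  haveI hDc : D.Characteristic := by rw [hD]; infer_instance
  have hXc : X.Characteristic := by rw [hX]; infer_instance
  have hDX : D ≤ X := fun u hu => mem_centralizer_iff.2 fun v hv =>
    congrArg Subtype.val (hDab.is_comm.comm (⟨v, hv⟩ : D) ⟨u, hu⟩)
  refine ⟨X, hXc, hDc, hZD, hDX, ?_, hd⟩
  obtain ⟨m, hmD, hmZ⟩ := SetLike.not_le_iff_exists.1 hDZ
  have hrel : (center P).relIndex D = p := by
    have := ((center P).subgroupOf D).card_mul_index
    rw [Nat.card_congr (subgroupOfEquivOfLe hZD).toEquiv, hi, hd, pow_two] at this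
    exact Nat.eq_of_mul_eq_mul_left hp.out.pos this
  have hDn : D.Normal := by rw [hD]; infer_instance
  have hmg : ∀ g : P, ⁅g, m⁆ ∈ center P := fun g => by
    have := inv_mem (commutator_mem_of_relIndex hP hDn inferInstance hZD hrel (g := g) hmD)
    rwa [commutatorElement_inv] at this
  let f : P →* center P :=
    { toFun := fun u => ⟨⁅u, m⁆, hmg u⟩
      map_one' := Subtype.ext (commutatorElement_one_left m)
      map_mul' := fun u v => Subtype.ext (by
        show ⁅u * v, m⁆ = ⁅u, m⁆ * ⁅v, m⁆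
        calc ⁅u * v, m⁆ = u * ⁅v, m⁆ * u⁻¹ * ⁅u, m⁆ := by simp [commutatorElement_def, mul_assoc]
          _ = ⁅u, m⁆ * ⁅v, m⁆ := by
            rw [mem_center_iff.1 (hmg v) u, mul_inv_cancel_right,
              (mem_center_iff.1 (hmg u) _).symm]) }
  have hk : f.ker = X := by
    ext u
    rw [MonoidHom.mem_ker]
    constructor
    · intro h
      have hcm : u * m = m * u := commutatorElement_eq_one_iff_mul_comm.1 (congrArg Subtype.val h)
      have hgen : D ≤ centralizer ({u} : Set P) := by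
        have hlt : center P < center P ⊔ zpowers m :=
          lt_of_le_of_ne le_sup_left fun e => hmZ (e ▸ mem_sup_right (mem_zpowers m))
        have hle : center P ⊔ zpowers m ≤ D := sup_le hZD (zpowers_le.2 hmD)
        have hge : Nat.card D ≤ Nat.card (center P ⊔ zpowers m : Subgroup P) := by
          have := mul_card_le_of_lt hP hlt
          rwa [hi, ← pow_two, ← hd] at this
        rw [← eq_of_le_of_card_ge hle hge]
        exact sup_le (fun z hz => mem_centralizer_singleton_iff.2 (mem_center_iff.1 hz u).symm)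
          (zpowers_le.2 (mem_centralizer_singleton_iff.2 hcm.symm))
      exact mem_centralizer_iff.2 fun v hv => mem_centralizer_singleton_iff.1 (hgen hv)
    · intro h
      exact Subtype.ext (commutatorElement_eq_one_iff_mul_comm.2 ((mem_centralizer_iff.1 h) m hmD).symm)
  have hXi : X.index = p := by
    have hd' : X.index ∣ p := by
      rw [← hk, index_ker, ← hi]
      exact card_subgroup_dvd_card _
    refine ((Nat.dvd_prime hp.out).1 hd').resolve_left fun h => hmZ ?_
    rw [index_eq_one] at h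
    exact mem_center_iff.2 fun u => ((mem_centralizer_iff.1 (h ▸ mem_top u : u ∈ X)) m hmD).symm
  have := X.card_mul_index
  rw [hXi, hc, pow_succ] at this
  exact Nat.eq_of_mul_eq_mul_right hp.out.pos this

section Normal

variable {N : Subgroup G}

/-- `N`, a normal subgroup of index `p` with `Z(N)` of order `p²` and `|N'| = p`, with a basis. -/
structure NData (p : ℕ) (N : Subgroup G) (W : Subgroup G) (e y x z : G) : Prop where
  card : Nat.card G = p ^ 5
  noAb : NoAb p G
  index : N.index = p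
  normW : W.Normal
  W_le : W ≤ N
  cardW : Nat.card W = p ^ 2
  W_central : ∀ w ∈ W, ∀ n ∈ N, Commute w n
  e_mem : e ∈ N
  y_notMem : y ∉ N
  x_def : x = ⁅e, y⁆
  x_mem : x ∈ N
  e_notMem : e ∉ W ⊔ zpowers x
  x_notMem : x ∉ W
  z_def : z = ⁅e, x⁆
  comm_le : ∀ a ∈ N, ∀ b ∈ N, ⁅a, b⁆ ∈ zpowers z
  z_mem : z ∈ W
  z_central : z ∈ center G
  z_order : orderOf z = p
  x_comm : ∀ g : G, ⁅x, g⁆ ∈ W
  N_le : N ≤ W ⊔ zpowers x ⊔ zpowers e

variable {W : Subgroup G} {e y x z : G}

theorem NData.commute_z (h : NData p N W e y x z) (g : G) : Commute z g :=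
  (mem_center_iff.1 h.z_central g).symm

theorem NData.zpowers_normal (h : NData p N W e y x z) : (zpowers z).Normal := ⟨fun u hu g => by
  obtain ⟨i, rfl⟩ := mem_zpowers_iff.1 hu
  rw [((h.commute_z g).zpow_left i).symm.eq, mul_inv_cancel_right]
  exact zpow_mem (mem_zpowers z) i⟩

theorem NData.relIndex_W (h : NData p N W e y x z) : (zpowers z).relIndex W = p := by
  have := ((zpowers z).subgroupOf W).card_mul_index
  rw [Nat.card_congr (subgroupOfEquivOfLe (zpowers_le.2 h.z_mem)).toEquiv, Nat.card_zpowers,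
    h.z_order, h.cardW, pow_two] at this
  exact Nat.eq_of_mul_eq_mul_left hp.out.pos this

theorem NData.comm_W (h : NData p N W e y x z) {w : G} (hw : w ∈ W) (g : G) : ⁅w, g⁆ ∈ zpowers z :=
  commutator_mem_of_relIndex (IsPGroup.of_card h.card) h.normW h.zpowers_normal
    (zpowers_le.2 h.z_mem) h.relIndex_W hw

/-- `y e ^ k` centralises `x` when `⁅x, y⁆ = z ^ k`. -/
theorem NData.commute_mul (h : NData p N W e y x z) {k : ℕ} (hk : z ^ k = ⁅x, y⁆) :
    x * (y * e ^ k) = y * e ^ k * x := by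
  have hzc := h.commute_z
  refine commutatorElement_eq_one_iff_mul_comm.1 ?_
  have h1 := comm_pow (g := e) (h := x) (c := 1) (c' := 1)
    (by rw [← h.z_def]; exact hzc e) (by rw [← h.z_def]; exact hzc x)
    (Commute.one_left _) (Commute.one_left _) (Commute.one_right _) k 1
  rw [mul_one, mul_one, mul_one, pow_one, ← h.z_def] at h1
  have hxe : ⁅x, e ^ k⁆ = (z ^ k)⁻¹ := by rw [← h1, commutatorElement_inv]
  have : ⁅x, y * e ^ k⁆ = ⁅x, y⁆ * (y * ⁅x, e ^ k⁆ * y⁻¹) := by simp [commutatorElement_def, mul_assoc]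
  rw [this, hxe, ← hk, ((hzc y).pow_left k).inv_left.symm.eq, mul_inv_cancel_right, mul_inv_cancel]

theorem NData.notMem_of_le_center (h : NData p N W e y x z) (hWc : W ≤ center G) :
    ⁅x, y⁆ ∉ zpowers z := by
  haveI := h.normW
  have hG : IsPGroup p G := IsPGroup.of_card h.card
  have hXN : W ⊔ zpowers x ≤ N := sup_le h.W_le (zpowers_le.2 h.x_mem)
  intro htz
  obtain ⟨k, hk : z ^ k = ⁅x, y⁆⟩ := (isOfFinOrder_of_finite z).mem_powers_iff_mem_zpowers.2 htz
  set y' := y * e ^ k with hy'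
  have hy'N : y' ∉ N := fun hm => h.y_notMem (by
    have := mul_mem hm (inv_mem (pow_mem h.e_mem k))
    rwa [hy', mul_inv_cancel_right] at this)
  have hcy : x * y' = y' * x := h.commute_mul hk
  set A := closure ((W : Set G) ∪ {x} ∪ {y'})
  have hA : ∀ u ∈ A, ∀ v ∈ A, u * v = v * u := by
    refine commute_pair_closure ?_
    have hWall : ∀ w ∈ W, ∀ g : G, w * g = g * w := fun w hw g => (mem_center_iff.1 (hWc hw) g).symm
    rintro u ((hu | rfl) | rfl) v ((hv | rfl) | rfl)
    · exact hWall u hu v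
    · exact hWall u hu _
    · exact hWall u hu _
    · exact (hWall v hv _).symm
    · rfl
    · exact hcy
    · exact (hWall v hv _).symm
    · exact hcy.symm
    · rfl
  have hXA : W ⊔ zpowers x < A := by
    refine lt_of_le_of_ne (sup_le (fun w hw => subset_closure (Or.inl (Or.inl hw)))
      (zpowers_le.2 (subset_closure (Or.inl (Or.inr rfl))))) fun e => hy'N ?_
    exact hXN (e ▸ subset_closure (Or.inr rfl))
  have hX3 : p * p ^ 2 ≤ Nat.card (W ⊔ zpowers x : Subgroup G) := by
    rw [← h.cardW]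
    exact mul_card_le_of_lt hG (lt_of_le_of_ne le_sup_left
      fun e => h.x_notMem (e ▸ mem_sup_right (mem_zpowers x)))
  have := ((Nat.mul_le_mul_left p hX3).trans (mul_card_le_of_lt hG hXA)).trans_lt (h.noAb A hA)
  rw [show p * (p * p ^ 2) = p ^ 4 by ring] at this
  exact lt_irrefl _ this

/-- Exponents of an automorphism on the series of `N`. -/
theorem NData.rel {W : Subgroup G} {e y x z : G} (h : NData p N W e y x z) (γ : MulAut G)
    {a b : ℕ} (he : (e ^ a)⁻¹ * γ e ∈ W ⊔ zpowers x)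
    (hy : (y ^ b)⁻¹ * γ y ∈ N) :
    (x ^ (a * b))⁻¹ * γ x ∈ W ∧ γ z = z ^ (a * (a * b)) ∧
      (∀ (ω : ℕ) (w : G), w ∈ W → w ∉ center G → (w ^ ω)⁻¹ * γ w ∈ zpowers z →
        (ω : ZMod p) * b = (a : ZMod p) * (a * b)) ∧
      (∀ ω : ℕ, (⁅x, y⁆ ^ ω)⁻¹ * γ ⁅x, y⁆ ∈ zpowers z →
        ⁅x, y⁆ ∈ zpowers z ∨ (ω : ZMod p) = (a : ZMod p) * b * b) := by
  haveI := h.normW
  have hG : IsPGroup p G := IsPGroup.of_card h.card
  set c₁ := (e ^ a)⁻¹ * γ e with hc₁
  set n₁ := (y ^ b)⁻¹ * γ y with hn₁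
  have hge : γ e = e ^ a * c₁ := by rw [hc₁, mul_inv_cancel_left]
  have hgy : γ y = y ^ b * n₁ := by rw [hn₁, mul_inv_cancel_left]
  have hzc : ∀ g : G, Commute z g := fun g => (mem_center_iff.1 h.z_central g).symm
  have hzle : zpowers z ≤ W := zpowers_le.2 h.z_mem
  have hNW : ∀ u ∈ N, ∀ v ∈ N, ⁅u, v⁆ ∈ W := fun u hu v hv => hzle (h.comm_le u hu v hv)
  have hXN : W ⊔ zpowers x ≤ N := sup_le h.W_le (zpowers_le.2 h.x_mem)
  have hXc : ∀ c ∈ W ⊔ zpowers x, ∀ g : G, ⁅c, g⁆ ∈ W := by
    intro c hc g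
    have hle : W ⊔ zpowers x ≤ (center (G ⧸ W)).comap (QuotientGroup.mk' W) := by
      refine sup_le (fun w hw => ?_) (zpowers_le.2 ?_)
      · rw [mem_comap, QuotientGroup.mk'_apply, (QuotientGroup.eq_one_iff w).2 hw]; exact one_mem _
      · rw [mem_comap, mem_center_iff]
        intro q
        obtain ⟨g, rfl⟩ := QuotientGroup.mk'_surjective W q
        exact (mk_commute (h.x_comm g)).symm.eq
    rw [← QuotientGroup.eq_one_iff, ← QuotientGroup.mk'_apply (N := W), map_commutatorElement,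
      commutatorElement_eq_one_iff_mul_comm]
    exact (mem_center_iff.1 (hle hc) _).symm
  have hxW : (x ^ (a * b))⁻¹ * γ x ∈ W := by
    rw [h.x_def, map_commutatorElement, hge, hgy]
    refine comm_pow_mod ?_ ?_ (hXc c₁ he y) (hXc c₁ he n₁) (hNW e h.e_mem n₁ hy) a b
    · rw [← h.x_def]; exact hXc x (mem_sup_right (mem_zpowers x)) e
    · rw [← h.x_def]; exact hXc x (mem_sup_right (mem_zpowers x)) y
  set w₁ := (x ^ (a * b))⁻¹ * γ x with hw₁
  have hgx : γ x = x ^ (a * b) * w₁ := by rw [hw₁, mul_inv_cancel_left]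
  have hcx : Commute c₁ x := by
    have hle : W ⊔ zpowers x ≤ centralizer ({x} : Set G) := sup_le
      (fun w hw => mem_centralizer_singleton_iff.2 (h.W_central w hw x h.x_mem).eq)
      (zpowers_le.2 (mem_centralizer_singleton_iff.2 rfl))
    exact mem_centralizer_singleton_iff.1 (hle he)
  have hgz : γ z = z ^ (a * (a * b)) := by
    rw [h.z_def, map_commutatorElement, hge, hgx]
    exact comm_pow (by rw [← h.z_def]; exact hzc e) (by rw [← h.z_def]; exact hzc x) hcx
      (h.W_central w₁ hxW c₁ (hXN he)).symm (h.W_central w₁ hxW e h.e_mem).symm a (a * b)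
  refine ⟨hxW, hgz, fun ω w hw hwc hωw => ?_, fun ω hω => ?_⟩
  · set d := (w ^ ω)⁻¹ * γ w with hd
    have hgw : γ w = w ^ ω * d := by rw [hd, mul_inv_cancel_left]
    have hdc : ∀ g : G, Commute d g := fun g => by
      obtain ⟨i, hi⟩ := mem_zpowers_iff.1 hωw
      rw [← hi]; exact (hzc g).zpow_left i
    have hzn : (zpowers z).Normal := ⟨fun u hu g => by
      obtain ⟨i, rfl⟩ := mem_zpowers_iff.1 hu
      rw [((hzc g).zpow_left i).symm.eq, mul_inv_cancel_right]; exact zpow_mem (mem_zpowers z) i⟩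
    have hv : ⁅w, y⁆ ∈ zpowers z := by
      refine commutator_mem_of_relIndex hG h.normW hzn hzle ?_ hw
      have := ((zpowers z).subgroupOf W).card_mul_index
      rw [Nat.card_congr (subgroupOfEquivOfLe hzle).toEquiv, Nat.card_zpowers, h.z_order, h.cardW,
        pow_two] at this
      exact Nat.eq_of_mul_eq_mul_left hp.out.pos this
    obtain ⟨k, hk : z ^ k = ⁅w, y⁆⟩ := (isOfFinOrder_of_finite z).mem_powers_iff_mem_zpowers.2 hv
    have hv1 : ⁅w, y⁆ ≠ 1 := by
      intro h1
      refine hwc (mem_center_iff.2 fun g => ?_)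
      have hlt : N < centralizer ({w} : Set G) := lt_of_le_of_ne
        (fun n hn => mem_centralizer_singleton_iff.2 (h.W_central w hw n hn).symm.eq)
        fun e => h.y_notMem (e ▸ mem_centralizer_singleton_iff.2
          (commutatorElement_eq_one_iff_mul_comm.1 h1).symm)
      have htop : centralizer ({w} : Set G) = ⊤ := by
        have hd := index_dvd_of_le hlt.le
        rw [h.index] at hd
        refine index_eq_one.1 (((Nat.dvd_prime hp.out).1 hd).resolve_right fun e => ?_)
        have := index_strictAnti hlt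
        rw [e, h.index] at this
        exact lt_irrefl _ this
      exact mem_centralizer_singleton_iff.1 (htop ▸ mem_top g : g ∈ centralizer ({w} : Set G))
    have hcv : ∀ g : G, Commute ⁅w, y⁆ g := fun g => hk ▸ (hzc g).pow_left k
    have h1 : γ ⁅w, y⁆ = ⁅w, y⁆ ^ (ω * b) := by
      rw [map_commutatorElement, hgw, hgy]
      exact comm_pow (hcv w) (hcv y) (hdc y) (hdc n₁) (h.W_central w hw n₁ hy) ω b
    have h2 : γ ⁅w, y⁆ = ⁅w, y⁆ ^ (a * (a * b)) := by
      rw [← hk, map_pow, hgz, ← pow_mul, ← pow_mul, mul_comm]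
    have := cast_eq_of_pow_eq (p := p) hv1 (by
      rw [← hk, ← pow_mul, mul_comm, pow_mul, ← h.z_order, pow_orderOf_eq_one, one_pow])
      (h1.symm.trans h2)
    simpa using this
  · have hzn : (zpowers z).Normal := ⟨fun u hu g => by
      obtain ⟨i, rfl⟩ := mem_zpowers_iff.1 hu
      rw [((hzc g).zpow_left i).symm.eq, mul_inv_cancel_right]; exact zpow_mem (mem_zpowers z) i⟩
    set t := ⁅x, y⁆ with ht
    have htW : t ∈ W := h.x_comm y
    by_cases htz : t ∈ zpowers z
    · exact Or.inl htz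
    right
    have hWz : ∀ w ∈ W, ∀ g : G, ⁅w, g⁆ ∈ zpowers z := fun w hw g =>
      h.comm_W hw g
    have h1 : (t ^ (a * b * b))⁻¹ * γ t ∈ zpowers z := by
      rw [ht, map_commutatorElement, hgx, hgy]
      refine comm_pow_mod (N := zpowers z) ?_ ?_ ?_ ?_ (h.comm_le x h.x_mem n₁ hy) (a * b) b
      · rw [← ht]; exact hWz t htW x
      · rw [← ht]; exact hWz t htW y
      · exact hWz w₁ hxW y
      · exact hWz w₁ hxW n₁
    have htp : t ^ p ∈ zpowers z := by
      have hrel : (zpowers z).relIndex W = p := by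
        have := ((zpowers z).subgroupOf W).card_mul_index
        rw [Nat.card_congr (subgroupOfEquivOfLe hzle).toEquiv, Nat.card_zpowers, h.z_order, h.cardW,
          pow_two] at this
        exact Nat.eq_of_mul_eq_mul_left hp.out.pos this
      have := pow_index_mem ((zpowers z).subgroupOf W) (⟨t, htW⟩ : W)
      rwa [show ((zpowers z).subgroupOf W).index = p from hrel] at this
    have h3 : (t ^ ω)⁻¹ * t ^ (a * b * b) ∈ zpowers z := by
      have := mul_mem hω (inv_mem h1)
      simpa [mul_assoc] using this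
    have := cast_eq_of_pow (p := p) htz htp h3
    simpa using this

end Normal

/-- The chain of a group of maximal class of order `p⁵`. -/
structure MData (p : ℕ) (U D C : Subgroup G) (e x₁ x₂ x₃ z : G) : Prop where
  normU : U.Normal
  normD : D.Normal
  C_def : C = centralizer (U : Set G)
  U_le_D : U ≤ D
  D_le_C : D ≤ C
  D_le : D ≤ zpowers x₂ ⊔ U
  comm_U : ∀ u ∈ U, ∀ g : G, ⁅u, g⁆ ∈ zpowers z
  comm_D : ∀ d ∈ D, ∀ g : G, ⁅d, g⁆ ∈ U
  comm_C : ∀ c ∈ C, ∀ d ∈ C, ⁅c, d⁆ ∈ zpowers z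
  x₁_mem : x₁ ∈ C
  x₂_mem : x₂ ∈ D
  x₃_mem : x₃ ∈ U
  x₂_def : x₂ = ⁅e, x₁⁆
  x₃_def : x₃ = ⁅e, x₂⁆
  z_def : z = ⁅e, x₃⁆
  z_mem : z ∈ U
  z_central : z ∈ center G
  z_order : orderOf z = p
  noncomm : ⁅x₁, x₂⁆ ≠ 1

/-- Exponents of an automorphism on a group of maximal class of order `p⁵`. -/
theorem MData.rel {U D C : Subgroup G} {e x₁ x₂ x₃ z : G} (h : MData p U D C e x₁ x₂ x₃ z)
    (γ : MulAut G) {a b : ℕ} (hb : (b : ZMod p) ≠ 0) (ha : (a : ZMod p) ≠ 0) (he : (e ^ a)⁻¹ * γ e ∈ C)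
    (hx : (x₁ ^ b)⁻¹ * γ x₁ ∈ D) :
    (b : ZMod p) = (a : ZMod p) ^ 2 ∧ γ z = z ^ (a ^ 3 * b) ∧
      (x₃ ^ (a ^ 2 * b))⁻¹ * γ x₃ ∈ zpowers z := by
  haveI := h.normU
  haveI := h.normD
  have hzc : ∀ g : G, Commute z g := fun g => (mem_center_iff.1 h.z_central g).symm
  have hzn : (zpowers z).Normal := ⟨fun u hu g => by
    obtain ⟨i, rfl⟩ := mem_zpowers_iff.1 hu
    rw [((hzc g).zpow_left i).symm.eq, mul_inv_cancel_right]; exact zpow_mem (mem_zpowers z) i⟩
  have hzU : zpowers z ≤ U := zpowers_le.2 h.z_mem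
  have hswap : ∀ {K : Subgroup G} {u v : G}, ⁅u, v⁆ ∈ K → ⁅v, u⁆ ∈ K := fun {K u v} h => by
    rw [← commutatorElement_inv]; exact inv_mem h
  set c₁ := (e ^ a)⁻¹ * γ e with hc₁
  set d₁ := (x₁ ^ b)⁻¹ * γ x₁ with hd₁
  have hge : γ e = e ^ a * c₁ := by rw [hc₁, mul_inv_cancel_left]
  have hgx : γ x₁ = x₁ ^ b * d₁ := by rw [hd₁, mul_inv_cancel_left]
  have h1 : (x₂ ^ (a * b))⁻¹ * γ x₂ ∈ U := by
    rw [h.x₂_def, map_commutatorElement, hge, hgx]
    refine comm_pow_mod ?_ ?_ (hzU (h.comm_C c₁ he x₁ h.x₁_mem))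
      (hzU (h.comm_C c₁ he d₁ (h.D_le_C hx))) (hswap (h.comm_D d₁ hx e)) a b
    · rw [← h.x₂_def]; exact h.comm_D x₂ h.x₂_mem e
    · rw [← h.x₂_def]; exact h.comm_D x₂ h.x₂_mem x₁
  set u₁ := (x₂ ^ (a * b))⁻¹ * γ x₂ with hu₁
  have hgx2 : γ x₂ = x₂ ^ (a * b) * u₁ := by rw [hu₁, mul_inv_cancel_left]
  have hUC : U ≤ C := h.U_le_D.trans h.D_le_C
  have hUcomm : ∀ u ∈ U, ∀ c ∈ C, Commute u c := fun u hu c hc =>
    mem_centralizer_iff.1 (show c ∈ centralizer (U : Set G) from h.C_def ▸ hc) u hu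
  have h2 : (x₃ ^ (a * (a * b)))⁻¹ * γ x₃ ∈ zpowers z := by
    rw [h.x₃_def, map_commutatorElement, hge, hgx2]
    refine comm_pow_mod ?_ ?_ (h.comm_C c₁ he x₂ (h.D_le_C h.x₂_mem))
      (h.comm_C c₁ he u₁ (hUC h1)) (hswap (h.comm_U u₁ h1 e)) a (a * b)
    · rw [← h.x₃_def]; exact h.comm_U x₃ h.x₃_mem e
    · rw [← h.x₃_def]; exact h.comm_U x₃ h.x₃_mem x₂
  set z₁ := (x₃ ^ (a * (a * b)))⁻¹ * γ x₃ with hz₁
  have hgx3 : γ x₃ = x₃ ^ (a * (a * b)) * z₁ := by rw [hz₁, mul_inv_cancel_left]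
  have hz₁c : ∀ g : G, Commute z₁ g := fun g => by
    obtain ⟨i, hi⟩ := mem_zpowers_iff.1 h2
    rw [← hi]; exact (hzc g).zpow_left i
  have h3 : γ z = z ^ (a * (a * (a * b))) := by
    rw [h.z_def, map_commutatorElement, hge, hgx3]
    exact comm_pow (by rw [← h.z_def]; exact hzc e) (by rw [← h.z_def]; exact hzc x₃)
      (hUcomm x₃ h.x₃_mem c₁ he).symm (hz₁c c₁).symm (hz₁c e).symm a _
  have e3 : a * (a * (a * b)) = a ^ 3 * b := by ring
  refine ⟨?_, by rw [h3, e3], by rw [show a ^ 2 * b = a * (a * b) by ring]; exact h2⟩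
  obtain ⟨k, hk : z ^ k = ⁅x₁, x₂⁆⟩ := (isOfFinOrder_of_finite z).mem_powers_iff_mem_zpowers.2
    (h.comm_C x₁ h.x₁_mem x₂ (h.D_le_C h.x₂_mem))
  have hcv : ∀ g : G, Commute ⁅x₁, x₂⁆ g := fun g => hk ▸ (hzc g).pow_left k
  have hd : Commute d₁ x₂ := by
    have hle : zpowers x₂ ⊔ U ≤ centralizer ({x₂} : Set G) := sup_le
      (zpowers_le.2 (mem_centralizer_singleton_iff.2 rfl))
      (fun u hu => mem_centralizer_singleton_iff.2 (hUcomm u hu x₂ (h.D_le_C h.x₂_mem)).eq)
    exact mem_centralizer_singleton_iff.1 (hle (h.D_le hx))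
  have h4 : γ ⁅x₁, x₂⁆ = ⁅x₁, x₂⁆ ^ (b * (a * b)) := by
    rw [map_commutatorElement, hgx, hgx2]
    exact comm_pow (hcv x₁) (hcv x₂) hd (hUcomm u₁ h1 d₁ (h.D_le_C hx)).symm
      (hUcomm u₁ h1 x₁ h.x₁_mem).symm b _
  have h5 : γ ⁅x₁, x₂⁆ = ⁅x₁, x₂⁆ ^ (a * (a * (a * b))) := by
    rw [← hk, map_pow, h3, ← pow_mul, ← pow_mul, mul_comm]
  have h6 := cast_eq_of_pow_eq (p := p) h.noncomm (by
      rw [← hk, ← pow_mul, mul_comm, pow_mul, ← h.z_order, pow_orderOf_eq_one, one_pow])
    (h4.symm.trans h5)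
  push_cast at h6
  have h7 : ((b : ZMod p) - (a : ZMod p) ^ 2) * ((a : ZMod p) * b) = 0 := by linear_combination h6
  exact sub_eq_zero.1 ((mul_eq_zero.1 h7).resolve_right (mul_ne_zero ha hb))

theorem card_quotient_map (hG : IsPGroup p G) {W H : Subgroup G} [W.Normal] (hWH : W ≤ H) :
    Nat.card (H.map (QuotientGroup.mk' W)) * Nat.card W = Nat.card H := by
  have _ := hG
  have h := (W.subgroupOf H).card_mul_index
  rw [Nat.card_congr (subgroupOfEquivOfLe hWH).toEquiv] at h
  rw [← relIndex_ker (f := QuotientGroup.mk' W), QuotientGroup.ker_mk', mul_comm]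
  exact h

omit [Finite G] in
theorem mem_sup_iff_mk {W : Subgroup G} [W.Normal] {x g : G} :
    g ∈ W ⊔ zpowers x ↔ QuotientGroup.mk' W g ∈ zpowers (QuotientGroup.mk' W x) := by
  rw [← MonoidHom.map_zpowers, ← mem_comap, comap_map_eq, QuotientGroup.ker_mk', sup_comm]

/-- In a normal section of order `p²` the commutators with the whole group are central. -/
theorem section_central (hG : IsPGroup p G) {W H : Subgroup G} [W.Normal] [H.Normal] (hWH : W ≤ H)
    (hc : Nat.card H = p ^ 2 * Nat.card W) {a g : G} (ha : a ∈ H) :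
    (∀ g' : G, ⁅⁅a, g⁆, g'⁆ ∈ W) ∧ (⁅a, g⁆ ∉ W → a ∉ W ⊔ zpowers ⁅a, g⁆) := by
  set π := QuotientGroup.mk' W
  have hQ := hG.to_quotient W
  have hn : (H.map π).Normal := Normal.map inferInstance π (QuotientGroup.mk'_surjective W)
  have hHc : Nat.card (H.map π) = p ^ 2 :=
    Nat.eq_of_mul_eq_mul_right Nat.card_pos ((card_quotient_map hG hWH).trans hc)
  have hne : H.map π ≠ ⊥ := fun h => by
    rw [h, card_bot] at hHc
    exact (Nat.one_lt_pow (by norm_num) hp.out.one_lt).ne hHc
  obtain ⟨B, x₀, hBn, -, -, -, hsup, hcardB, hxc⟩ := CfsgLib.PGroup.exists_normal_index_prime hQ _ hne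
  have hBc : Nat.card B = p := by
    rw [hHc, pow_two] at hcardB
    exact (Nat.eq_of_mul_eq_mul_left hp.out.pos hcardB).symm
  have hBz := CfsgLib.FusionExtraspecial.le_center_of_card_eq hQ hBn hBc
  haveI := hBn
  have hall : ∀ h ∈ H.map π, ∀ q, ⁅h, q⁆ ∈ B := by
    intro h hh q
    rw [← hsup] at hh
    have hle : B ⊔ zpowers x₀ ≤ (center ((G ⧸ W) ⧸ B)).comap (QuotientGroup.mk' B) := by
      refine sup_le (fun b hb => ?_) (zpowers_le.2 ?_)
      · rw [mem_comap, QuotientGroup.mk'_apply, (QuotientGroup.eq_one_iff b).2 hb]; exact one_mem _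
      · rw [mem_comap, mem_center_iff]
        intro r
        obtain ⟨r, rfl⟩ := QuotientGroup.mk'_surjective B r
        exact (mk_commute (hxc r)).symm.eq
    rw [← QuotientGroup.eq_one_iff, ← QuotientGroup.mk'_apply (N := B), map_commutatorElement,
      commutatorElement_eq_one_iff_mul_comm]
    exact (mem_center_iff.1 (hle hh) _).symm
  have hx : π ⁅a, g⁆ ∈ B := by rw [map_commutatorElement]; exact hall _ (mem_map_of_mem π ha) _
  refine ⟨fun g' => ?_, fun hxW hm => hxW ?_⟩
  · rw [← QuotientGroup.eq_one_iff, ← QuotientGroup.mk'_apply (N := W), map_commutatorElement,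
      commutatorElement_eq_one_iff_mul_comm]
    exact (mem_center_iff.1 (hBz hx) _).symm
  · have hac : π a ∈ center (G ⧸ W) := zpowers_le.2 (hBz hx) (mem_sup_iff_mk.1 hm)
    rw [← QuotientGroup.eq_one_iff, ← QuotientGroup.mk'_apply (N := W), map_commutatorElement,
      commutatorElement_eq_one_iff_mul_comm]
    exact (mem_center_iff.1 hac _).symm

/-- The data of a normal subgroup of index `p` with a centre of order `p²`. -/
theorem exists_NData (hcG : Nat.card G = p ^ 5) (hab : NoAb p G) {N W : Subgroup G} [N.Normal] [W.Normal]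
    (hN : N.index = p) (hWN : W ≤ N) (hW : Nat.card W = p ^ 2)
    (hWc : ∀ w ∈ W, ∀ n ∈ N, Commute w n) (hD : Nat.card (⁅N, N⁆ : Subgroup G) = p)
    {e y : G} (he : e ∈ N) (hy : y ∉ N) (hx : ⁅e, y⁆ ∉ W) :
    ∃ z, NData p N W e y ⁅e, y⁆ z := by
  have hG : IsPGroup p G := IsPGroup.of_card hcG
  have hNc : Nat.card N = p ^ 4 := by
    have h := N.card_mul_index
    rw [hN, hcG, pow_succ] at h
    exact Nat.eq_of_mul_eq_mul_right hp.out.pos h
  set x := ⁅e, y⁆ with hxd
  set z := ⁅e, x⁆ with hzd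
  obtain ⟨hxc, hex⟩ := section_central hG hWN (by rw [hNc, hW, ← pow_add]) he (g := y)
  have hex := hex hx
  have hxN : x ∈ N := commutator_le_left N ⊤ (commutator_mem_commutator he (mem_top y))
  have hWX : W < W ⊔ zpowers x :=
    lt_of_le_of_ne le_sup_left fun e => hx (e ▸ mem_sup_right (mem_zpowers x))
  have hXT : W ⊔ zpowers x < W ⊔ zpowers x ⊔ zpowers e :=
    lt_of_le_of_ne le_sup_left fun h' => hex (h' ▸ mem_sup_right (mem_zpowers e))
  have hTN : W ⊔ zpowers x ⊔ zpowers e ≤ N :=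
    sup_le (sup_le hWN (zpowers_le.2 hxN)) (zpowers_le.2 he)
  have hNle : N ≤ W ⊔ zpowers x ⊔ zpowers e := by
    refine (eq_of_le_of_card_ge hTN ?_).ge
    have h1 := (Nat.mul_le_mul_left p (mul_card_le_of_lt hG hWX)).trans (mul_card_le_of_lt hG hXT)
    rw [hW] at h1
    rw [hNc]
    calc p ^ 4 = p * (p * p ^ 2) := by ring
      _ ≤ _ := h1
  have hz1 : z ≠ 1 := by
    intro h1
    have hc : e * x = x * e := commutatorElement_eq_one_iff_mul_comm.1 (hzd ▸ h1)
    have habN : ∀ u ∈ N, ∀ v ∈ N, u * v = v * u := by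
      have hNcl : N ≤ closure ((W : Set G) ∪ {x} ∪ {e}) := hNle.trans (sup_le (sup_le
        (fun w hw => subset_closure (Or.inl (Or.inl hw)))
        (zpowers_le.2 (subset_closure (Or.inl (Or.inr rfl)))))
        (zpowers_le.2 (subset_closure (Or.inr rfl))))
      have h2 : ∀ u ∈ closure ((W : Set G) ∪ {x} ∪ {e}), ∀ v ∈ closure ((W : Set G) ∪ {x} ∪ {e}),
          u * v = v * u := by
        refine commute_pair_closure ?_
        rintro u ((hu | rfl) | rfl) v ((hv | rfl) | rfl)
        · exact (hWc u hu v (hWN hv)).eq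
        · exact (hWc u hu _ hxN).eq
        · exact (hWc u hu _ he).eq
        · exact (hWc v hv _ hxN).eq.symm
        · rfl
        · exact hc.symm
        · exact (hWc v hv _ he).eq.symm
        · exact hc
        · rfl
      exact fun u hu v hv => h2 u (hNcl hu) v (hNcl hv)
    have := hab N habN
    rw [hNc] at this
    exact lt_irrefl _ this
  have hzD : z ∈ ⁅N, N⁆ := commutator_mem_commutator he hxN
  have hzp : orderOf z = p := by
    refine orderOf_eq_prime ?_ hz1
    have := pow_card_eq_one' (x := (⟨z, hzD⟩ : (⁅N, N⁆ : Subgroup G)))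
    rw [hD] at this
    exact congrArg Subtype.val this
  have hDz : ⁅N, N⁆ = zpowers z :=
    (eq_of_le_of_card_ge (zpowers_le.2 hzD) (by rw [Nat.card_zpowers, hzp, hD])).symm
  refine ⟨z, ⟨hcG, hab, hN, inferInstance, hWN, hW, hWc, he, hy, rfl, hxN, hex, hx, rfl,
    fun a ha b hb => hDz ▸ commutator_mem_commutator ha hb, ?_, ?_, hzp, hxc, hNle⟩⟩
  · rw [hzd, ← commutatorElement_inv]
    exact inv_mem (hxc e)
  · exact CfsgLib.FusionExtraspecial.le_center_of_card_eq hG (hDz ▸ inferInstance)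
      (by rw [Nat.card_zpowers, hzp]) (mem_zpowers z)

/-- The data of `exists_CData`. -/
structure CData (p : ℕ) (U D C : Subgroup G) (e y x w z : G) : Prop where
  normU : U.Normal
  normD : D.Normal
  normC : C.Normal
  U_le : U ≤ C
  D_le : D ≤ U
  C_le : C ≤ U ⊔ zpowers y
  U_gen : U ≤ D ⊔ zpowers w
  y_mem : y ∈ C
  w_mem : w ∈ U
  w_notMem : w ∉ D
  x_mem : x ∈ D
  x_def : x = ⁅e, y⁆
  z_def : z = ⁅e, x⁆
  z_central : z ∈ center G
  z_order : orderOf z = p
  x_notMem : x ∉ zpowers z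
  C_comm_D : ∀ c ∈ C, ∀ d ∈ D, Commute c d
  U_comm : ∀ u ∈ U, ∀ v ∈ U, Commute u v
  U_z : ∀ u ∈ U, ∀ g : G, ⁅u, g⁆ ∈ zpowers z
  C_z : ∀ c ∈ C, ∀ d ∈ C, ⁅c, d⁆ ∈ zpowers z
  wy : ⁅w, y⁆ ≠ 1

/-- Exponents of an automorphism in the case of class three: `ω = a²`. -/
theorem CData.rel {U D C : Subgroup G} {e y x w z : G} (h : CData p U D C e y x w z) (γ : MulAut G)
    {a b ω : ℕ} (hb : (b : ZMod p) ≠ 0) (he : (e ^ a)⁻¹ * γ e ∈ C)
    (hy : (y ^ b)⁻¹ * γ y ∈ U) (hw : (w ^ ω)⁻¹ * γ w ∈ D) :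
    (ω : ZMod p) = (a : ZMod p) ^ 2 := by
  haveI := h.normU
  have hzc : ∀ g : G, Commute z g := fun g => (mem_center_iff.1 h.z_central g).symm
  have hzn : (zpowers z).Normal := ⟨fun u hu g => by
    obtain ⟨i, rfl⟩ := mem_zpowers_iff.1 hu
    rw [((hzc g).zpow_left i).symm.eq, mul_inv_cancel_right]; exact zpow_mem (mem_zpowers z) i⟩
  set c₁ := (e ^ a)⁻¹ * γ e with hc₁
  set u₁ := (y ^ b)⁻¹ * γ y with hu₁
  set d₁ := (w ^ ω)⁻¹ * γ w with hd₁
  have hge : γ e = e ^ a * c₁ := by rw [hc₁, mul_inv_cancel_left]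
  have hgy : γ y = y ^ b * u₁ := by rw [hu₁, mul_inv_cancel_left]
  have hgw : γ w = w ^ ω * d₁ := by rw [hd₁, mul_inv_cancel_left]
  have hswap : ∀ {u v : G}, ⁅u, v⁆ ∈ zpowers z → ⁅v, u⁆ ∈ zpowers z := fun {u v} h => by
    rw [← commutatorElement_inv]; exact inv_mem h
  have hxU := h.D_le h.x_mem
  have h1 : (x ^ (a * b))⁻¹ * γ x ∈ zpowers z := by
    rw [h.x_def, map_commutatorElement, hge, hgy]
    refine comm_pow_mod ?_ ?_ (h.C_z c₁ he y h.y_mem) (h.C_z c₁ he u₁ (h.U_le hy))
      (hswap (h.U_z u₁ hy e)) a b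
    · rw [← h.x_def]; exact h.U_z x hxU e
    · rw [← h.x_def]; exact h.U_z x hxU y
  set z₁ := (x ^ (a * b))⁻¹ * γ x with hz₁
  have hgx : γ x = x ^ (a * b) * z₁ := by rw [hz₁, mul_inv_cancel_left]
  have hz₁c : ∀ g : G, Commute z₁ g := fun g => by
    obtain ⟨i, hi⟩ := mem_zpowers_iff.1 h1
    rw [← hi]; exact (hzc g).zpow_left i
  have h3 : γ z = z ^ (a * (a * b)) := by
    rw [h.z_def, map_commutatorElement, hge, hgx]
    exact comm_pow (by rw [← h.z_def]; exact hzc e) (by rw [← h.z_def]; exact hzc x)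
      (h.C_comm_D c₁ he x h.x_mem) (hz₁c c₁).symm (hz₁c e).symm a _
  obtain ⟨k, hk : z ^ k = ⁅w, y⁆⟩ :=
    (isOfFinOrder_of_finite z).mem_powers_iff_mem_zpowers.2 (h.U_z w h.w_mem y)
  have hcv : ∀ g : G, Commute ⁅w, y⁆ g := fun g => hk ▸ (hzc g).pow_left k
  have h4 : γ ⁅w, y⁆ = ⁅w, y⁆ ^ (ω * b) := by
    rw [map_commutatorElement, hgw, hgy]
    exact comm_pow (hcv w) (hcv y) (h.C_comm_D y h.y_mem d₁ hw).symm
      (h.C_comm_D u₁ (h.U_le hy) d₁ hw).symm (h.U_comm w h.w_mem u₁ hy) ω b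
  have h5 : γ ⁅w, y⁆ = ⁅w, y⁆ ^ (a * (a * b)) := by
    rw [← hk, map_pow, h3, ← pow_mul, ← pow_mul, mul_comm]
  have h6 := cast_eq_of_pow_eq (p := p) h.wy (by
      rw [← hk, ← pow_mul, mul_comm, pow_mul, ← h.z_order, pow_orderOf_eq_one, one_pow])
    (h4.symm.trans h5)
  push_cast at h6
  have h7 : ((ω : ZMod p) - (a : ZMod p) ^ 2) * b = 0 := by linear_combination h6
  exact sub_eq_zero.1 ((mul_eq_zero.1 h7).resolve_right hb)

omit [Finite G] hp in
theorem commutator_mem_iff_mk {K : Subgroup G} [K.Normal] {a b : G} :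
    ⁅a, b⁆ ∈ K ↔ QuotientGroup.mk' K a * QuotientGroup.mk' K b = QuotientGroup.mk' K b * QuotientGroup.mk' K a := by
  rw [← commutatorElement_eq_one_iff_mul_comm, ← map_commutatorElement, QuotientGroup.mk'_apply,
    QuotientGroup.eq_one_iff]

/-- A subgroup properly containing one of index `p` is everything. -/
theorem eq_top_of_index_lt {M M' : Subgroup G} (hM : M.index = p) (h : M < M') : M' = ⊤ := by
  have hd := index_dvd_of_le h.le
  rw [hM] at hd
  refine index_eq_one.1 (((Nat.dvd_prime hp.out).1 hd).resolve_right fun e => ?_)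
  have := index_strictAnti h
  rw [e, hM] at this
  exact lt_irrefl _ this

/-- The subgroups of class three from `NData` with `⁅x, y⁆ ∈ ⟨z⟩` and noncentral `W`. -/
theorem NData.exists_CData {N W : Subgroup G} [N.Normal] {e y x z : G} (h : NData p N W e y x z)
    {w : G} (hw : w ∈ W) (hwc : w ∉ center G) (ht : ⁅x, y⁆ ∈ zpowers z) :
    ∃ (U D C : Subgroup G) (y' : G), CData p U D C e y' x w z ∧ D.Characteristic ∧ U.Characteristic ∧
      C.Characteristic ∧ U = W ⊔ zpowers x ∧ (∀ a b : G, ⁅a, b⁆ ∈ D) ∧ y' ∉ N ∧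
      (∀ g : G, ∃ a : ℕ, (e ^ a)⁻¹ * g ∈ C) := by
  haveI := h.normW
  haveI := h.zpowers_normal
  have hG : IsPGroup p G := IsPGroup.of_card h.card
  have hzc := h.commute_z
  have hzW : zpowers z ≤ W := zpowers_le.2 h.z_mem
  obtain ⟨k, hk : z ^ k = ⁅x, y⁆⟩ := (isOfFinOrder_of_finite z).mem_powers_iff_mem_zpowers.2 ht
  set y' := y * e ^ k
  have hxy : x * y' = y' * x := h.commute_mul hk
  have hy'N : y' ∉ N := fun hm => h.y_notMem (by
    have := mul_mem hm (inv_mem (pow_mem h.e_mem k))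
    rwa [mul_inv_cancel_right] at this)
  have hx' : ⁅e, y'⁆ = x := by
    have he1 : ⁅e, e ^ k⁆ = 1 := commutatorElement_eq_one_iff_commute.2 (Commute.self_pow e k)
    have : ⁅e, y'⁆ = ⁅e, y⁆ * (y * ⁅e, e ^ k⁆ * y⁻¹) := by simp [y', commutatorElement_def, mul_assoc]
    rw [this, he1, h.x_def]; group
  have hzne : z ≠ 1 := fun e => by
    have := h.z_order
    rw [e, orderOf_one] at this
    exact hp.out.ne_one this.symm
  have hNtop : N ⊔ zpowers y' = ⊤ := eq_top_of_index_lt h.index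
    (lt_of_le_of_ne le_sup_left fun e => hy'N (e ▸ mem_sup_right (mem_zpowers y')))
  set U := W ⊔ zpowers x with hU
  set D := zpowers z ⊔ zpowers x with hD
  set C := centralizer (D : Set G) with hC
  have hDU : D ≤ U := sup_le_sup_right hzW _
  have hUN : U ≤ N := sup_le h.W_le (zpowers_le.2 h.x_mem)
  have hxU : x ∈ U := mem_sup_right (mem_zpowers x)
  have hxD : x ∈ D := mem_sup_right (mem_zpowers x)
  set T := (U : Set G) ∪ {e} ∪ {y'} with hT
  have hTtop : closure T = ⊤ := by
    refine top_le_iff.1 (hNtop ▸ sup_le (h.N_le.trans (sup_le ?_ ?_)) (zpowers_le.2 ?_))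
    · exact fun u hu => subset_closure (Or.inl (Or.inl hu))
    · exact zpowers_le.2 (subset_closure (Or.inl (Or.inr rfl)))
    · exact subset_closure (Or.inr rfl)
  -- commutators modulo a normal subgroup are controlled by the generators
  have hcomm : ∀ (K : Subgroup G) [K.Normal], (∀ a ∈ T, ∀ b ∈ T, ⁅a, b⁆ ∈ K) →
      ∀ a b : G, ⁅a, b⁆ ∈ K := by
    intro K _ hK a b
    have hm : ∀ g : G, QuotientGroup.mk' K g ∈ closure (QuotientGroup.mk' K '' T) := fun g => by
      rw [← MonoidHom.map_closure]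
      exact mem_map_of_mem _ (hTtop ▸ mem_top g)
    refine commutator_mem_iff_mk.2 (commute_pair_closure ?_ _ (hm a) _ (hm b))
    rintro _ ⟨a, ha, rfl⟩ _ ⟨b, hb, rfl⟩
    exact commutator_mem_iff_mk.1 (hK a ha b hb)
  have hxz : ∀ g : G, ⁅x, g⁆ ∈ zpowers z := by
    intro g
    have hle : closure T ≤ (centralizer ({QuotientGroup.mk' (zpowers z) x} : Set (G ⧸ zpowers z))).comap
        (QuotientGroup.mk' (zpowers z)) := by
      refine (closure_le _).2 ?_
      have hmk : ∀ u : G, ⁅x, u⁆ ∈ zpowers z → u ∈ (centralizer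
          ({QuotientGroup.mk' (zpowers z) x} : Set (G ⧸ zpowers z))).comap (QuotientGroup.mk' (zpowers z)) :=
        fun u hu => mem_centralizer_singleton_iff.2 (commutator_mem_iff_mk.1 hu).symm
      rintro u ((hu | rfl) | rfl)
      · exact hmk u (h.comm_le x h.x_mem u (hUN hu))
      · exact hmk u (h.comm_le x h.x_mem u h.e_mem)
      · exact hmk _ (by rw [commutatorElement_eq_one_iff_mul_comm.2 hxy]; exact one_mem _)
    exact commutator_mem_iff_mk.2 (mem_centralizer_singleton_iff.1 (hle (hTtop ▸ mem_top g))).symm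
  have hDn : D.Normal := by rw [hD]; exact CfsgLib.PGroup.sup_zpowers_normal hxz
  haveI := hDn
  have hUn : U.Normal := by rw [hU]; exact CfsgLib.PGroup.sup_zpowers_normal h.x_comm
  have hUz : ∀ u ∈ U, ∀ g : G, ⁅u, g⁆ ∈ zpowers z := by
    intro u hu g
    have hle : U ≤ (centralizer ({QuotientGroup.mk' (zpowers z) g} : Set (G ⧸ zpowers z))).comap
        (QuotientGroup.mk' (zpowers z)) := sup_le
      (fun v hv => mem_centralizer_singleton_iff.2 (commutator_mem_iff_mk.1 (h.comm_W hv g)))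
      (zpowers_le.2 (mem_centralizer_singleton_iff.2 (commutator_mem_iff_mk.1 (hxz g))))
    exact commutator_mem_iff_mk.2 (mem_centralizer_singleton_iff.1 (hle hu))
  have hUab : ∀ u ∈ U, ∀ v ∈ U, Commute u v := by
    have hle : U ≤ closure ((W : Set G) ∪ {x}) := sup_le (fun w hw => subset_closure (Or.inl hw))
      (zpowers_le.2 (subset_closure (Or.inr rfl)))
    refine fun u hu v hv => commute_pair_closure ?_ u (hle hu) v (hle hv)
    rintro a (ha | rfl) b (hb | rfl)
    · exact (h.W_central a ha b (h.W_le hb)).eq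
    · exact (h.W_central a ha _ h.x_mem).eq
    · exact (h.W_central b hb _ h.x_mem).eq.symm
    · rfl
  have hCmem : ∀ c : G, c * x = x * c → c ∈ C := fun c hc => by
    have hle : D ≤ centralizer ({c} : Set G) := sup_le
      (zpowers_le.2 (mem_centralizer_singleton_iff.2 (hzc c).eq))
      (zpowers_le.2 (mem_centralizer_singleton_iff.2 hc.symm))
    exact mem_centralizer_iff.2 fun d hd => mem_centralizer_singleton_iff.1 (hle hd)
  have hUC : U ≤ C := fun u hu => hCmem u (hUab u hu x hxU).eq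
  have hyC : y' ∈ C := hCmem y' hxy.symm
  have hCn : C.Normal := by rw [hC]; infer_instance
  haveI := hCn
  have heC : e ∉ C := fun hm => hzne (h.z_def ▸
    commutatorElement_eq_one_iff_mul_comm.2 ((mem_centralizer_iff.1 hm) x hxD).symm)
  -- orders
  have hNc : Nat.card N = p ^ 4 := by
    have h' := N.card_mul_index
    rw [h.index, h.card, pow_succ] at h'
    exact Nat.eq_of_mul_eq_mul_right hp.out.pos h'
  have hUc : p ^ 3 ≤ Nat.card U := by
    have h' := mul_card_le_of_lt hG (A := W) (B := U)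
      (lt_of_le_of_ne le_sup_left fun e => h.x_notMem (e ▸ hxU))
    rwa [h.cardW, ← pow_succ'] at h'
  have hUC' : U < U ⊔ zpowers y' :=
    lt_of_le_of_ne le_sup_left fun e => hy'N (hUN (e ▸ mem_sup_right (mem_zpowers y')))
  have hsupC : U ⊔ zpowers y' ≤ C := sup_le hUC (zpowers_le.2 hyC)
  have hCc : p * Nat.card C ≤ p ^ 5 := by
    rw [← h.card, ← card_top (G := G)]
    exact mul_card_le_of_lt hG (lt_of_le_of_ne le_top fun e' => heC (e' ▸ mem_top e))
  have hsupc : p ^ 4 ≤ Nat.card (U ⊔ zpowers y' : Subgroup G) := by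
    rw [show p ^ 4 = p * p ^ 3 by ring]
    exact (Nat.mul_le_mul_left p hUc).trans (mul_card_le_of_lt hG hUC')
  have hC4 : Nat.card C = p ^ 4 := le_antisymm
    (Nat.le_of_mul_le_mul_left (hCc.trans_eq (by ring)) hp.out.pos)
    (hsupc.trans (card_le_of_le hsupC))
  have hCi : C.index = p := by
    have h' := C.card_mul_index
    rw [hC4, h.card, pow_succ p 4] at h'
    exact Nat.eq_of_mul_eq_mul_left (Nat.pow_pos hp.out.pos) h'
  have hCy : C ≤ U ⊔ zpowers y' := (eq_of_le_of_card_ge hsupC (hC4.trans_le hsupc)).ge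
  have hCz : ∀ c ∈ C, ∀ d ∈ C, ⁅c, d⁆ ∈ zpowers z := by
    intro c hc d hd
    have hle : U ⊔ zpowers y' ≤ closure ((U : Set G) ∪ {y'}) := sup_le
      (fun u hu => subset_closure (Or.inl hu)) (zpowers_le.2 (subset_closure (Or.inr rfl)))
    have hm : ∀ g ∈ C, QuotientGroup.mk' (zpowers z) g ∈
        closure (QuotientGroup.mk' (zpowers z) '' ((U : Set G) ∪ {y'})) := fun g hg => by
      rw [← MonoidHom.map_closure]
      exact mem_map_of_mem _ (hle (hCy hg))
    refine commutator_mem_iff_mk.2 (commute_pair_closure ?_ _ (hm c hc) _ (hm d hd))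
    rintro _ ⟨a, (ha | rfl), rfl⟩ _ ⟨b, (hb | rfl), rfl⟩
    · exact commutator_mem_iff_mk.1 (hUz a ha b)
    · exact commutator_mem_iff_mk.1 (hUz a ha _)
    · exact (commutator_mem_iff_mk.1 (hUz b hb _)).symm
    · rfl
  have hwy : ⁅w, y'⁆ ≠ 1 := by
    intro h1
    refine hwc (mem_center_iff.2 fun g => ?_)
    have hle : N ⊔ zpowers y' ≤ centralizer ({w} : Set G) := sup_le
      (fun n hn => mem_centralizer_singleton_iff.2 (h.W_central w hw n hn).symm.eq)
      (zpowers_le.2 (mem_centralizer_singleton_iff.2 (commutatorElement_eq_one_iff_mul_comm.1 h1).symm))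
    exact mem_centralizer_singleton_iff.1 (hle (hNtop ▸ mem_top g))
  have hxzn : x ∉ zpowers z := fun hm => h.x_notMem (hzW hm)
  have hwD : w ∉ D := fun hwD =>
    hwy (commutatorElement_eq_one_iff_mul_comm.2 ((mem_centralizer_iff.1 hyC) w hwD))
  have hUgen : U ≤ D ⊔ zpowers w := by
    refine sup_le ?_ ((zpowers_le.2 hxD).trans le_sup_left)
    have hlt : zpowers z < zpowers z ⊔ zpowers w := lt_of_le_of_ne le_sup_left fun e => hwc (by
      obtain ⟨r, hr⟩ := mem_zpowers_iff.1 (e ▸ mem_sup_right (mem_zpowers w) : w ∈ zpowers z)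
      rw [← hr]; exact zpow_mem h.z_central r)
    have h1 := mul_card_le_of_lt hG hlt
    rw [Nat.card_zpowers, h.z_order, ← pow_two, ← h.cardW] at h1
    rw [← eq_of_le_of_card_ge (sup_le hzW (zpowers_le.2 hw)) h1]
    exact sup_le_sup_right le_sup_left _
  have hab : ∀ a b : G, ⁅a, b⁆ ∈ D := by
    refine hcomm D ?_
    have hsw : ∀ {u v : G}, ⁅u, v⁆ ∈ D → ⁅v, u⁆ ∈ D := fun {u v} h => by
      rw [← commutatorElement_inv]; exact inv_mem h
    have hey : ⁅e, y'⁆ ∈ D := hx'.symm ▸ hxD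
    rintro a ((ha | rfl) | rfl) b ((hb | rfl) | rfl)
    all_goals first
      | exact mem_sup_left (hUz a ha _)
      | exact hsw (mem_sup_left (hUz b hb _))
      | (rw [commutatorElement_self]; exact one_mem _)
      | exact hey
      | exact hsw hey
  have hcomD : commutator G = D := by
    refine le_antisymm ?_ (sup_le (zpowers_le.2 ?_) (zpowers_le.2 ?_))
    · rw [_root_.commutator_def, commutator_le]; exact fun a _ b _ => hab a b
    · rw [h.z_def]; exact commutator_mem_commutator (mem_top _) (mem_top _)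
    · rw [← hx']; exact commutator_mem_commutator (mem_top _) (mem_top _)
  have hDc : D.Characteristic := hcomD ▸ inferInstance
  have hCc' : C.Characteristic := by
    haveI := hDc
    rw [hC]; infer_instance
  -- `U` is the second centre
  have hUiff : ∀ u : G, u ∈ U ↔ ∀ g : G, ⁅u, g⁆ ∈ center G := by
    refine fun u => ⟨fun hu g => (zpowers_le.2 h.z_central) (hUz u hu g), fun hu => ?_⟩
    by_contra huU
    set Z₂ := (center (G ⧸ center G)).comap (QuotientGroup.mk' (center G)) with hZ₂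
    have hmem : ∀ v : G, (∀ g, ⁅v, g⁆ ∈ center G) → v ∈ Z₂ := fun v hv => by
      rw [hZ₂, mem_comap, mem_center_iff]
      intro q
      obtain ⟨g, rfl⟩ := QuotientGroup.mk'_surjective _ q
      exact (commutator_mem_iff_mk.1 (hv g)).symm
    have hZ₂' : ∀ v ∈ Z₂, ∀ g, ⁅v, g⁆ ∈ center G := fun v hv g =>
      commutator_mem_iff_mk.2 (mem_center_iff.1 hv _).symm
    have hlt : U < Z₂ := lt_of_le_of_ne
      (fun v hv => hmem v fun g => (zpowers_le.2 h.z_central) (hUz v hv g)) fun e => huU (e ▸ hmem u hu)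
    have hne : Z₂ ≠ ⊤ := fun htop => hzne (by
      have h1 := hZ₂' e (htop ▸ mem_top e) y'
      rw [hx'] at h1
      rw [h.z_def]
      exact commutatorElement_eq_one_iff_mul_comm.2 (mem_center_iff.1 h1 e))
    obtain ⟨g, hg⟩ : ∃ g, g ∉ Z₂ := by
      by_contra h'
      push Not at h'
      exact hne (eq_top_iff.2 fun g _ => h' g)
    have hidx : Z₂.index = p := by
      obtain ⟨i, hi⟩ := IsPGroup.iff_card.1 (hG.to_subgroup Z₂)
      have h1 := (Nat.mul_le_mul_left p hUc).trans (mul_card_le_of_lt hG hlt)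
      have h2 := mul_card_le_of_lt hG (lt_top_iff_ne_top.2 hne)
      rw [hi, ← pow_succ', Nat.pow_le_pow_iff_right hp.out.one_lt] at h1
      rw [hi, card_top, h.card, ← pow_succ', Nat.pow_le_pow_iff_right hp.out.one_lt] at h2
      have h' := Z₂.card_mul_index
      rw [hi, h.card, show i = 4 by omega, pow_succ p 4] at h'
      exact Nat.eq_of_mul_eq_mul_left (Nat.pow_pos hp.out.pos) h'
    have htop : Z₂ ⊔ zpowers g = ⊤ := eq_top_of_index_lt hidx
      (lt_of_le_of_ne le_sup_left fun e => hg (e ▸ mem_sup_right (mem_zpowers g)))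
    refine hg (hmem g fun g' => ?_)
    have hle : Z₂ ⊔ zpowers g ≤ (centralizer ({QuotientGroup.mk' (center G) g} : Set (G ⧸ center G))).comap
        (QuotientGroup.mk' (center G)) := sup_le
      (fun v hv => mem_centralizer_singleton_iff.2 (commutator_mem_iff_mk.1 (hZ₂' v hv g)))
      (zpowers_le.2 (mem_centralizer_singleton_iff.2 rfl))
    exact commutator_mem_iff_mk.2 (mem_centralizer_singleton_iff.1 (hle (htop ▸ mem_top g'))).symm
  have hUc' : U.Characteristic := by
    refine characteristic_iff_le_comap.2 fun φ u hu => ?_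
    rw [mem_comap, MulEquiv.coe_toMonoidHom, hUiff]
    intro g
    obtain ⟨g, rfl⟩ := φ.surjective g
    rw [← map_commutatorElement, mem_center_iff]
    intro v
    obtain ⟨v, rfl⟩ := φ.surjective v
    rw [← map_mul, ← map_mul, mem_center_iff.1 ((hUiff u).1 hu g) v]
  refine ⟨U, D, C, y', ⟨hUn, hDn, hCn, hUC, hDU, hCy, hUgen, hyC, mem_sup_left hw, hwD,
    hxD, hx'.symm, h.z_def, h.z_central, h.z_order, hxzn,
    fun c hc d hd => ((mem_centralizer_iff.1 hc) d hd).symm, hUab, hUz, hCz, hwy⟩, hDc, hUc', hCc', hU,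
    hab, hy'N, fun g => ?_⟩
  have htop : C ⊔ zpowers e = ⊤ := eq_top_of_index_lt hCi
    (lt_of_le_of_ne le_sup_left fun e' => heC (e' ▸ mem_sup_right (mem_zpowers e)))
  obtain ⟨a, ha : QuotientGroup.mk' C e ^ a = QuotientGroup.mk' C g⟩ :=
    (isOfFinOrder_of_finite _).mem_powers_iff_mem_zpowers.2
      (mem_sup_iff_mk.1 (htop ▸ mem_top g))
  rw [← map_pow, mk_eq] at ha
  exact ⟨a, ha⟩

end CfsgLib.FusionPFive
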