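import Cfsg.Agent.Lib.FusionPFive.Pearl

/-!
Automorphisms of an essential subgroup of order `p²` in a group of order `p⁵`: they force `p = 3`
(or `7`) and are trivial modulo a `Good` subgroup.
-/

set_option autoImplicit false

open Cfsg Cfsg.FusionSystem CfsgLib.Fusion
open scoped commutatorElement

namespace CfsgLib.FusionPFive

variable {Ω : Type*} [Group Ω] {S : Subgroup Ω} {p : ℕ} {F : Cfsg.FusionSystem S}
variable {E N₁ N₂ : Subgroup Ω} {U D C : Subgroup S} {e x₁ x₂ x₃ z : S}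

variable [Fact p.Prime] [Finite S]

theorem PCtx.z_ne_one (h : PCtx p F E N₁ N₂ U D C e x₁ x₂ x₃ z) : z ≠ 1 := fun e' => by
  have := h.data.z_order
  rw [e', orderOf_one] at this
  exact (Fact.out : p.Prime).ne_one this.symm

theorem PCtx.zpowers_normal (h : PCtx p F E N₁ N₂ U D C e x₁ x₂ x₃ z) : (Subgroup.zpowers z).Normal := by
  rw [← h.center_eq]; infer_instance

theorem PCtx.E_le (h : PCtx p F E N₁ N₂ U D C e x₁ x₂ x₃ z) : E ≤ S := h.le_N₁.trans h.N₁_le

theorem PCtx.e_mem_N₁ (h : PCtx p F E N₁ N₂ U D C e x₁ x₂ x₃ z) : e ∈ N₁.subgroupOf S :=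
  Subgroup.comap_mono h.le_N₁ h.e_mem

theorem PCtx.x₃_mem_N₁ (h : PCtx p F E N₁ N₂ U D C e x₁ x₂ x₃ z) : x₃ ∈ N₁.subgroupOf S :=
  h.U_le_N₁ h.data.x₃_mem

theorem PCtx.U_gen (h : PCtx p F E N₁ N₂ U D C e x₁ x₂ x₃ z) :
    U = Subgroup.zpowers z ⊔ Subgroup.zpowers x₃ :=
  le_antisymm (le_sup_zpowers_of_relIndex h.hyp.isP (Subgroup.zpowers_le.2 h.data.z_mem)
    (relIndex_of_card (Subgroup.zpowers_le.2 h.data.z_mem)
      (((Nat.card_zpowers z).trans h.data.z_order).trans (pow_one p).symm) h.cardU)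
    h.data.x₃_mem h.x₃_notMem)
    (sup_le (Subgroup.zpowers_le.2 h.data.z_mem) (Subgroup.zpowers_le.2 h.data.x₃_mem))

theorem PCtx.e_notMem_U (h : PCtx p F E N₁ N₂ U D C e x₁ x₂ x₃ z) : e ∉ U := fun hm =>
  h.e_notMem (h.data.D_le_C (h.data.U_le_D hm))

theorem PCtx.N₁_gen (h : PCtx p F E N₁ N₂ U D C e x₁ x₂ x₃ z) :
    N₁.subgroupOf S ≤ U ⊔ Subgroup.zpowers e :=
  le_sup_zpowers_of_relIndex h.hyp.isP h.U_le_N₁
    (relIndex_of_card h.U_le_N₁ h.cardU ((card_subgroupOf h.N₁_le).trans h.cardN₁)) h.e_mem_N₁ h.e_notMem_U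

theorem PCtx.comm_N₁ (h : PCtx p F E N₁ N₂ U D C e x₁ x₂ x₃ z) {a b : S} (ha : a ∈ N₁.subgroupOf S)
    (hb : b ∈ N₁.subgroupOf S) : ⁅a, b⁆ ∈ Subgroup.zpowers z := by
  haveI := h.zpowers_normal
  have hm : ∀ g ∈ N₁.subgroupOf S, QuotientGroup.mk' (Subgroup.zpowers z) g ∈
      Subgroup.closure (QuotientGroup.mk' (Subgroup.zpowers z) '' ((U : Set S) ∪ {e})) := fun g hg => by
    rw [← MonoidHom.map_closure]
    refine Subgroup.mem_map_of_mem _ ((h.N₁_gen.trans (sup_le ?_ ?_)) hg)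
    · exact fun u hu => Subgroup.subset_closure (Or.inl hu)
    · exact Subgroup.zpowers_le.2 (Subgroup.subset_closure (Or.inr rfl))
  refine commutator_mem_iff_mk.2 (commute_pair_closure ?_ _ (hm a ha) _ (hm b hb))
  rintro _ ⟨u, hu, rfl⟩ _ ⟨v, hv, rfl⟩
  refine commutator_mem_iff_mk.1 ?_
  rcases hu with hu | hu
  · exact h.data.comm_U u hu v
  · rw [Set.mem_singleton_iff.1 hu]
    rcases hv with hv | hv
    · rw [← commutatorElement_inv]; exact inv_mem (h.data.comm_U v hv e)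
    · rw [Set.mem_singleton_iff.1 hv, commutatorElement_self]; exact one_mem _

theorem PCtx.z_invariant (h : PCtx p F E N₁ N₂ U D C e x₁ x₂ x₃ z) (α : MulAut N₁) :
    ∀ u ∈ pb h.N₁_le (Subgroup.zpowers z), α u ∈ pb h.N₁_le (Subgroup.zpowers z) := by
  intro u hu
  obtain ⟨i, hi⟩ := Subgroup.mem_zpowers_iff.1 hu
  have he : u = ⁅(⟨e, h.e_mem_N₁⟩ : N₁), ⟨x₃, h.x₃_mem_N₁⟩⁆ ^ i := by
    refine incl_injective h.N₁_le ?_
    rw [map_zpow, map_commutatorElement, ← hi]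
    exact congrArg (· ^ i) h.data.z_def
  rw [he, map_zpow, map_commutatorElement]
  refine zpow_mem ?_ i
  rw [mem_pb, map_commutatorElement]
  exact h.comm_N₁ (incl_mem h.N₁_le _) (incl_mem h.N₁_le _)

theorem PCtx.z_le_N₁ (h : PCtx p F E N₁ N₂ U D C e x₁ x₂ x₃ z) :
    Subgroup.zpowers z ≤ N₁.subgroupOf S :=
  (Subgroup.zpowers_le.2 h.data.z_mem).trans h.U_le_N₁

/-- An automorphism of `N₁` preserving `U` extends to `S`. -/
theorem PCtx.exists_top_of_preserve (h : PCtx p F E N₁ N₂ U D C e x₁ x₂ x₃ z) {α : MulAut N₁}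
    (hα : α ∈ F.autGroup N₁) (hU : α ⟨x₃, h.x₃_mem_N₁⟩ ∈ pb h.N₁_le U) :
    ∃ γ ∈ F.autGroup S, Agree h.N₁_le α γ := by
  have hp : p.Prime := Fact.out
  haveI := h.data.normU
  haveI := h.data.normD
  haveI := h.zpowers_normal
  have hS := h.hyp.isP
  have : Finite N₁ := finite_of_le h.N₁_le
  have : Finite N₂ := finite_of_le h.N₂_le
  have hzU : Subgroup.zpowers z ≤ U := Subgroup.zpowers_le.2 h.data.z_mem
  have hzc : Nat.card (Subgroup.zpowers z) = p := (Nat.card_zpowers z).trans h.data.z_order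
  have hrelU : (Subgroup.zpowers z).relIndex U = p := relIndex_of_card hzU (hzc.trans (pow_one p).symm) h.cardU
  have hUinv := map_mem_pb_of h.N₁_le (A := Subgroup.zpowers z) h.U_le_N₁ (x := ⟨x₃, h.x₃_mem_N₁⟩)
    h.U_gen α (fun u hu => Subgroup.comap_mono hzU (h.z_invariant α u hu)) hU
  have hN₁i : (pb h.N₁_le U).index = p := by
    have h' := (pb h.N₁_le U).card_mul_index
    rw [card_pb h.N₁_le h.U_le_N₁, h.cardU, h.cardN₁, pow_succ p 2] at h'
    exact Nat.eq_of_mul_eq_mul_left (pow_pos hp.pos 2) h'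
  obtain ⟨β, hβ, hag⟩ := exists_extend hS h.hyp.sat h.centric h.fullyNormalized h.N₁_le_N₂ h.normalizer_N₁
    (s := chain (pb h.N₁_le U) (pb h.N₁_le (Subgroup.zpowers z)) ⊥) (n := 3) rfl rfl
    (autInducedBy_le_preserve h.N₁_le fun g hg hgS => chain_invariant (conjAut_mem_pb h.N₁_le hg hgS)
      (conjAut_mem_pb h.N₁_le hg hgS) (fun u hu => by rw [Subgroup.mem_bot] at hu ⊢; rw [hu, map_one]))
    (chain_factors3 hN₁i (Subgroup.comap_mono hzU) (by rw [relIndex_pb h.N₁_le h.U_le_N₁, hrelU])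
      (by rw [card_pb h.N₁_le h.z_le_N₁, hzc]))
    hα (chain_invariant hUinv (h.z_invariant α) (fun u hu => by rw [Subgroup.mem_bot] at hu ⊢; rw [hu, map_one]))
  have hres : ∀ T : Subgroup S, T ≤ N₁.subgroupOf S → (∀ u ∈ pb h.N₁_le T, α u ∈ pb h.N₁_le T) →
      ∀ v ∈ pb h.N₂_le T, β v ∈ pb h.N₂_le T := by
    intro T hT hinv v hv
    have e1 : v = Subgroup.inclusion h.N₁_le_N₂ ⟨(v : Ω), hT hv⟩ := rfl
    rw [e1, hag]
    exact hinv ⟨(v : Ω), hT hv⟩ hv
  have hUβ := hres U h.U_le_N₁ hUinv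
  have hzβ := hres _ h.z_le_N₁ (h.z_invariant α)
  have hDβ : ∀ v ∈ pb h.N₂_le D, β v ∈ pb h.N₂_le D := by
    intro v hv
    refine h.inf_C ⟨incl_mem h.N₂_le _, ?_⟩
    refine h.data.C_def.ge (Subgroup.mem_centralizer_iff.2 fun w hw => ?_)
    have hle : U ≤ N₂.subgroupOf S := h.U_le_N₁.trans (Subgroup.comap_mono h.N₁_le_N₂)
    have heq : (pb h.N₂_le U).map β.toMonoidHom = pb h.N₂_le U :=
      Subgroup.eq_of_le_of_card_ge (by rintro _ ⟨u, hu, rfl⟩; exact hUβ u hu)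
        (Subgroup.card_map_of_injective (f := β.toMonoidHom) β.injective).ge
    obtain ⟨u, hu, huw⟩ := heq.ge (show (⟨(w : Ω), hle hw⟩ : N₂) ∈ pb h.N₂_le U from hw)
    have hc : incl h.N₂_le u * incl h.N₂_le v = incl h.N₂_le v * incl h.N₂_le u :=
      Subgroup.mem_centralizer_iff.1 (h.data.C_def ▸ h.data.D_le_C hv) _ hu
    have hc' : u * v = v * u := incl_injective h.N₂_le (by rw [map_mul, map_mul, hc])
    have := congrArg (incl h.N₂_le) (congrArg β hc')
    rw [map_mul, map_mul, map_mul, map_mul, show β u = ⟨(w : Ω), hle hw⟩ from huw] at this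
    exact this
  have hN₂c : Nat.card (N₂.subgroupOf S) = p ^ 4 := (card_subgroupOf h.N₂_le).trans h.cardN₂
  haveI := normal_of_card h.hyp.card hN₂c
  have hnor := normalizerIn_eq_of_normal (normal_of_card h.hyp.card hN₂c) h.N₂_le
  have hN₂i : (pb h.N₂_le D).index = p := by
    have h' := (pb h.N₂_le D).card_mul_index
    rw [card_pb h.N₂_le h.D_le_N₂, h.cardD, h.cardN₂, pow_succ p 3] at h'
    exact Nat.eq_of_mul_eq_mul_left (pow_pos hp.pos 3) h'
  obtain ⟨γ, hγ, hag'⟩ := exists_extend hS h.hyp.sat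
    (isCentric_mono h.centric h.N₁_le_N₂ h.N₂_le)
    (isFullyNormalized_of_normalizerIn F h.N₂_le hnor) h.N₂_le hnor
    (s := chain (pb h.N₂_le D) (pb h.N₂_le U) (pb h.N₂_le (Subgroup.zpowers z))) (n := 4) rfl rfl
    (autInducedBy_le_preserve_chain h.N₂_le _ _ _)
    (chain_factors4 hN₂i (Subgroup.comap_mono h.data.U_le_D)
      (by rw [relIndex_pb h.N₂_le h.D_le_N₂]; exact relIndex_of_card h.data.U_le_D h.cardU h.cardD)
      (Subgroup.comap_mono hzU)
      (by rw [relIndex_pb h.N₂_le (h.data.U_le_D.trans h.D_le_N₂), hrelU])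
      (by rw [card_pb h.N₂_le (h.z_le_N₁.trans (Subgroup.comap_mono h.N₁_le_N₂)), hzc]))
    hβ (chain_invariant hDβ hUβ hzβ)
  exact ⟨γ, hγ, hag.trans hag'⟩

theorem PCtx.C_char (h : PCtx p F E N₁ N₂ U D C e x₁ x₂ x₃ z) : C.Characteristic := by
  haveI := h.U_char
  rw [h.data.C_def]; infer_instance

/-- Exponents of an automorphism of `S`. -/
theorem PCtx.rel (h : PCtx p F E N₁ N₂ U D C e x₁ x₂ x₃ z) (γ : MulAut S) {a : ℕ}
    (he : (e ^ a)⁻¹ * γ e ∈ C) :
    (a : ZMod p) ≠ 0 ∧ ∃ b : ℕ, (x₁ ^ b)⁻¹ * γ x₁ ∈ D ∧ (b : ZMod p) = (a : ZMod p) ^ 2 ∧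
      γ z = z ^ (a ^ 3 * b) := by
  have hp : p.Prime := Fact.out
  haveI := h.data.normD
  have hCn : C.Normal := by rw [h.data.C_def]; haveI := h.data.normU; infer_instance
  have ha : (a : ZMod p) ≠ 0 := fun h0 => by
    obtain ⟨k, rfl⟩ := (ZMod.natCast_eq_zero_iff a p).1 h0
    refine h.e_notMem ?_
    have hCi : C.index = p := by
      haveI := hCn
      have hne : C ≠ ⊤ := fun h' => h.e_notMem (h' ▸ Subgroup.mem_top e)
      have h1 := mul_card_le_of_lt h.hyp.isP (lt_top_iff_ne_top.2 hne)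
      have h2 := mul_card_le_of_lt h.hyp.isP (lt_of_le_of_ne h.data.D_le_C fun h' =>
        h.x₁_notMem (h' ▸ h.data.x₁_mem))
      rw [Subgroup.card_top, h.hyp.card, pow_succ' p 4] at h1
      rw [h.cardD, ← pow_succ'] at h2
      have h3 := C.card_mul_index
      rw [le_antisymm (Nat.le_of_mul_le_mul_left h1 hp.pos) h2, h.hyp.card, pow_succ p 4] at h3
      exact Nat.eq_of_mul_eq_mul_left (pow_pos hp.pos 4) h3
    have hek : e ^ (p * k) ∈ C := by rw [pow_mul]; exact pow_mem (hCi ▸ Subgroup.pow_index_mem C e) k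
    have hge : γ e ∈ C := by
      have := mul_mem hek he
      rwa [mul_inv_cancel_left] at this
    have := (Subgroup.characteristic_iff_le_comap.1 h.C_char γ⁻¹) hge
    simpa using this
  obtain ⟨b, hb⟩ := exists_pow_mem (A := D) h.C_le
    ((Subgroup.characteristic_iff_le_comap.1 h.C_char γ) h.data.x₁_mem :)
  have hb : (x₁ ^ b)⁻¹ * γ x₁ ∈ D := hb
  have hb0 : (b : ZMod p) ≠ 0 := fun h0 => by
    obtain ⟨k, rfl⟩ := (ZMod.natCast_eq_zero_iff b p).1 h0
    refine h.x₁_notMem ?_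
    have hCc : Nat.card C = p ^ 4 := by
      have h1 := mul_card_le_of_lt h.hyp.isP (lt_top_iff_ne_top.2
        (fun h' => h.e_notMem (h' ▸ Subgroup.mem_top e) : C ≠ ⊤))
      have h2 := mul_card_le_of_lt h.hyp.isP (lt_of_le_of_ne h.data.D_le_C fun h' =>
        h.x₁_notMem (h' ▸ h.data.x₁_mem))
      rw [Subgroup.card_top, h.hyp.card, pow_succ' p 4] at h1
      rw [h.cardD, ← pow_succ'] at h2
      exact le_antisymm (Nat.le_of_mul_le_mul_left h1 hp.pos) h2
    have hxk : x₁ ^ (p * k) ∈ D := by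
      rw [pow_mul]
      exact pow_mem (pow_mem_of_relIndex (relIndex_of_card h.data.D_le_C h.cardD hCc) h.data.x₁_mem) k
    have hgx : γ x₁ ∈ D := by
      have := mul_mem hxk hb
      rwa [mul_inv_cancel_left] at this
    have := (Subgroup.characteristic_iff_le_comap.1 h.D_char γ⁻¹) hgx
    simpa using this
  obtain ⟨h1, h2, -⟩ := h.data.rel γ hb0 ha he hb
  exact ⟨ha, b, hb, h1, h2⟩

/-- All automorphisms of `N₁` extend to `S`. -/
theorem PCtx.exists_top (h : PCtx p F E N₁ N₂ U D C e x₁ x₂ x₃ z) {α : MulAut N₁}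
    (hα : α ∈ F.autGroup N₁) : ∃ γ ∈ F.autGroup S, Agree h.N₁_le α γ := by
  have hp : p.Prime := Fact.out
  set x' : N₁ := ⟨x₃, h.x₃_mem_N₁⟩
  by_cases hU : α x' ∈ pb h.N₁_le U
  · exact h.exists_top_of_preserve hα hU
  exfalso
  haveI := h.zpowers_normal
  haveI := h.data.normU
  have hS := h.hyp.isP
  have : Finite N₁ := finite_of_le h.N₁_le
  set G := F.autGroup N₁
  set pz := pb h.N₁_le (Subgroup.zpowers z)
  set A := N₁ ⧸ pz
  have hzc : Nat.card (Subgroup.zpowers z) = p := (Nat.card_zpowers z).trans h.data.z_order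
  have hcard : Nat.card A = p ^ 2 := by
    have h1 := pz.card_mul_index
    rw [card_pb h.N₁_le h.z_le_N₁, hzc, h.cardN₁, pow_succ' p 2] at h1
    exact Nat.eq_of_mul_eq_mul_left hp.pos h1
  have hAc : ∀ q r : A, q * r = r * q :=
    (IsPGroup.isMulCommutative_of_card_eq_prime_sq hcard).is_comm.comm
  set π := QuotientGroup.mk' pz
  let ρ : G →* MulAut A := actHom G pz fun β _ => h.z_invariant β
  have hρ : ∀ (β : G) (u : N₁), ρ β (π u) = π ((β : MulAut N₁) u) := fun β u => actHom_mk G _ _ β u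
  have hx₂N : (x₂ : Ω) ∈ normalizerIn S N₁ := by
    rw [h.normalizer_N₁]; exact h.D_le_N₂ h.data.x₂_mem
  set c : G := ⟨conjAut N₁ (x₂ : Ω) hx₂N.2,
    autInducedBy_le_autGroup F h.N₁_le (conjAut_mem_autInducedBy x₂.2 hx₂N.2)⟩
  have hcu : ∀ u : N₁, incl h.N₁_le (u⁻¹ * (c : MulAut N₁) u) = ⁅(incl h.N₁_le u)⁻¹, x₂⁆ := fun u =>
    incl_inv_mul_conjAut h.N₁_le hx₂N.2 x₂.2 u
  have hx₂C : ∀ v ∈ U, ⁅v, x₂⁆ = 1 := fun v hv => commutatorElement_eq_one_iff_mul_comm.2
    (Subgroup.mem_centralizer_iff.1 (h.data.C_def ▸ h.data.D_le_C h.data.x₂_mem) v hv)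
  have hl1 : π x' ≠ 1 := by
    rw [ne_eq, QuotientGroup.mk'_apply, QuotientGroup.eq_one_iff]
    exact h.x₃_notMem
  have hlp : π x' ^ p = 1 := by
    rw [← map_pow, QuotientGroup.mk'_apply, QuotientGroup.eq_one_iff, mem_pb, map_pow]
    exact pow_mem_of_relIndex (relIndex_of_card (Subgroup.zpowers_le.2 h.data.z_mem)
      (hzc.trans (pow_one p).symm) h.cardU) h.data.x₃_mem
  obtain ⟨htop, a, haK, b, hbK, h1, h2, h3, h4⟩ := exists_pair ρ hcard hAc hl1 hlp (a := c)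
    (by
      rw [hρ, eq_comm, mk_eq, mem_pb, hcu]
      show ⁅x₃⁻¹, x₂⁆ ∈ _
      rw [hx₂C _ (inv_mem h.data.x₃_mem)]
      exact one_mem _)
    (fun q => by
      obtain ⟨u, rfl⟩ := QuotientGroup.mk'_surjective pz q
      rw [hρ, ← map_inv, ← map_mul, mk_mem_zpowers_iff, hcu]
      show _ ∈ Subgroup.zpowers z ⊔ Subgroup.zpowers x₃
      rw [← h.U_gen, ← commutatorElement_inv]
      exact inv_mem (h.data.comm_D x₂ h.data.x₂_mem _))
    (fun h1 => by
      have h2 : π ((⟨e, h.e_mem_N₁⟩ : N₁)⁻¹ * (c : MulAut N₁) ⟨e, h.e_mem_N₁⟩) = 1 := by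
        rw [map_mul, map_inv, ← hρ, h1, MulAut.one_apply, inv_mul_cancel]
      rw [QuotientGroup.mk'_apply, QuotientGroup.eq_one_iff, mem_pb, hcu] at h2
      refine h.x₃_notMem ?_
      rw [h.data.x₃_def, ← inv_mem_iff]
      have h3 := h.zpowers_normal.conj_mem _ h2 e
      convert h3 using 1
      show ⁅e, x₂⁆⁻¹ = e * ⁅e⁻¹, x₂⁆ * e⁻¹
      rw [commutatorElement_def, commutatorElement_def]
      group)
    (g := ⟨α, hα⟩) (by
      rw [hρ, mk_mem_zpowers_iff]
      show ¬ _ ∈ Subgroup.zpowers z ⊔ Subgroup.zpowers x₃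
      rw [← h.U_gen]; exact hU)
  obtain ⟨d, hdK, hd1, hd2⟩ := diag_of_pair ρ (hAc (π x') (ρ ⟨α, hα⟩ (π x'))) hlp
    (by rw [← map_pow, hlp, map_one]) h1 h2 h3 h4 (K := Subgroup.normalClosure ({c} : Set G)) haK hbK
    (p - 1) (p - 1) (by rw [Nat.cast_mul, cast_pred]; ring)
  have hfix : ∀ β ∈ Subgroup.normalClosure ({c} : Set G), ∀ u ∈ pz, (β : MulAut N₁) u = u := by
    let s : ℕ → Subgroup N₁ := fun i => match i with
      | 0 => pb h.N₁_le (Subgroup.zpowers z)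
      | _ + 1 => ⊥
    have hs : ∀ β ∈ G, β ∈ preserve G s := fun β hβ => mem_preserve_of_le hβ fun i u hu =>
      match i, hu with
      | 0, hu => h.z_invariant β u hu
      | _ + 1, hu => by rw [Subgroup.mem_bot] at hu ⊢; rw [hu, map_one]
    have hn : ((disp G s 1).subgroupOf G).Normal := ⟨fun x hx γ => conj_mem_disp (hs _ γ.2) hx⟩
    have hle : Subgroup.normalClosure ({c} : Set G) ≤ (disp G s 1).subgroupOf G :=
      Subgroup.normalClosure_le_normal (Set.singleton_subset_iff.2 (show (c : MulAut N₁) ∈ disp G s 1 from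
        ⟨hs _ c.2, fun i hi u hu => by
          interval_cases i
          refine Subgroup.mem_bot.2 (incl_injective h.N₁_le ?_)
          rw [hcu, map_one]
          exact hx₂C _ (inv_mem ((Subgroup.zpowers_le.2 h.data.z_mem) hu))⟩))
    intro β hβ u hu
    exact (inv_mul_eq_one.1 (Subgroup.mem_bot.1 ((hle hβ).2 0 (by omega) u hu))).symm
  have hdall : ∀ u : N₁, π ((d : MulAut N₁) u) = π u ^ (p - 1) := fun u => by
    rw [← hρ]; exact apply_eq_pow_of_gen hAc htop _ _ hd1 hd2 (π u)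
  obtain ⟨γ, -, hag⟩ := h.exists_top_of_preserve d.2 (by
    refine h.U_gen.ge ((mk_mem_zpowers_iff h.N₁_le x').1 ?_)
    rw [show QuotientGroup.mk' pz ((d : MulAut N₁) x') = π x' ^ (p - 1) from hdall x']
    exact Subgroup.pow_mem _ (Subgroup.mem_zpowers _) _)
  have hγe : (e ^ (p - 1))⁻¹ * γ e ∈ C := by
    refine (Subgroup.zpowers_le.2 (h.data.D_le_C (h.data.U_le_D h.data.z_mem))) ?_
    have h5 : ((⟨e, h.e_mem_N₁⟩ : N₁) ^ (p - 1))⁻¹ * (d : MulAut N₁) ⟨e, h.e_mem_N₁⟩ ∈ pz :=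
      mk_eq.1 (by rw [map_pow]; exact (hdall _).symm)
    rw [mem_pb, map_mul, map_inv, map_pow] at h5
    have e1 : γ e = incl h.N₁_le ((d : MulAut N₁) ⟨e, h.e_mem_N₁⟩) := hag ⟨e, h.e_mem_N₁⟩
    rw [e1]
    exact h5
  obtain ⟨-, b', -, hb, hz⟩ := h.rel γ hγe
  have e1 : γ z = z := by
    exact (hag ⟨z, h.z_le_N₁ (Subgroup.mem_zpowers z)⟩).trans (congrArg (incl h.N₁_le)
      (hfix d hdK ⟨z, h.z_le_N₁ (Subgroup.mem_zpowers z)⟩ (Subgroup.mem_zpowers z)))
  have := cast_eq_of_pow_eq (p := p) h.z_ne_one (h.data.z_order ▸ pow_orderOf_eq_one z)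
    (m := 1) (m' := (p - 1) ^ 3 * b') (by rw [pow_one]; exact e1.symm.trans hz)
  push_cast at this
  rw [hb, cast_pred] at this
  exact neg_one_ne_one h.hyp.ne_two (by linear_combination -this)

/-- A diagonal automorphism of `E` extended to `S`. -/
theorem PCtx.exists_diag (h : PCtx p F E N₁ N₂ U D C e x₁ x₂ x₃ z) (ν μ : ℕ)
    (hνμ : ((ν * μ : ℕ) : ZMod p) = 1) :
    ∃ d ∈ F.autGroup E, ∃ γ ∈ F.autGroup S, Agree h.E_le d γ ∧ γ z = z ^ ν ∧ (e ^ μ)⁻¹ * γ e ∈ C ∧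
      (ν = μ → ∀ u : E, d u = u ^ ν ∧ u ^ p = 1) := by
  have hp : p.Prime := Fact.out
  haveI := h.zpowers_normal
  have hES := h.E_le
  have : Finite E := finite_of_le hES
  have hAc : ∀ a b : E, a * b = b * a :=
    (IsPGroup.isMulCommutative_of_card_eq_prime_sq h.cardE).is_comm.comm
  set l : E := ⟨z, h.z_mem_E⟩
  have hl1 : l ≠ 1 := fun e' => h.z_ne_one ((congrArg (incl hES) e').trans (map_one _))
  have hlp : l ^ p = 1 := incl_injective hES (by
    rw [map_pow, map_one]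
    exact h.data.z_order ▸ pow_orderOf_eq_one z)
  have hzc : Nat.card (Subgroup.zpowers z) = p := (Nat.card_zpowers z).trans h.data.z_order
  have hzE : Subgroup.zpowers z ≤ E.subgroupOf S := Subgroup.zpowers_le.2 h.z_mem_E
  have hpb : pb hES (Subgroup.zpowers z) = Subgroup.zpowers l := by
    refine (Subgroup.eq_of_le_of_card_ge
      (Subgroup.zpowers_le.2 (show l ∈ pb hES (Subgroup.zpowers z) from Subgroup.mem_zpowers z)) ?_).symm
    rw [card_pb hES hzE, hzc, Nat.card_zpowers, orderOf_eq_prime hlp hl1]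
  have hi : (pb hES (Subgroup.zpowers z)).index = p := by
    have h' := (pb hES (Subgroup.zpowers z)).card_mul_index
    rw [card_pb hES hzE, hzc, h.cardE, pow_two] at h'
    exact Nat.eq_of_mul_eq_mul_left hp.pos h'
  set G := F.autGroup E
  obtain ⟨g, hg, hgl⟩ : ∃ g ∈ G, g l ∉ Subgroup.zpowers l := by
    by_contra hall
    push Not at hall
    obtain ⟨α, hα, i, u, hu, hu'⟩ := exists_not_preserve h.hyp.isP h.hyp.sat h.ess (n := 2)
      (s := chain (Subgroup.zpowers l) ⊥ ⊥) rfl rfl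
      (chain_factors2 (hpb ▸ hi) (by rw [Nat.card_zpowers, orderOf_eq_prime hlp hl1]))
    refine hu' (chain_invariant (fun v hv => ?_)
      (fun v hv => by rw [Subgroup.mem_bot] at hv ⊢; rw [hv, map_one])
      (fun v hv => by rw [Subgroup.mem_bot] at hv ⊢; rw [hv, map_one]) i u hu)
    obtain ⟨j, rfl⟩ := Subgroup.mem_zpowers_iff.1 hv
    rw [map_zpow]; exact zpow_mem (hall α hα) j
  have hx₃N : (x₃ : Ω) ∈ normalizerIn S E := by rw [h.normalizer_E]; exact h.x₃_mem_N₁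
  set c : G := ⟨conjAut E (x₃ : Ω) hx₃N.2,
    autInducedBy_le_autGroup F hES (conjAut_mem_autInducedBy x₃.2 hx₃N.2)⟩
  have hcu : ∀ u : E, incl hES (u⁻¹ * (c : MulAut E) u) = ⁅(incl hES u)⁻¹, x₃⁆ := fun u =>
    incl_inv_mul_conjAut hES hx₃N.2 x₃.2 u
  obtain ⟨htop, a, haK, b, hbK, h1, h2, h3, h4⟩ := exists_pair G.subtype h.cardE hAc hl1 hlp (a := c)
    (by
      show (c : MulAut E) l = l
      refine (inv_mul_eq_one.1 (incl_injective hES ?_)).symm
      rw [hcu, map_one, commutatorElement_eq_one_iff_mul_comm]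
      exact ((show Commute z x₃ from (Subgroup.mem_center_iff.1 h.data.z_central x₃).symm).inv_left).eq)
    (fun q => by
      rw [← hpb, mem_pb]
      show incl hES (q⁻¹ * (c : MulAut E) q) ∈ _
      rw [hcu, ← commutatorElement_inv]
      exact inv_mem (h.data.comm_U x₃ h.data.x₃_mem _))
    (fun h1 => by
      have h2 : (⟨e, h.e_mem⟩ : E)⁻¹ * (c : MulAut E) ⟨e, h.e_mem⟩ = 1 := by
        rw [show (c : MulAut E) ⟨e, h.e_mem⟩ = ⟨e, h.e_mem⟩ from
          congrArg (fun φ : MulAut E => φ ⟨(e : Ω), h.e_mem⟩) h1, inv_mul_cancel]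
      have h3 := congrArg (incl hES) h2
      rw [hcu, map_one, commutatorElement_eq_one_iff_mul_comm] at h3
      refine h.z_ne_one ?_
      rw [h.data.z_def, commutatorElement_eq_one_iff_mul_comm]
      exact ((show Commute (incl hES ⟨e, h.e_mem⟩)⁻¹ x₃ from h3).inv_left).eq |> fun h4 => by
        rw [inv_inv] at h4
        exact h4)
    (g := ⟨g, hg⟩) hgl
  obtain ⟨d, hdK, hd1, hd2⟩ := diag_of_pair G.subtype (hAc l (g l)) hlp (by rw [← map_pow, hlp, map_one])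
    h1 h2 h3 h4 (K := ⊤) (Subgroup.mem_top a) (Subgroup.mem_top b) ν μ hνμ
  have hd1 : (d : MulAut E) l = l ^ ν := hd1
  have hd2 : (d : MulAut E) (g l) = g l ^ μ := hd2
  have hdz : ∀ u ∈ pb hES (Subgroup.zpowers z), (d : MulAut E) u ∈ pb hES (Subgroup.zpowers z) := by
    rw [hpb]
    intro u hu
    obtain ⟨j, rfl⟩ := Subgroup.mem_zpowers_iff.1 hu
    rw [map_zpow, hd1]
    exact zpow_mem (Subgroup.pow_mem _ (Subgroup.mem_zpowers l) ν) j
  obtain ⟨β, hβ, hag⟩ := exists_extend h.hyp.isP h.hyp.sat h.ess.1 h.ess.2.1 h.le_N₁ h.normalizer_E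
    (s := chain (pb hES (Subgroup.zpowers z)) ⊥ ⊥) (n := 2) rfl rfl
    (autInducedBy_le_preserve hES fun g hg hgS => chain_invariant (conjAut_mem_pb hES hg hgS)
      (fun u hu => by rw [Subgroup.mem_bot] at hu ⊢; rw [hu, map_one])
      (fun u hu => by rw [Subgroup.mem_bot] at hu ⊢; rw [hu, map_one]))
    (chain_factors2 hi (by rw [card_pb hES hzE, hzc])) d.2
    (chain_invariant hdz (fun u hu => by rw [Subgroup.mem_bot] at hu ⊢; rw [hu, map_one])
      (fun u hu => by rw [Subgroup.mem_bot] at hu ⊢; rw [hu, map_one]))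
  obtain ⟨γ, hγ, hag'⟩ := h.exists_top hβ
  have hag'' : Agree hES (d : MulAut E) γ := hag.trans hag'
  have hγz : γ z = z ^ ν := by
    have := hag'' l
    rw [hd1] at this
    exact this.trans (map_pow (incl hES) l ν)
  refine ⟨d, d.2, γ, hγ, hag'', hγz, ?_, fun hνeq u => ?_⟩
  · haveI : C.Normal := by rw [h.data.C_def]; haveI := h.data.normU; infer_instance
    have hzC : Subgroup.zpowers z ≤ C :=
      Subgroup.zpowers_le.2 (h.data.D_le_C (h.data.U_le_D h.data.z_mem))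
    have hm : (g l : E) ∉ pb hES (Subgroup.zpowers z) := hpb ▸ hgl
    obtain ⟨i, hi'⟩ := exists_pow_mem (B := ⊤) (le_sup_zpowers_of_relIndex (h.hyp.isP.to_le hES) le_top
      (by rw [Subgroup.relIndex_top_right, hi]) (Subgroup.mem_top (g l)) hm)
      (Subgroup.mem_top (⟨e, h.e_mem⟩ : E))
    have e1 : QuotientGroup.mk' C (incl hES (g l)) ^ i = QuotientGroup.mk' C e := by
      rw [← map_pow, mk_eq, ← map_pow (incl hES), ← map_inv (incl hES)]
      exact hzC hi'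
    have e2 : QuotientGroup.mk' C (γ (incl hES (g l))) = QuotientGroup.mk' C (incl hES (g l)) ^ μ := by
      rw [hag'', show Subgroup.inclusion hES ((d : MulAut E) (g l)) = incl hES (g l ^ μ) by rw [hd2],
        map_pow, map_pow]
    have e3 : QuotientGroup.mk' C (γ e) = QuotientGroup.mk' C (γ (incl hES (g l))) ^ i := by
      rw [← map_pow, eq_comm, mk_eq]
      have h5 : γ ((incl hES (g l) ^ i)⁻¹ * e) ∈ C :=
        (Subgroup.characteristic_iff_le_comap.1 h.C_char γ) (by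
          rw [← map_pow (incl hES), ← map_inv (incl hES)]; exact hzC hi')
      rwa [map_mul, map_inv, map_pow] at h5
    rw [← mk_eq, map_pow, e3, e2, ← e1, ← pow_mul, ← pow_mul, mul_comm]
  · subst hνeq
    refine ⟨apply_eq_pow_of_gen hAc htop _ _ hd1 hd2 u, ?_⟩
    have hu : u ∈ Subgroup.zpowers l ⊔ Subgroup.zpowers (g l) := htop.ge (Subgroup.mem_top u)
    have hle : Subgroup.zpowers l ⊔ Subgroup.zpowers (g l) ≤
        ({ toFun := fun q => q ^ p, map_one' := one_pow p,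
           map_mul' := fun q r => (show Commute q r from hAc q r).mul_pow p } : E →* E).ker :=
      sup_le (Subgroup.zpowers_le.2 hlp) (Subgroup.zpowers_le.2 (by
        show g l ^ p = 1
        rw [← map_pow, hlp, map_one]))
    exact hle hu

/-- An essential subgroup of order `p²` forces `p = 3` when `p ≠ 7`. -/
theorem PCtx.eq_three (h : PCtx p F E N₁ N₂ U D C e x₁ x₂ x₃ z) (h7 : p ≠ 7) : p = 3 := by
  have hp : p.Prime := Fact.out
  have h2 : ((2 : ℕ) : ZMod p) ≠ 0 := fun h0 => h.hyp.ne_two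
    ((Nat.prime_dvd_prime_iff_eq hp Nat.prime_two).1 ((ZMod.natCast_eq_zero_iff 2 p).1 h0))
  obtain ⟨-, -, γ, -, -, hz, he, -⟩ := h.exists_diag (((2 : ℕ) : ZMod p)⁻¹).val 2
    (by rw [Nat.cast_mul, ZMod.natCast_zmod_val, inv_mul_cancel₀ h2])
  obtain ⟨-, b, -, hb, hz'⟩ := h.rel γ he
  have hc := cast_eq_of_pow_eq (p := p) h.z_ne_one (h.data.z_order ▸ pow_orderOf_eq_one z) (hz.symm.trans hz')
  rw [Nat.cast_mul, hb, Nat.cast_pow, ZMod.natCast_zmod_val] at hc
  have h63 : ((63 : ℕ) : ZMod p) = 0 := by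
    have h1 := congrArg (fun t => ((2 : ℕ) : ZMod p) * t) hc
    simp only [mul_inv_cancel₀ h2] at h1
    push_cast at h1 ⊢
    linear_combination -h1
  have hd := (ZMod.natCast_eq_zero_iff 63 p).1 h63
  rw [show (63 : ℕ) = 3 ^ 2 * 7 by norm_num] at hd
  rcases hp.dvd_mul.1 hd with h3 | h3
  · exact (Nat.prime_dvd_prime_iff_eq hp Nat.prime_three).1 (hp.dvd_of_dvd_pow h3)
  · exact absurd ((Nat.prime_dvd_prime_iff_eq hp (by norm_num)).1 h3) h7

/-- An essential subgroup of order `p²` lies in every `Good` subgroup. -/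
theorem PCtx.cong (h : PCtx p F E N₁ N₂ U D C e x₁ x₂ x₃ z) {V : Subgroup S} (hV : Good F V)
    (α : MulAut E) : Cong h.E_le V α := by
  obtain ⟨d, -, γ, hγ, hag, -, -, hall⟩ := h.exists_diag (p - 1) (p - 1)
    (by rw [Nat.cast_mul, cast_pred]; ring)
  have hd := hV.cong_of_agree hγ hag
  have hmem : ∀ u : E, incl h.E_le u ∈ V := fun u => hV.mem_of_inverted h.hyp hd (by
    rw [(hall rfl u).1, pow_pred (hall rfl u).2, ← map_mul, inv_mul_cancel, map_one]
    exact one_mem _)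
  exact fun u => mul_mem (inv_mem (hmem u)) (hmem _)

end CfsgLib.FusionPFive
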