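import Cfsg.Agent.Lib.FusionPFive.ECase
import Cfsg.Agent.Lib.FusionPFive.PearlAut
import Cfsg.Agent.Lib.FusionPFive.Cube
import Cfsg.Agent.Lib.FusionIndexP.CoreFree
import Cfsg.Agent.Lib.Fusion.Hyperfocal
import Mathlib.GroupTheory.OrderOfElement

/-!
A core-free fusion system on a group of order `p⁵` (`p` odd, `p ≠ 7`) without abelian subgroup of
index `p` has a proper hyperfocal subgroup.
-/

set_option autoImplicit false

open Cfsg Cfsg.FusionSystem CfsgLib.Fusion
open scoped commutatorElement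

namespace CfsgLib.FusionPFive

variable {Ω : Type*} [Group Ω] {S : Subgroup Ω} {p : ℕ} {F : Cfsg.FusionSystem S}
variable [Fact p.Prime] [Finite S]

omit [Fact p.Prime] in
theorem card_le_five (hH : Hyp p F) {P : Subgroup Ω} (hPS : P ≤ S) : Nat.card P ≤ p ^ 5 :=
  hH.card ▸ Subgroup.card_le_of_le hPS

theorem essential_card (hH : Hyp p F) {P : Subgroup Ω} (hP : F.IsEssential p P) :
    Nat.card P = p ^ 2 ∨ Nat.card P = p ^ 3 ∨ Nat.card P = p ^ 4 := by
  have hp : p.Prime := Fact.out
  have hPS := hP.1.1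
  have : Finite P := finite_of_le hPS
  obtain ⟨i, hi⟩ := IsPGroup.iff_card.1 (hH.isP.to_le hPS)
  obtain ⟨hlt, -, -⟩ := CfsgLib.FusionIndexP.exists_outer_of_isEssential hH.isP hH.sat hP
  have hne : P.subgroupOf S ≠ ⊤ := fun h => hlt.not_ge (Subgroup.subgroupOf_eq_top.1 h)
  have h1 := mul_card_le_of_lt hH.isP (lt_top_iff_ne_top.2 hne)
  rw [card_subgroupOf hPS, hi, Subgroup.card_top, hH.card, ← pow_succ',
    Nat.pow_le_pow_iff_right hp.one_lt] at h1
  have hZP : Subgroup.center S ≤ P.subgroupOf S := fun s hs =>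
    centralizerIn_le_of_isCentric hP.1 ⟨s.2, fun u hu => congrArg Subtype.val
      (Subgroup.mem_center_iff.1 hs ⟨u, hPS hu⟩)⟩
  have hne' : Subgroup.center S ≠ P.subgroupOf S := fun h => by
    apply hne
    refine eq_top_iff.2 fun s _ => centralizerIn_le_of_isCentric hP.1 ⟨s.2, fun u hu => ?_⟩
    exact congrArg Subtype.val (Subgroup.mem_center_iff.1 (h.ge (show (⟨u, hPS hu⟩ : S) ∈ P.subgroupOf S from hu)) s).symm
  haveI : Nontrivial S := Finite.one_lt_card_iff_nontrivial.1
    (by rw [hH.card]; exact Nat.one_lt_pow (by omega) hp.one_lt)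
  obtain ⟨j, hj⟩ := IsPGroup.iff_card.1 (hH.isP.to_subgroup (Subgroup.center S))
  have hj0 : j ≠ 0 := fun h => by
    haveI := hH.isP.center_nontrivial
    have := Finite.one_lt_card (α := Subgroup.center S)
    rw [hj, h, pow_zero] at this
    exact lt_irrefl _ this
  have h2 := mul_card_le_of_lt hH.isP (lt_of_le_of_ne hZP hne')
  rw [hj, card_subgroupOf hPS, hi, ← pow_succ', Nat.pow_le_pow_iff_right hp.one_lt] at h2
  rcases (show i = 2 ∨ i = 3 ∨ i = 4 by omega) with rfl | rfl | rfl <;> simp [hi]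

/-- A core-free system has an essential subgroup of order `p²`, or an abelian one of order `p³`. -/
theorem exists_essential_moving (hH : Hyp p F) (hcore : F.core = ⊥) :
    ∃ P : Subgroup Ω, F.IsEssential p P ∧
      (Nat.card P = p ^ 2 ∨ (Nat.card P = p ^ 3 ∧ ∀ a b : P, a * b = b * a)) := by
  have hp : p.Prime := Fact.out
  set Z := Subgroup.center S with hZ
  haveI : Nontrivial S := Finite.one_lt_card_iff_nontrivial.1
    (by rw [hH.card]; exact Nat.one_lt_pow (by omega) hp.one_lt)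
  have hZne : Z.map S.subtype ≠ ⊥ := fun h => by
    haveI := hH.isP.center_nontrivial
    have := Finite.one_lt_card (α := Subgroup.center S)
    rw [← Subgroup.card_map_of_injective S.subtype_injective, h, Subgroup.card_bot] at this
    exact lt_irrefl _ this
  have hmem : ∀ (P : Subgroup Ω) (hPS : P ≤ S) (u : P),
      u ∈ (Z.map S.subtype).subgroupOf P ↔ u ∈ pb hPS Z := by
    intro P hPS u
    constructor
    · rintro ⟨w, hw, he⟩
      exact mem_pb.2 (show incl hPS u ∈ Z by rwa [show incl hPS u = w from Subtype.ext he.symm])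
    · exact fun hu => ⟨incl hPS u, hu, rfl⟩
  have hmove : ¬ ∀ P : Subgroup Ω, (P = S ∨ F.IsEssential p P) → ∀ (hPS : P ≤ S),
      ∀ α ∈ F.autGroup P, ∀ u ∈ pb hPS Z, α u ∈ pb hPS Z := by
    intro hall
    refine hZne (CfsgLib.FusionIndexP.eq_bot_of_isNormal_of_core hcore
      ((isNormal_iff_essential hH.isP hH.sat).2 fun P hP => ?_))
    have hPc : F.IsCentric P := by
      rcases hP with rfl | hP
      exacts [isCentric_top F, hP.1]
    have : Finite P := finite_of_le hPc.1
    refine ⟨?_, fun α hα => ?_⟩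
    · rintro _ ⟨s, hs, rfl⟩
      exact centralizerIn_le_of_isCentric hPc ⟨s.2, fun u hu => congrArg Subtype.val
        (Subgroup.mem_center_iff.1 hs ⟨u, hPc.1 hu⟩)⟩
    · refine Subgroup.eq_of_le_of_card_ge ?_
        (Subgroup.card_map_of_injective (f := α.toMonoidHom) α.injective).ge
      rintro _ ⟨u, hu, rfl⟩
      exact (hmem P hPc.1 _).2 (hall P hP hPc.1 α hα u ((hmem P hPc.1 u).1 hu))
  push Not at hmove
  obtain ⟨P, hP, hPS, α, hα, u, hu, hαu⟩ := hmove
  rcases hP with rfl | hP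
  · refine absurd ?_ hαu
    exact (Subgroup.characteristic_iff_le_comap.1 (inferInstance : Z.Characteristic) α) hu
  refine ⟨P, hP, ?_⟩
  have : Finite P := finite_of_le hPS
  have hchar : ∀ T : Subgroup P, T.Characteristic → pb hPS Z ≠ T := fun T hT hT' =>
    hαu (hT'.ge ((Subgroup.characteristic_iff_le_comap.1 hT α) (hT'.le hu)))
  rcases essential_card hH hP with h2 | h3 | h4
  · exact Or.inl h2
  · refine Or.inr ⟨h3, ?_⟩
    by_contra hna
    exact hchar (Subgroup.center P) inferInstance (pb_center_eq hH hP.1 h3 hna).2.2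
  · exfalso
    have hle : pb hPS Z ≤ Subgroup.center P := fun v hv =>
      Subgroup.mem_center_iff.2 fun w => incl_injective hPS (by
        rw [map_mul, map_mul]; exact Subgroup.mem_center_iff.1 hv _)
    have hZP : Z ≤ P.subgroupOf S := fun s hs =>
      centralizerIn_le_of_isCentric hP.1 ⟨s.2, fun u hu => congrArg Subtype.val
        (Subgroup.mem_center_iff.1 hs ⟨u, hPS hu⟩)⟩
    obtain ⟨i, hi⟩ := IsPGroup.iff_card.1 (hH.isP.to_subgroup Z)
    have hi0 : i ≠ 0 := fun h => by
      haveI := hH.isP.center_nontrivial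
      have := Finite.one_lt_card (α := Subgroup.center S)
      rw [← hZ, hi, h, pow_zero] at this
      exact lt_irrefl _ this
    have hc := Subgroup.card_le_of_le hle
    rw [card_pb hPS hZP, hi] at hc
    rcases order_p4_cases h4 (not_comm_of_card hH hPS h4) with ⟨hZ2, hD⟩ | ⟨hZ1, -⟩
    · rw [hZ2, Nat.pow_le_pow_iff_right hp.one_lt] at hc
      rcases (show i = 1 ∨ i = 2 by omega) with rfl | rfl
      · have hN : Nat.card (P.subgroupOf S) = p ^ 4 := (card_subgroupOf hPS).trans h4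
        haveI := normal_of_card hH.card hN
        have hDn : ((commutator P).map (incl hPS)).Normal := by
          rw [map_commutator_eq hPS]; infer_instance
        have hDc : Nat.card ((commutator P).map (incl hPS)) = p := by
          rw [Subgroup.card_map_of_injective (incl_injective hPS), hD]
        refine hchar (commutator P) inferInstance (Subgroup.eq_of_le_of_card_ge (fun v hv => ?_) ?_).symm
        · exact CfsgLib.FusionExtraspecial.le_center_of_card_eq hH.isP hDn hDc ⟨v, hv, rfl⟩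
        · rw [card_pb hPS hZP, hi, hD, pow_one]
      · exact hchar (Subgroup.center P) inferInstance (Subgroup.eq_of_le_of_card_ge hle (by rw [card_pb hPS hZP, hi, hZ2]))
    · rw [hZ1] at hc
      refine hchar (Subgroup.center P) inferInstance (Subgroup.eq_of_le_of_card_ge hle ?_)
      rw [card_pb hPS hZP, hi, hZ1]
      exact Nat.le_self_pow hi0 p

/-- An element outside a characteristic subgroup with abelian quotient fixed modulo it by all
automorphisms. -/
theorem exists_fixed (hH : Hyp p F) (hp7 : p ≠ 7) (hcore : F.core = ⊥) :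
    ∃ (K : Subgroup S) (l : S), K.Characteristic ∧ (∀ a b : S, ⁅a, b⁆ ∈ K) ∧ l ∉ K ∧
      ∀ γ : MulAut S, l⁻¹ * γ l ∈ K := by
  have hp : p.Prime := Fact.out
  obtain ⟨P, hP, hcase⟩ := exists_essential_moving hH hcore
  have hPS := hP.1.1
  have hsq : ∀ {a : ℕ}, p = 3 → (a : ZMod p) ≠ 0 → (a : ZMod p) ^ 2 = 1 := fun {a} h3 ha => by
    have h := ZMod.pow_card_sub_one_eq_one ha
    rwa [show p - 1 = 2 by omega] at h
  rcases hcase with h2 | ⟨h3, hcomm⟩
  · obtain ⟨e, he, hez⟩ : ∃ e ∈ P.subgroupOf S, e ∉ Subgroup.center S := by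
      by_contra hall
      push Not at hall
      obtain ⟨hlt, -, -⟩ := CfsgLib.FusionIndexP.exists_outer_of_isEssential hH.isP hH.sat hP
      refine hlt.not_ge fun s hs => centralizerIn_le_of_isCentric hP.1 ⟨hs, fun u hu => ?_⟩
      exact congrArg Subtype.val (Subgroup.mem_center_iff.1 (hall ⟨u, hPS hu⟩ hu) ⟨s, hs⟩).symm
    obtain ⟨N₁, N₂, U, D, C, x₁, x₂, x₃, z, h⟩ := exists_PCtx hH hP h2 he hez
    haveI := h.data.normD
    have hCn : C.Normal := by rw [h.data.C_def]; haveI := h.data.normU; infer_instance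
    refine ⟨D, x₁, h.D_char, h.D_comm, h.x₁_notMem, fun γ => ?_⟩
    obtain ⟨a, ha⟩ := exists_pow_mem (A := C) (B := ⊤) h.generates.ge (Subgroup.mem_top (γ e))
    obtain ⟨ha0, b, hb, hb2, -⟩ := h.rel γ ha
    have hb1 : (b : ZMod p) = ((1 : ℕ) : ZMod p) := by rw [hb2, hsq (h.eq_three hp7) ha0, Nat.cast_one]
    rw [← mk_eq] at hb ⊢
    rw [← hb, map_pow]
    have hxp : QuotientGroup.mk' D x₁ ^ p = 1 := by
      rw [← map_pow, QuotientGroup.mk'_apply, QuotientGroup.eq_one_iff]
      have hne : C ≠ ⊤ := fun h' => h.e_notMem (h' ▸ Subgroup.mem_top e)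
      have h1 := mul_card_le_of_lt hH.isP (lt_top_iff_ne_top.2 hne)
      have h2 := mul_card_le_of_lt hH.isP (lt_of_le_of_ne h.data.D_le_C fun h' =>
        h.x₁_notMem (h' ▸ h.data.x₁_mem))
      rw [Subgroup.card_top, hH.card, pow_succ' p 4] at h1
      rw [h.cardD, ← pow_succ'] at h2
      exact pow_mem_of_relIndex (relIndex_of_card h.data.D_le_C h.cardD
        (le_antisymm (Nat.le_of_mul_le_mul_left h1 hp.pos) h2)) h.data.x₁_mem
    rw [pow_cast_eq hxp hb1, pow_one]
  · obtain ⟨N, W, D₀, y, hE⟩ := exists_ECtx hH hP h3 hcomm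
    obtain ⟨e, z, hN, hp3, hWc, ht⟩ := hE.base
    haveI := hN.normal_N
    haveI := hN.data.normW
    obtain ⟨w, hw, hwc⟩ := SetLike.not_le_iff_exists.1 hWc
    obtain ⟨U, D, C, y', hC, hDc, hUc, hCc, hUdef, hab, hy', hgen⟩ := hN.data.exists_CData hw hwc ht
    haveI := hC.normD
    haveI := hC.normU
    refine ⟨D, w, hDc, hab, hC.w_notMem, fun γ => ?_⟩
    obtain ⟨a, ha⟩ := hgen (γ e)
    obtain ⟨b, hb⟩ := exists_pow_mem (A := U) hC.C_le
      ((Subgroup.characteristic_iff_le_comap.1 hCc γ) hC.y_mem :)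
    have hb : (y' ^ b)⁻¹ * γ y' ∈ U := hb
    obtain ⟨ω, hω⟩ := exists_pow_mem (A := D) hC.U_gen
      ((Subgroup.characteristic_iff_le_comap.1 hUc γ) hC.w_mem :)
    have hω : (w ^ ω)⁻¹ * γ w ∈ D := hω
    have hback : ∀ (T : Subgroup S), T.Characteristic → ∀ s, γ s ∈ T → s ∈ T := fun T hT s hs => by
      have := (Subgroup.characteristic_iff_le_comap.1 hT γ⁻¹) hs
      simpa using this
    have hUN : U ≤ N.subgroupOf S :=
      hUdef.le.trans (sup_le hN.data.W_le (Subgroup.zpowers_le.2 hN.data.x_mem))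
    have hUc3 : Nat.card U = p ^ 3 := hUdef ▸ hN.card_X
    have hb0 : (b : ZMod p) ≠ 0 := fun h0 => by
      obtain ⟨k, rfl⟩ := (ZMod.natCast_eq_zero_iff b p).1 h0
      refine hy' (hUN (hback U hUc y' ?_))
      have hUC : U < C := lt_of_le_of_ne hC.U_le fun h' => hy' (hUN (h' ▸ hC.y_mem))
      have h1 := mul_card_le_of_lt hH.isP hUC
      rw [hUc3, ← pow_succ'] at h1
      have h2 := mul_card_le_of_lt hH.isP (lt_top_iff_ne_top.2 (fun h' => by
        have he : e ∈ C := h' ▸ Subgroup.mem_top e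
        have := hN.data.z_order
        rw [hN.data.z_def, commutatorElement_eq_one_iff_mul_comm.2 (hC.C_comm_D e he _ hC.x_mem).eq,
          orderOf_one] at this
        exact hp.ne_one this.symm) : C < ⊤)
      rw [Subgroup.card_top, hH.card, pow_succ' p 4] at h2
      have hyp : y' ^ p ∈ U := pow_mem_of_relIndex (relIndex_of_card hC.U_le hUc3
        (le_antisymm (Nat.le_of_mul_le_mul_left h2 hp.pos) h1)) hC.y_mem
      have := mul_mem (show y' ^ (p * k) ∈ U by rw [pow_mul]; exact pow_mem hyp k) hb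
      rwa [mul_inv_cancel_left] at this
    have ha0 : (a : ZMod p) ≠ 0 := fun h0 => by
      obtain ⟨k, rfl⟩ := (ZMod.natCast_eq_zero_iff a p).1 h0
      have heC : e ∉ C := fun he => by
        have := hN.data.z_order
        rw [hN.data.z_def, commutatorElement_eq_one_iff_mul_comm.2 (hC.C_comm_D e he _ hC.x_mem).eq,
          orderOf_one] at this
        exact hp.ne_one this.symm
      refine heC (hback C hCc e ?_)
      haveI := hC.normC
      have hep : e ^ p ∈ C := by
        have hUC : U < C := lt_of_le_of_ne hC.U_le fun h' => hy' (hUN (h' ▸ hC.y_mem))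
        have h1 := mul_card_le_of_lt hH.isP hUC
        rw [hUc3, ← pow_succ'] at h1
        have h2 := mul_card_le_of_lt hH.isP (lt_top_iff_ne_top.2 (fun h' => heC (h' ▸ Subgroup.mem_top e)) : C < ⊤)
        rw [Subgroup.card_top, hH.card, pow_succ' p 4] at h2
        have hi := index_of_card hH.card (by omega) (le_antisymm (Nat.le_of_mul_le_mul_left h2 hp.pos) h1)
        rw [pow_one] at hi
        exact hi ▸ Subgroup.pow_index_mem C e
      have := mul_mem (show e ^ (p * k) ∈ C by rw [pow_mul]; exact pow_mem hep k) ha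
      rwa [mul_inv_cancel_left] at this
    have hω1 : (ω : ZMod p) = ((1 : ℕ) : ZMod p) := by
      rw [hC.rel γ hb0 ha hb hω, hsq hp3 ha0, Nat.cast_one]
    rw [← mk_eq] at hω ⊢
    rw [← hω, map_pow]
    have hwp : QuotientGroup.mk' D w ^ p = 1 := by
      rw [← map_pow, QuotientGroup.mk'_apply, QuotientGroup.eq_one_iff]
      have hzW := (Subgroup.zpowers_le.2 hN.data.z_mem)
      have hzD : Subgroup.zpowers z ≤ D := Subgroup.zpowers_le.2 (hN.data.z_def ▸ hab _ _)
      haveI := hN.data.zpowers_normal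
      exact hzD (pow_mem_of_relIndex hN.data.relIndex_W hw)
    rw [pow_cast_eq hwp hω1, pow_one]

/-- A proper `Good` subgroup. -/
theorem exists_good (hH : Hyp p F) (hp7 : p ≠ 7) (hcore : F.core = ⊥) :
    ∃ V : Subgroup S, Good F V ∧ V ≠ ⊤ := by
  classical
  have hp : p.Prime := Fact.out
  obtain ⟨K, l, hKc, hKab, hlK, hfix⟩ := exists_fixed hH hp7 hcore
  haveI := hKc
  have : Finite (MulAut S) := finite_mulAut
  let ρ : F.autGroup S →* MulAut (S ⧸ K) := actHom (F.autGroup S) K
    fun γ _ u hu => (Subgroup.characteristic_iff_le_comap.1 hKc γ) hu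
  have hρ : ∀ (γ : F.autGroup S) (s : S),
      ρ γ (QuotientGroup.mk' K s) = QuotientGroup.mk' K ((γ : MulAut S) s) :=
    fun γ s => actHom_mk (F.autGroup S) K _ γ s
  letI : CommGroup (S ⧸ K) :=
    { (inferInstance : Group (S ⧸ K)) with
      mul_comm := fun q r => by
        obtain ⟨a, rfl⟩ := QuotientGroup.mk'_surjective K q
        obtain ⟨b, rfl⟩ := QuotientGroup.mk'_surjective K r
        exact commutator_mem_iff_mk.1 (hKab a b) }
  -- the image of `Aut_F(S)` has order prime to `p`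
  have hcop : ¬ p ∣ Nat.card ρ.range := by
    obtain ⟨-, T, hT⟩ := isFullyAutomized_of_isFullyNormalized hH.isP hH.sat (isFullyNormalized_top F)
    have hle : (T : Subgroup (F.autGroup S)) ≤ ρ.ker := by
      intro γ hγ
      rw [hT] at hγ
      obtain ⟨g, hg, hgS, he⟩ := exists_eq_conjAut (show (γ : MulAut S) ∈ autInducedBy S S from hγ)
      refine MonoidHom.mem_ker.2 (MulEquiv.ext fun q => ?_)
      obtain ⟨s, rfl⟩ := QuotientGroup.mk'_surjective K q
      rw [hρ, MulAut.one_apply, he, show conjAut S g hg s = (⟨g, hgS⟩ : S) * s * (⟨g, hgS⟩ : S)⁻¹ from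
        Subtype.ext rfl, map_mul, map_mul, map_inv, mul_comm (QuotientGroup.mk' K ⟨g, hgS⟩),
        mul_inv_cancel_right]
    rw [← Subgroup.index_ker]
    exact fun hd => T.not_dvd_index (hd.trans (Subgroup.index_dvd_of_le hle))
  haveI : Fintype ρ.range := Fintype.ofFinite _
  let f : S →* S ⧸ K :=
    { toFun := fun s => ∏ σ : ρ.range, (σ : MulAut (S ⧸ K)) (QuotientGroup.mk' K s)
      map_one' := by simp
      map_mul' := fun a b => by simp only [map_mul]; exact Finset.prod_mul_distrib }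
  refine ⟨f.ker, ⟨fun a b => ?_, fun γ hγ g => ?_⟩, fun htop => ?_⟩
  · rw [MonoidHom.mem_ker, map_commutatorElement, commutatorElement_eq_one_iff_mul_comm]
    exact mul_comm _ _
  · have key : f (γ g) = f g :=
      Fintype.prod_equiv (Equiv.mulRight (⟨ρ ⟨γ, hγ⟩, ⟨γ, hγ⟩, rfl⟩ : ρ.range))
        (fun σ : ρ.range => (σ : MulAut (S ⧸ K)) (QuotientGroup.mk' K (γ g)))
        (fun σ : ρ.range => (σ : MulAut (S ⧸ K)) (QuotientGroup.mk' K g))
        fun σ => congrArg (σ : MulAut (S ⧸ K)) (hρ ⟨γ, hγ⟩ g).symm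
    rw [MonoidHom.mem_ker, map_mul, map_inv, key, inv_mul_cancel]
  · have hl : f l = 1 := MonoidHom.mem_ker.1 (htop ▸ Subgroup.mem_top l)
    have hl' : f l = QuotientGroup.mk' K l ^ Nat.card ρ.range := by
      show ∏ σ : ρ.range, (σ : MulAut (S ⧸ K)) (QuotientGroup.mk' K l) = _
      have hσ : ∀ σ : ρ.range,
          (σ : MulAut (S ⧸ K)) (QuotientGroup.mk' K l) = QuotientGroup.mk' K l := by
        rintro ⟨_, γ, rfl⟩
        show ρ γ (QuotientGroup.mk' K l) = _
        rw [hρ, eq_comm, mk_eq]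
        exact hfix γ
      rw [Finset.prod_congr rfl (fun σ _ => hσ σ), Finset.prod_const, Finset.card_univ, Nat.card_eq_fintype_card]
    rw [hl] at hl'
    obtain ⟨k, hk⟩ := IsPGroup.iff_orderOf.1 (hH.isP.to_quotient K) (QuotientGroup.mk' K l)
    have hd := orderOf_dvd_of_pow_eq_one hl'.symm
    rcases Nat.eq_zero_or_pos k with rfl | hk0
    · rw [pow_zero, orderOf_eq_one_iff, QuotientGroup.mk'_apply, QuotientGroup.eq_one_iff] at hk
      exact hlK hk
    · exact hcop ((dvd_pow_self p hk0.ne').trans (hk ▸ hd))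

/-- All automorphisms of essential subgroups are trivial modulo a `Good` subgroup. -/
theorem cong_of_essential (hH : Hyp p F) {V : Subgroup S} (hV : Good F V) {P : Subgroup Ω}
    (hP : F.IsEssential p P) {α : MulAut P} (hα : α ∈ F.autGroup P) : Cong hP.1.1 V α := by
  rcases essential_card hH hP with h2 | h3 | h4
  · obtain ⟨e, he, hez⟩ : ∃ e ∈ P.subgroupOf S, e ∉ Subgroup.center S := by
      by_contra hall
      push Not at hall
      obtain ⟨hlt, -, -⟩ := CfsgLib.FusionIndexP.exists_outer_of_isEssential hH.isP hH.sat hP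
      refine hlt.not_ge fun s hs => centralizerIn_le_of_isCentric hP.1 ⟨hs, fun u hu => ?_⟩
      exact congrArg Subtype.val (Subgroup.mem_center_iff.1 (hall ⟨u, hP.1.1 hu⟩ hu) ⟨s, hs⟩).symm
    obtain ⟨N₁, N₂, U, D, C, x₁, x₂, x₃, z, h⟩ := exists_PCtx hH hP h2 he hez
    exact h.cong hV α
  · by_cases hcomm : ∀ a b : P, a * b = b * a
    · obtain ⟨N, W, D, y, hE⟩ := exists_ECtx hH hP h3 hcomm
      exact hE.cong hV hα
    · exact cong_of_cube hH hV hP h3 hcomm α
  · exact cong_of_card4 hH hV hP.1 h4 hα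

/-- The hyperfocal subgroup is proper. -/
theorem hyperfocal_ne (hH : Hyp p F) (hp7 : p ≠ 7) (hcore : F.core = ⊥) :
    F.hyperfocalSubgroup p ≠ S := by
  obtain ⟨V, hV, hVne⟩ := exists_good hH hp7 hcore
  haveI := hV.normal
  set V' := V.map S.subtype with hV'
  have hV'mem : ∀ {v : Ω} (hv : v ∈ S), v ∈ V' ↔ (⟨v, hv⟩ : S) ∈ V := fun hv =>
    ⟨fun ⟨w, hw, he⟩ => (show w = ⟨_, hv⟩ from Subtype.ext he) ▸ hw, fun h => ⟨_, h, rfl⟩⟩
  have hconj : ∀ s ∈ S, ∀ y ∈ V', s * y * s⁻¹ ∈ V' := by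
    rintro s hs _ ⟨w, hw, rfl⟩
    exact ⟨_, hV.normal.conj_mem w hw ⟨s, hs⟩, rfl⟩
  have hle := alperin hH.isP hH.sat (modSystem F V' hconj) fun P hP α hα => by
    have hPS : P ≤ S := by
      rcases hP with rfl | hP
      exacts [le_rfl, hP.1.1]
    refine (mem_autGroup_iff_hom hPS).2 ⟨(mem_autGroup_iff_hom hPS).1 hα, 1, S.one_mem, fun x => ?_⟩
    rw [one_mul, inv_one, mul_one]
    refine ⟨(incl hPS x)⁻¹ * incl hPS (α x), ?_, rfl⟩
    rcases hP with rfl | hP
    · exact hV.inv α hα x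
    · exact cong_of_essential hH hV hP hα x
  intro hhyp
  refine hVne (eq_top_iff.2 fun s _ => ?_)
  have hgen : F.hyperfocalSubgroup p ≤ V' := by
    refine (Subgroup.closure_le _).2 ?_
    rintro _ ⟨P, α, x, hPS, -, rfl⟩
    obtain ⟨-, g, hg, h⟩ := hle P ((mem_autGroup_iff_hom hPS).1 α.2)
    have hc : (x : Ω)⁻¹ * (g * x * g⁻¹) ∈ V' := by
      refine ⟨⁅(incl hPS x)⁻¹, (⟨g, hg⟩ : S)⁆, hV.comm _ _, ?_⟩
      simp [commutatorElement_def, mul_assoc]
    have := V'.mul_mem hc (h x)
    rw [mul_assoc, mul_inv_cancel_left] at this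
    exact this
  exact (hV'mem s.2).1 (hgen (hhyp.ge s.2))

end CfsgLib.FusionPFive
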