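import Cfsg.Agent.Lib.FusionPFive.Setting

/-!
Normal subgroups of order `p⁴` with centre of order `p²`: their automorphisms in the fusion system
either extend to `S` or force `p = 3` and class three; congruence of all automorphisms modulo a
`Good` subgroup.
-/

set_option autoImplicit false

open Cfsg Cfsg.FusionSystem CfsgLib.Fusion
open scoped commutatorElement

namespace CfsgLib.FusionPFive

variable {Ω : Type*} [Group Ω] {S : Subgroup Ω} {p : ℕ} {F : Cfsg.FusionSystem S}
variable {P : Subgroup Ω}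

/-- A centric subgroup of order `p⁴` with centre of order `p²`, with coordinates. -/
structure NSet (p : ℕ) (F : Cfsg.FusionSystem S) (P : Subgroup Ω) (W : Subgroup S) (e y x z : S) : Prop where
  le : P ≤ S
  centric : F.IsCentric P
  data : NData p (P.subgroupOf S) W e y x z

variable [Fact p.Prime] [Finite S] {W : Subgroup S} {e y x z : S}

theorem NSet.card_N (h : NSet p F P W e y x z) : Nat.card (P.subgroupOf S) = p ^ 4 := by
  have h' := (P.subgroupOf S).card_mul_index
  rw [h.data.index, h.data.card, pow_succ] at h'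
  exact Nat.eq_of_mul_eq_mul_right (Fact.out : p.Prime).pos h'

theorem NSet.normal_N (h : NSet p F P W e y x z) : (P.subgroupOf S).Normal :=
  normal_of_card h.data.card h.card_N

theorem NSet.normalizerIn_eq (h : NSet p F P W e y x z) : normalizerIn S P = S :=
  normalizerIn_eq_of_normal h.normal_N h.le

theorem NSet.X_le (h : NSet p F P W e y x z) : W ⊔ Subgroup.zpowers x ≤ P.subgroupOf S :=
  sup_le h.data.W_le (Subgroup.zpowers_le.2 h.data.x_mem)

theorem NSet.X_normal (h : NSet p F P W e y x z) : (W ⊔ Subgroup.zpowers x).Normal := by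
  haveI := h.data.normW
  exact CfsgLib.PGroup.sup_zpowers_normal h.data.x_comm

theorem NSet.card_X (h : NSet p F P W e y x z) : Nat.card (W ⊔ Subgroup.zpowers x : Subgroup S) = p ^ 3 := by
  have hG : IsPGroup p S := IsPGroup.of_card h.data.card
  have h1 := mul_card_le_of_lt hG (lt_of_le_of_ne le_sup_left
    fun e => h.data.x_notMem (e ▸ Subgroup.mem_sup_right (Subgroup.mem_zpowers x)) :
      W < W ⊔ Subgroup.zpowers x)
  have h2 := mul_card_le_of_lt hG (lt_of_le_of_ne h.X_le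
    fun e' => h.data.e_notMem (e' ▸ h.data.e_mem))
  rw [h.data.cardW, ← pow_succ'] at h1
  rw [h.card_N, show p ^ 4 = p * p ^ 3 by ring] at h2
  exact le_antisymm (Nat.le_of_mul_le_mul_left h2 (Fact.out : p.Prime).pos) h1

theorem NSet.relIndex_X (h : NSet p F P W e y x z) :
    (W ⊔ Subgroup.zpowers x).relIndex (P.subgroupOf S) = p :=
  relIndex_of_card h.X_le h.card_X h.card_N

theorem NSet.relIndex_W_X (h : NSet p F P W e y x z) : W.relIndex (W ⊔ Subgroup.zpowers x) = p :=
  relIndex_of_card le_sup_left h.data.cardW h.card_X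

theorem NSet.index_pbX (h : NSet p F P W e y x z) : (pb h.le (W ⊔ Subgroup.zpowers x)).index = p := by
  rw [← Subgroup.relIndex_top_right, ← pb_top h.le (le_refl (P.subgroupOf S)),
    relIndex_pb h.le le_rfl, h.relIndex_X]

theorem NSet.y_notMem' (h : NSet p F P W e y x z) : (y : Ω) ∉ P := h.data.y_notMem

theorem NSet.y_normalizer (h : NSet p F P W e y x z) : (y : Ω) ∈ Subgroup.normalizer (P : Set Ω) := by
  have : (y : Ω) ∈ normalizerIn S P := by rw [h.normalizerIn_eq]; exact y.2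
  exact this.2

theorem NSet.y_generates (h : NSet p F P W e y x z) (g : S) :
    g ∈ P.subgroupOf S ⊔ Subgroup.zpowers y := by
  have := eq_top_of_index_lt h.data.index (lt_of_le_of_ne le_sup_left
    fun e => h.data.y_notMem (e ▸ Subgroup.mem_sup_right (Subgroup.mem_zpowers y)) :
      P.subgroupOf S < P.subgroupOf S ⊔ Subgroup.zpowers y)
  exact this ▸ Subgroup.mem_top g

theorem NSet.centre_invariant (h : NSet p F P W e y x z) (hW : ∀ u : P, incl h.le u ∈ W ↔ ∀ v : P, Commute u v)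
    (α : MulAut P) : ∀ u ∈ pb h.le W, α u ∈ pb h.le W := fun u hu => (hW _).2 fun v => by
  obtain ⟨v, rfl⟩ := α.surjective v
  exact ((hW u).1 hu v).map α

/-- `W` is the centre of `P`. -/
theorem NSet.mem_W_iff (h : NSet p F P W e y x z) (u : P) : incl h.le u ∈ W ↔ ∀ v : P, Commute u v := by
  refine ⟨fun hu v => Subtype.ext (congrArg Subtype.val (h.data.W_central _ hu (incl h.le v) v.2).eq :),
    fun hu => ?_⟩
  by_contra huW
  have hP : Nat.card P = p ^ 4 := (card_subgroupOf h.le).symm.trans h.card_N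
  have : Finite P := finite_of_le h.le
  have hna : ¬ ∀ a b : P, a * b = b * a := fun hc => by
    have := h.data.noAb (P.subgroupOf S) fun a ha b hb =>
      Subtype.ext (congrArg Subtype.val (hc ⟨a, ha⟩ ⟨b, hb⟩) :)
    rw [h.card_N] at this
    exact lt_irrefl _ this
  have hlt : pb h.le W < Subgroup.center P := by
    refine lt_of_le_of_ne (fun v hv => Subgroup.mem_center_iff.2 fun w => Subtype.ext
      (congrArg Subtype.val (h.data.W_central _ hv (incl h.le w) w.2).eq).symm) fun e' => huW ?_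
    exact show u ∈ pb h.le W from e' ▸ Subgroup.mem_center_iff.2 fun w => (hu w).eq.symm
  have h1 := mul_card_le_of_lt (IsPGroup.of_card hP) hlt
  rw [card_pb h.le h.data.W_le, h.data.cardW, ← pow_succ'] at h1
  rcases order_p4_cases hP hna with ⟨hc, -⟩ | ⟨hc, -⟩
  · rw [hc, Nat.pow_le_pow_iff_right (Fact.out : p.Prime).one_lt] at h1
    omega
  · rw [hc] at h1
    exact absurd ((Nat.pow_le_pow_iff_right (Fact.out : p.Prime).one_lt).1 (h1.trans_eq (pow_one p).symm)) (by omega)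

theorem NSet.W_invariant (h : NSet p F P W e y x z) (α : MulAut P) : ∀ u ∈ pb h.le W, α u ∈ pb h.le W :=
  h.centre_invariant h.mem_W_iff α

theorem NSet.z_invariant (h : NSet p F P W e y x z) (α : MulAut P) :
    ∀ u ∈ pb h.le (Subgroup.zpowers z), α u ∈ pb h.le (Subgroup.zpowers z) := by
  intro u hu
  obtain ⟨i, hi : z ^ i = incl h.le u⟩ := Subgroup.mem_zpowers_iff.1 hu
  have he : u = ⁅(⟨e, h.data.e_mem⟩ : P), ⟨x, h.data.x_mem⟩⁆ ^ i := by
    refine incl_injective h.le ?_
    rw [map_zpow, map_commutatorElement, ← hi]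
    exact congrArg (· ^ i) h.data.z_def
  rw [he, map_zpow, map_commutatorElement]
  refine zpow_mem ?_ i
  rw [mem_pb, map_commutatorElement]
  exact h.data.comm_le _ (incl_mem h.le _) _ (incl_mem h.le _)

/-- An automorphism preserving `X` extends to `S`. -/
theorem NSet.exists_top (hH : Hyp p F) (h : NSet p F P W e y x z) {α : MulAut P}
    (hα : α ∈ F.autGroup P)
    (hX : α ⟨x, h.data.x_mem⟩ ∈ pb h.le (W ⊔ Subgroup.zpowers x)) :
    ∃ γ ∈ F.autGroup S, Agree h.le α γ := by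
  haveI := h.data.normW
  haveI := h.data.zpowers_normal
  haveI := h.X_normal
  have : Finite P := finite_of_le h.le
  have hzW : Subgroup.zpowers z ≤ W := Subgroup.zpowers_le.2 h.data.z_mem
  have hXinv := map_mem_pb_of h.le (A := W) h.X_le (x := ⟨x, h.data.x_mem⟩) rfl α
    (fun u hu => Subgroup.mem_sup_left (h.W_invariant α u hu)) hX
  refine exists_extend hH.isP hH.sat h.centric
    (isFullyNormalized_of_normalizerIn F h.le h.normalizerIn_eq) h.le h.normalizerIn_eq
    (s := chain (pb h.le (W ⊔ Subgroup.zpowers x)) (pb h.le W) (pb h.le (Subgroup.zpowers z))) (n := 4)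
    rfl rfl (autInducedBy_le_preserve_chain h.le _ _ _) ?_ hα
    (chain_invariant hXinv (h.W_invariant α) (h.z_invariant α))
  refine chain_factors4 h.index_pbX (Subgroup.comap_mono le_sup_left) ?_ (Subgroup.comap_mono hzW) ?_ ?_
  · rw [relIndex_pb h.le h.X_le, h.relIndex_W_X]
  · rw [relIndex_pb h.le h.data.W_le, h.data.relIndex_W]
  · rw [card_pb h.le (hzW.trans h.data.W_le), Nat.card_zpowers, h.data.z_order]

/-- An automorphism moving `X` gives two opposite transvections on `P/W` which are trivial on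
`W/⟨z⟩` and `⟨z⟩`. -/
theorem NSet.exists_transvections (h : NSet p F P W e y x z) {α : MulAut P}
    (hα : α ∈ F.autGroup P)
    (hX : α ⟨x, h.data.x_mem⟩ ∉ pb h.le (W ⊔ Subgroup.zpowers x)) :
    haveI := h.data.normW
    let π := QuotientGroup.mk' (pb h.le W)
    let x' : P := ⟨x, h.data.x_mem⟩
    (∀ u v : P, π (u * v) = π (v * u)) ∧ π x' ^ p = 1 ∧ π (α x') ^ p = 1 ∧
    Subgroup.zpowers (π x') ⊔ Subgroup.zpowers (π (α x')) = ⊤ ∧
    ∃ K : Subgroup (MulAut P), K ≤ F.autGroup P ∧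
      (∀ β ∈ K, ∀ u ∈ pb h.le W, u⁻¹ * β u ∈ pb h.le (Subgroup.zpowers z)) ∧
      (∀ β ∈ K, ∀ u ∈ pb h.le (Subgroup.zpowers z), β u = u) ∧
      ∃ a ∈ K, ∃ b ∈ K, π (a x') = π x' ∧ π (a (α x')) = π (α x') * π x' ∧
        π (b (α x')) = π (α x') ∧ π (b x') = π x' * π (α x') := by
  intro π x'
  haveI := h.data.normW
  haveI := h.data.zpowers_normal
  have hp : p.Prime := Fact.out
  have hG : IsPGroup p S := IsPGroup.of_card h.data.card
  have : Finite P := finite_of_le h.le
  set G := F.autGroup P with hGdef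
  set A := P ⧸ pb h.le W
  have hPc : Nat.card P = p ^ 4 := (card_subgroupOf h.le).symm.trans h.card_N
  have hcard : Nat.card A = p ^ 2 := by
    have h1 := (pb h.le W).card_mul_index
    rw [card_pb h.le h.data.W_le, h.data.cardW, hPc, show p ^ 4 = p ^ 2 * p ^ 2 by ring] at h1
    exact Nat.eq_of_mul_eq_mul_left (pow_pos hp.pos 2) h1
  have hAc : ∀ q r : A, q * r = r * q :=
    (IsPGroup.isMulCommutative_of_card_eq_prime_sq hcard).is_comm.comm
  have hxW : π x' ≠ 1 := by
    rw [ne_eq, QuotientGroup.mk'_apply, QuotientGroup.eq_one_iff]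
    exact h.data.x_notMem
  have hxp : π x' ^ p = 1 := by
    rw [← map_pow, QuotientGroup.mk'_apply, QuotientGroup.eq_one_iff, mem_pb, map_pow]
    exact pow_mem_of_relIndex h.relIndex_W_X (Subgroup.mem_sup_right (Subgroup.mem_zpowers x))
  let ρ : G →* MulAut A := actHom G (pb h.le W) fun β _ => h.W_invariant β
  have hρ : ∀ (β : G) (u : P), ρ β (π u) = π ((β : MulAut P) u) := fun β u => actHom_mk G _ _ β u
  set c : G := ⟨conjAut P (y : Ω) h.y_normalizer,
    autInducedBy_le_autGroup F h.le (conjAut_mem_autInducedBy y.2 h.y_normalizer)⟩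
  have hcu : ∀ u : P, incl h.le (u⁻¹ * (c : MulAut P) u) = ⁅(incl h.le u)⁻¹, y⁆ := fun u =>
    incl_inv_mul_conjAut h.le h.y_normalizer y.2 u
  have hc1 : ρ c (π x') = π x' := by
    rw [hρ, mk_eq]
    have := commutator_mem_of_relIndex hG h.X_normal h.data.normW le_sup_left h.relIndex_W_X (g := y)
      (inv_mem (Subgroup.mem_sup_right (Subgroup.mem_zpowers x)))
    rw [← inv_mem_iff, mul_inv_rev, inv_inv, mem_pb, hcu x']
    exact this
  have hdisp : ∀ q : A, q⁻¹ * ρ c q ∈ Subgroup.zpowers (π x') := fun q => by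
    obtain ⟨u, rfl⟩ := QuotientGroup.mk'_surjective (pb h.le W) q
    rw [hρ, ← map_inv, ← map_mul, mk_mem_zpowers_iff, hcu]
    exact commutator_mem_of_relIndex hG h.normal_N h.X_normal h.X_le h.relIndex_X
      (inv_mem (incl_mem h.le u))
  have hcne : ρ c ≠ 1 := fun h1 => by
    have h2 : π ((⟨e, h.data.e_mem⟩ : P)⁻¹ * (c : MulAut P) ⟨e, h.data.e_mem⟩) = 1 := by
      rw [map_mul, map_inv, ← hρ, h1, MulAut.one_apply, inv_mul_cancel]
    rw [QuotientGroup.mk'_apply, QuotientGroup.eq_one_iff, mem_pb, hcu] at h2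
    refine h.data.x_notMem ?_
    rw [h.data.x_def, ← inv_mem_iff]
    have h3 := h.data.normW.conj_mem _ h2 e
    convert h3 using 1
    show ⁅e, y⁆⁻¹ = e * ⁅e⁻¹, y⁆ * e⁻¹
    rw [commutatorElement_def, commutatorElement_def]
    group
  have hmove : ρ ⟨α, hα⟩ (π x') ∉ Subgroup.zpowers (π x') := by
    rw [hρ, mk_mem_zpowers_iff]
    exact hX
  obtain ⟨htop, a, ha, b, hb, h1, h2, h3, h4⟩ :=
    exists_pair ρ hcard hAc hxW hxp hc1 hdisp hcne hmove
  -- the elements trivial on `W/⟨z⟩` and on `⟨z⟩`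
  let s : ℕ → Subgroup P := fun i => match i with
    | 0 => pb h.le W
    | 1 => pb h.le (Subgroup.zpowers z)
    | _ + 2 => ⊥
  have hs : ∀ β ∈ G, β ∈ preserve G s := fun β hβ => mem_preserve_of_le hβ fun i u hu =>
    match i, hu with
    | 0, hu => h.W_invariant β u hu
    | 1, hu => h.z_invariant β u hu
    | _ + 2, hu => by rw [Subgroup.mem_bot] at hu ⊢; rw [hu, map_one]
  have hcd : (c : MulAut P) ∈ disp G s 2 := by
    refine ⟨hs _ c.2, fun i hi u hu => ?_⟩
    interval_cases i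
    · rw [mem_pb, hcu]
      exact h.data.comm_W (inv_mem hu) y
    · refine Subgroup.mem_bot.2 (incl_injective h.le ?_)
      rw [hcu, map_one, commutatorElement_eq_one_iff_mul_comm]
      obtain ⟨i, hi⟩ := Subgroup.mem_zpowers_iff.1 hu
      rw [← hi]
      exact (((h.data.commute_z y).zpow_left i).inv_left).eq
  have hle : Subgroup.normalClosure ({c} : Set G) ≤ (disp G s 2).subgroupOf G := by
    have hn : ((disp G s 2).subgroupOf G).Normal := ⟨fun k hk γ => conj_mem_disp (hs _ γ.2) hk⟩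
    exact Subgroup.normalClosure_le_normal (Set.singleton_subset_iff.2 hcd)
  rw [hρ] at h2 h3 h4 htop
  refine ⟨fun u v => by rw [map_mul, map_mul, hAc], hxp, ?_, htop, disp G s 2, fun β hβ => hβ.1.1,
    fun β hβ u hu => hβ.2 0 (by omega) u hu, fun β hβ u hu => ?_, a, hle ha, b, hle hb, ?_, ?_, ?_, ?_⟩
  · rw [← hρ ⟨α, hα⟩, ← map_pow, hxp, map_one]
  · exact (inv_mul_eq_one.1 (Subgroup.mem_bot.1 (hβ.2 1 (by omega) u hu))).symm
  · rw [← hρ a]; exact h1
  · rw [← hρ a]; exact h2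
  · rw [← hρ b]; exact h3
  · rw [← hρ b]; exact h4

/-- For given `ν * μ = 1` a diagonal element trivial on `W/⟨z⟩`, extended to `S`, and its exponents. -/
theorem NSet.move_diag (hH : Hyp p F) (h : NSet p F P W e y x z) {α : MulAut P} (hα : α ∈ F.autGroup P)
    (hX : α ⟨x, h.data.x_mem⟩ ∉ pb h.le (W ⊔ Subgroup.zpowers x))
    (ν μ : ℕ) (hνμ : ((ν * μ : ℕ) : ZMod p) = 1) :
    (¬ W ≤ Subgroup.center S → (μ : ZMod p) ^ 2 = 1) ∧
      (⁅x, y⁆ ∈ Subgroup.zpowers z ∨ (ν : ZMod p) ^ 3 = 1) := by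
  haveI := h.data.normW
  haveI := h.X_normal
  obtain ⟨hcomm, hxp, hmp, htop, K, hKG, hKW, hKz, a, ha, b, hb, h1, h2, h3, h4⟩ :=
    h.exists_transvections hα hX
  have : Finite P := finite_of_le h.le
  set π := QuotientGroup.mk' (pb h.le W) with hπ
  set x' : P := ⟨x, h.data.x_mem⟩
  set G := F.autGroup P
  let ρ : G →* MulAut (P ⧸ pb h.le W) := actHom G (pb h.le W) fun β _ => h.W_invariant β
  have hρ : ∀ (β : G) (u : P), ρ β (π u) = π ((β : MulAut P) u) := fun β u => actHom_mk G _ _ β u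
  obtain ⟨d, hdK, hd1, hd2⟩ := diag_of_pair ρ
    (show Commute (π x') (π (α x')) by
      rw [Commute, SemiconjBy, ← map_mul, ← map_mul]; exact hcomm _ _)
    hxp hmp (a := ⟨a, hKG ha⟩) (b := ⟨b, hKG hb⟩) (by rw [hρ]; exact h1) (by rw [hρ]; exact h2)
    (by rw [hρ]; exact h3) (by rw [hρ]; exact h4) (K := K.subgroupOf G) ha hb ν μ hνμ
  rw [hρ] at hd1 hd2
  have hdx : (d : MulAut P) x' ∈ pb h.le (W ⊔ Subgroup.zpowers x) := by
    refine (mk_mem_zpowers_iff h.le x').1 ?_
    rw [hd1]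
    exact Subgroup.pow_mem _ (Subgroup.mem_zpowers _) ν
  obtain ⟨γ, -, hag⟩ := h.exists_top hH d.2 hdx
  have hXinv : ∀ s ∈ W ⊔ Subgroup.zpowers x, γ s ∈ W ⊔ Subgroup.zpowers x :=
    hag.map_pb h.X_le (map_mem_pb_of h.le (A := W) h.X_le (x := x') rfl _
      (fun u hu => Subgroup.mem_sup_left (h.W_invariant _ u hu)) hdx)
  set X := W ⊔ Subgroup.zpowers x
  -- the exponent on `e`
  have hs : incl h.le (α x') ∉ X := hX
  have hsN : P.subgroupOf S ≤ X ⊔ Subgroup.zpowers (incl h.le (α x')) :=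
    le_sup_zpowers_of_relIndex hH.isP h.X_le h.relIndex_X (incl_mem h.le _) hs
  obtain ⟨i, hi⟩ := exists_pow_mem hsN h.data.e_mem
  have hγe : (e ^ μ)⁻¹ * γ e ∈ X := by
    have hmk : ∀ {u v : S}, u⁻¹ * v ∈ X → QuotientGroup.mk' X u = QuotientGroup.mk' X v :=
      fun huv => mk_eq.2 huv
    have e1 : QuotientGroup.mk' X (γ (incl h.le (α x'))) = QuotientGroup.mk' X (incl h.le (α x')) ^ μ := by
      rw [← map_pow, eq_comm, mk_eq, hag, ← map_pow, ← map_inv, ← map_mul]
      exact Subgroup.mem_sup_left (show ((α x') ^ μ)⁻¹ * (d : MulAut P) (α x') ∈ pb h.le W from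
        mk_eq.1 (by rw [map_pow]; exact hd2.symm))
    have e3 := hmk hi
    rw [← mk_eq, map_pow]
    have e4 : γ ((incl h.le (α x') ^ i)⁻¹ * e) = (γ (incl h.le (α x')) ^ i)⁻¹ * γ e := by
      rw [map_mul, map_inv, map_pow]
    have e5 : QuotientGroup.mk' X (γ e) = QuotientGroup.mk' X (γ (incl h.le (α x'))) ^ i := by
      have := hXinv _ hi
      rw [e4] at this
      rw [← map_pow, eq_comm, mk_eq]
      exact this
    rw [e5, e1, ← e3, map_pow, ← pow_mul, ← pow_mul, mul_comm]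
  haveI := h.normal_N
  obtain ⟨b', hb'⟩ := exists_pow_mem (A := P.subgroupOf S) (B := ⊤) (y := y)
    (fun g _ => h.y_generates g) (Subgroup.mem_top (γ y))
  obtain ⟨r1, r2, r3, r4⟩ := h.data.rel γ hγe hb'
  have hxW : x ∉ W := h.data.x_notMem
  have hxpW : x ^ p ∈ W := pow_mem_of_relIndex h.relIndex_W_X (Subgroup.mem_sup_right (Subgroup.mem_zpowers x))
  have hab : ((μ * b' : ℕ) : ZMod p) = (ν : ZMod p) := by
    refine cast_eq_of_pow hxW hxpW ?_
    have hν : (x ^ ν)⁻¹ * γ x ∈ W := by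
      have e1 : γ x = incl h.le ((d : MulAut P) x') := hag x'
      have e2 : (x' ^ ν)⁻¹ * (d : MulAut P) x' ∈ pb h.le W :=
        mk_eq.1 (by rw [map_pow]; exact hd1.symm)
      rw [mem_pb, map_mul, map_inv, map_pow] at e2
      rw [e1]
      exact e2
    have := mul_mem r1 (inv_mem hν)
    simpa [mul_assoc] using this
  push_cast at hab hνμ
  have hW1 : ∀ w ∈ W, (w ^ 1)⁻¹ * γ w ∈ Subgroup.zpowers z := fun w hw => by
    have := hKW _ hdK ⟨w, h.data.W_le hw⟩ hw
    have e1 : γ w = incl h.le ((d : MulAut P) ⟨w, h.data.W_le hw⟩) := hag ⟨w, h.data.W_le hw⟩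
    rw [mem_pb, map_mul, map_inv] at this
    rw [pow_one, e1]
    exact this
  have hb2 : (b' : ZMod p) = (ν : ZMod p) ^ 2 := by linear_combination (ν : ZMod p) * hab - (b' : ZMod p) * hνμ
  refine ⟨fun hWc => ?_, ?_⟩
  · obtain ⟨w, hw, hwc⟩ := SetLike.not_le_iff_exists.1 hWc
    have := r3 1 w hw hwc (hW1 w hw)
    rw [hb2, Nat.cast_one] at this
    linear_combination (-(μ : ZMod p) ^ 2) * this
      + ((μ : ZMod p) * ν + 1) * (1 - (μ : ZMod p) ^ 2) * hνμ
  · rcases r4 1 (hW1 _ (h.data.x_comm y)) with ht | ht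
    · exact Or.inl ht
    · refine Or.inr ?_
      rw [hb2, Nat.cast_one] at ht
      linear_combination -ht + (-(ν : ZMod p) ^ 3) * hνμ

/-- Moving `X` forces `p = 3`, noncentral `W` and `⁅x, y⁆ ∈ ⟨z⟩`. -/
theorem NSet.of_move (hH : Hyp p F) (h : NSet p F P W e y x z) {α : MulAut P} (hα : α ∈ F.autGroup P)
    (hX : α ⟨x, h.data.x_mem⟩ ∉ pb h.le (W ⊔ Subgroup.zpowers x)) :
    p = 3 ∧ ¬ W ≤ Subgroup.center S ∧ ⁅x, y⁆ ∈ Subgroup.zpowers z := by
  have hp : p.Prime := Fact.out
  have hneg : (((p - 1) * (p - 1) : ℕ) : ZMod p) = 1 := by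
    rw [Nat.cast_mul, cast_pred]; ring
  obtain ⟨-, ht⟩ := h.move_diag hH hα hX (p - 1) (p - 1) hneg
  have ht' : ⁅x, y⁆ ∈ Subgroup.zpowers z := ht.resolve_right fun h1 => by
    rw [cast_pred] at h1
    exact neg_one_ne_one hH.ne_two (by linear_combination h1)
  have hWc : ¬ W ≤ Subgroup.center S := fun hWc => h.data.notMem_of_le_center hWc ht'
  refine ⟨?_, hWc, ht'⟩
  have h2 : ((2 : ℕ) : ZMod p) ≠ 0 := fun h0 => hH.ne_two
    ((Nat.prime_dvd_prime_iff_eq hp Nat.prime_two).1 ((ZMod.natCast_eq_zero_iff 2 p).1 h0))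
  obtain ⟨h3, -⟩ := h.move_diag hH hα hX (((2 : ℕ) : ZMod p)⁻¹).val 2
    (by rw [Nat.cast_mul, ZMod.natCast_zmod_val, inv_mul_cancel₀ h2])
  exact eq_three_of_sq (h3 hWc)

end CfsgLib.FusionPFive
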