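import Cfsg.Agent.Lib.FusionPFive.NCase

/-!
Subgroups of order `p⁴`: construction of the coordinates, and congruence of all their automorphisms
modulo a `Good` subgroup.
-/

set_option autoImplicit false

open Cfsg Cfsg.FusionSystem CfsgLib.Fusion
open scoped commutatorElement

namespace CfsgLib.FusionPFive

variable {Ω : Type*} [Group Ω] {S : Subgroup Ω} {p : ℕ} {F : Cfsg.FusionSystem S}
variable {P : Subgroup Ω}

theorem map_center_eq (hPS : P ≤ S) :
    (Subgroup.center P).map (incl hPS) =
      P.subgroupOf S ⊓ Subgroup.centralizer ((P.subgroupOf S : Subgroup S) : Set S) := by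
  ext s
  constructor
  · rintro ⟨u, hu, rfl⟩
    exact ⟨incl_mem hPS u, Subgroup.mem_centralizer_iff.2 fun v hv =>
      (congrArg (incl hPS) (Subgroup.mem_center_iff.1 hu ⟨v, hv⟩) :)⟩
  · rintro ⟨hs, hc⟩
    exact ⟨⟨s, hs⟩, Subgroup.mem_center_iff.2 fun v =>
      incl_injective hPS (Subgroup.mem_centralizer_iff.1 hc (incl hPS v) (incl_mem hPS v)), rfl⟩

theorem map_commutator_eq (hPS : P ≤ S) :
    (commutator P).map (incl hPS) = ⁅P.subgroupOf S, P.subgroupOf S⁆ := by
  rw [commutator_def, Subgroup.map_commutator, ← MonoidHom.range_eq_map, range_incl]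

variable [Fact p.Prime] [Finite S]

theorem card_subgroup_le (hS : IsPGroup p S) (hPS : P ≤ S) : IsPGroup p P := hS.to_le hPS

theorem not_comm_of_card (hH : Hyp p F) (hPS : P ≤ S) (hPc : Nat.card P = p ^ 4) :
    ¬ ∀ a b : P, a * b = b * a := by
  intro hc
  have := hH.noAb (P.subgroupOf S) fun a ha b hb =>
    Subtype.ext (congrArg Subtype.val (hc ⟨a, ha⟩ ⟨b, hb⟩) :)
  rw [card_subgroupOf hPS, hPc] at this
  exact lt_irrefl _ this

/-- Coordinates on a subgroup of order `p⁴` with centre of order `p²`. -/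
theorem exists_NSet (hH : Hyp p F) (hPc : F.IsCentric P) (hc4 : Nat.card P = p ^ 4)
    (hZ : Nat.card (Subgroup.center P) = p ^ 2) (hD : Nat.card (commutator P) = p)
    {W : Subgroup S} (hW : W = (Subgroup.center P).map (incl hPc.1))
    {e y : S} (he : e ∈ P.subgroupOf S) (hy : y ∉ P.subgroupOf S) (hx : ⁅e, y⁆ ∉ W) :
    ∃ z, NSet p F P W e y ⁅e, y⁆ z := by
  have hN : Nat.card (P.subgroupOf S) = p ^ 4 := (card_subgroupOf hPc.1).trans hc4
  haveI := normal_of_card hH.card hN
  haveI : W.Normal := by rw [hW, map_center_eq hPc.1]; infer_instance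
  obtain ⟨z, hz⟩ := exists_NData hH.card hH.noAb (N := P.subgroupOf S) (W := W)
    (by rw [index_of_card hH.card (by omega) hN, pow_one])
    (hW ▸ (map_center_eq hPc.1).trans_le inf_le_left)
    (by rw [hW, Subgroup.card_map_of_injective (incl_injective _), hZ])
    (fun w hw n hn => by
      rw [hW, map_center_eq hPc.1] at hw
      exact ((Subgroup.mem_centralizer_iff.1 hw.2) n hn).symm)
    (by rw [← map_commutator_eq hPc.1, Subgroup.card_map_of_injective (incl_injective _), hD])
    he hy hx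
  exact ⟨z, hPc.1, hPc, hz⟩

theorem NSet.z_mem_good {V W : Subgroup S} {e y x z : S} (h : NSet p F P W e y x z) (hV : Good F V) :
    Subgroup.zpowers z ≤ V := Subgroup.zpowers_le.2 (h.data.z_def ▸ hV.comm e x)

/-- For an essential subgroup of order `p⁴` with coordinates all automorphisms are trivial modulo
`V`. -/
theorem NSet.cong (hH : Hyp p F) {V W : Subgroup S} (hV : Good F V) {e y x z : S}
    (h : NSet p F P W e y x z) (hess : F.IsEssential p P) {α : MulAut P} (hα : α ∈ F.autGroup P) :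
    Cong h.le V α := by
  have hp : p.Prime := Fact.out
  haveI := h.data.normW
  haveI := h.data.zpowers_normal
  haveI := hV.normal
  have : Finite P := finite_of_le h.le
  set x' : P := ⟨x, h.data.x_mem⟩
  by_cases hX : α x' ∈ pb h.le (W ⊔ Subgroup.zpowers x)
  · obtain ⟨γ, hγ, hag⟩ := h.exists_top hH hα hX
    exact hV.cong_of_agree hγ hag
  obtain ⟨hcomm, hxp, hmp, htop, K, hKG, hKW, hKz, a, ha, b, hb, h1, h2, h3, h4⟩ :=
    h.exists_transvections hα hX
  set π := QuotientGroup.mk' (pb h.le W) with hπ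
  set G := F.autGroup P
  let ρ : G →* MulAut (P ⧸ pb h.le W) := actHom G (pb h.le W) fun β _ => h.W_invariant β
  have hρ : ∀ (β : G) (u : P), ρ β (π u) = π ((β : MulAut P) u) := fun β u => actHom_mk G _ _ β u
  have hAc : ∀ q r : P ⧸ pb h.le W, q * r = r * q := fun q r => by
    obtain ⟨u, rfl⟩ := QuotientGroup.mk'_surjective (pb h.le W) q
    obtain ⟨v, rfl⟩ := QuotientGroup.mk'_surjective (pb h.le W) r
    rw [← map_mul, ← map_mul]; exact hcomm u v
  obtain ⟨τ, hτK, hd1, hd2⟩ := diag_of_pair ρ (hAc (π x') (π (α x'))) hxp hmp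
    (a := ⟨a, hKG ha⟩) (b := ⟨b, hKG hb⟩) (by rw [hρ]; exact h1) (by rw [hρ]; exact h2)
    (by rw [hρ]; exact h3) (by rw [hρ]; exact h4) (K := K.subgroupOf G) ha hb (p - 1) (p - 1)
    (by rw [Nat.cast_mul, cast_pred]; ring)
  have hτK : (τ : MulAut P) ∈ K := hτK
  set pz := pb h.le (Subgroup.zpowers z)
  have hzV : ∀ u ∈ pz, incl h.le u ∈ V := fun u hu => h.z_mem_good hV hu
  -- `τ` inverts `P` modulo `W`
  have hinv : ∀ q, ρ τ q = q⁻¹ := fun q => by
    rw [apply_eq_pow_of_gen hAc htop _ (p - 1) hd1 hd2 q]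
    refine pow_pred ?_
    obtain ⟨u, rfl⟩ := QuotientGroup.mk'_surjective (pb h.le W) q
    have hq : π u ∈ Subgroup.zpowers (π x') ⊔ Subgroup.zpowers (π (α x')) := htop ▸ Subgroup.mem_top _
    have hle : Subgroup.zpowers (π x') ⊔ Subgroup.zpowers (π (α x')) ≤
        ({ toFun := fun q => q ^ p, map_one' := one_pow p,
           map_mul' := fun q r => (show Commute q r from hAc q r).mul_pow p } :
          P ⧸ pb h.le W →* P ⧸ pb h.le W).ker :=
      sup_le (Subgroup.zpowers_le.2 hxp) (Subgroup.zpowers_le.2 hmp)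
    exact hle hq
  have hτW : ∀ u : P, (τ : MulAut P) u * u ∈ pb h.le W := fun u => by
    rw [← QuotientGroup.eq_one_iff]
    show π ((τ : MulAut P) u * u) = 1
    rw [map_mul, ← hρ, hinv, inv_mul_cancel]
  have hτx : (τ : MulAut P) x' ∈ pb h.le (W ⊔ Subgroup.zpowers x) := by
    refine (mk_mem_zpowers_iff h.le x').1 ?_
    rw [← hπ, ← hρ, hinv]
    exact inv_mem (Subgroup.mem_zpowers _)
  obtain ⟨γ, hγ, hag⟩ := h.exists_top hH τ.2 hτx
  have hτV : Cong h.le V (τ : MulAut P) := hV.cong_of_agree hγ hag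
  -- `τ` and `α` commute modulo `⟨z⟩`
  have hcc : ∀ u : P, (α ((τ : MulAut P) u))⁻¹ * (τ : MulAut P) (α u) ∈ pz := by
    let s : ℕ → Subgroup P := fun i => match i with
      | 0 => ⊤
      | 1 => pb h.le W
      | 2 => pz
      | _ + 3 => ⊥
    have hs : ∀ β ∈ G, β ∈ preserve G s := fun β hβ => mem_preserve_of_le hβ fun i u hu =>
      match i, hu with
      | 0, _ => Subgroup.mem_top _
      | 1, hu => h.W_invariant β u hu
      | 2, hu => h.z_invariant β u hu
      | _ + 3, hu => by rw [Subgroup.mem_bot] at hu ⊢; rw [hu, map_one]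
    set δ : MulAut P := (α * τ)⁻¹ * (τ * α)
    have hαG : α * τ ∈ G := mul_mem hα τ.2
    have hδG : δ ∈ G := mul_mem (inv_mem hαG) (mul_mem τ.2 hα)
    have key : ∀ (i : ℕ) (u : P), (α ((τ : MulAut P) u))⁻¹ * (τ : MulAut P) (α u) ∈ s i →
        u⁻¹ * δ u ∈ s i := by
      intro i u hu
      have := ((hs _ hαG).2 i _ hu).2
      have e0 : (α * (τ : MulAut P))⁻¹ (α ((τ : MulAut P) u)) = u :=
        MulAut.inv_apply_self _ (α * (τ : MulAut P)) u
      rw [map_mul, map_inv, e0] at this
      exact this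
    have hδ : δ ∈ disp G s 3 := by
      refine ⟨hs _ hδG, fun i hi u hu => key (i + 1) u ?_⟩
      interval_cases i
      · show _ ∈ pb h.le W
        rw [← QuotientGroup.eq_one_iff]
        show π ((α ((τ : MulAut P) u))⁻¹ * (τ : MulAut P) (α u)) = 1
        have e1 : π (α ((τ : MulAut P) u)) = ρ ⟨α, hα⟩ (ρ τ (π u)) := by rw [hρ, hρ]
        rw [map_mul, map_inv, e1, ← hρ, hinv, hinv, map_inv, hρ, inv_inv, mul_inv_cancel]
      · show _ ∈ pz
        have hw1 := hKW _ hτK u hu
        have hw2 := hKW _ hτK (α u) (h.W_invariant α u hu)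
        have h5 := h.z_invariant α _ hw1
        rw [map_mul, map_inv] at h5
        have := mul_mem (inv_mem h5) hw2
        simpa [mul_assoc] using this
      · show _ ∈ (⊥ : Subgroup P)
        rw [Subgroup.mem_bot, hKz _ hτK u hu, hKz _ hτK (α u) (h.z_invariant α u hu), inv_mul_cancel]
    have hInn : δ ∈ Cfsg.Inn P := by
      rw [← (isRadical_of_isEssential hH.isP hH.sat hess).2]
      have : Finite (MulAut P) := finite_mulAut
      have hn : ((disp G s 3).subgroupOf G).Normal := ⟨fun k hk β => conj_mem_disp (hs _ β.2) hk⟩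
      exact ⟨⟨δ, hδG⟩, CfsgLib.Solvable.le_pCore hn
        (IsPGroup.comap_subtype (isPGroup_disp (hH.isP.to_le h.le) _ s 3 rfl rfl)) hδ, rfl⟩
    intro u
    obtain ⟨g, hg⟩ := hInn
    have hd : u⁻¹ * δ u ∈ pz := by
      rw [← hg, mem_pb, show u⁻¹ * MulAut.conj g u = ⁅u⁻¹, g⁆ by
        rw [MulAut.conj_apply, commutatorElement_def, inv_inv]; group, map_commutatorElement]
      exact h.data.comm_le _ (incl_mem h.le _) _ (incl_mem h.le _)
    have := h.z_invariant (α * τ) _ hd
    rw [map_mul, map_inv, MulAut.mul_apply] at this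
    simp only [δ, MulAut.mul_apply, MulAut.apply_inv_self] at this
    exact this
  -- the elements inverted modulo `⟨z⟩` lie in `V`
  have hK : ∀ k : P, (τ : MulAut P) k * k ∈ pz → incl h.le k ∈ V ∧ incl h.le (α k) ∈ V := by
    have h0 : ∀ k : P, (τ : MulAut P) k * k ∈ pz → incl h.le k ∈ V := fun k hk =>
      hV.mem_of_inverted hH hτV (by rw [← map_mul]; exact hzV _ hk)
    refine fun k hk => ⟨h0 k hk, h0 _ ?_⟩
    have h5 := h.z_invariant α _ hk
    rw [map_mul] at h5
    have h6 := hcc k
    rw [← QuotientGroup.eq_one_iff] at h5 h6 ⊢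
    simp only [QuotientGroup.mk_mul, QuotientGroup.mk_inv] at h5 h6 ⊢
    rw [inv_mul_eq_one.1 h6] at h5
    exact h5
  -- `α` is trivial on `W` modulo `V`
  have hW : ∀ w ∈ pb h.le W, (incl h.le w)⁻¹ * incl h.le (α w) ∈ V := by
    intro w hw
    set κ : MulAut P := b⁻¹ * a
    have hκK : κ ∈ K := mul_mem (inv_mem hb) ha
    have hκx : π ((κ * α) x') = π x' := by
      rw [MulAut.mul_apply, MulAut.mul_apply]
      have e1 : π (a (α x')) = π (α x') * π x' := h2
      have e3 : π (b⁻¹ (a (α x'))) = ρ (⟨b, hKG hb⟩⁻¹ : G) (π (a (α x'))) := by rw [hρ]; rfl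
      rw [e3, e1, map_inv, map_mul]
      have f1 : (ρ ⟨b, hKG hb⟩)⁻¹ (π (α x')) = π (α x') := by
        conv_lhs => rw [← h3]
        rw [← hρ ⟨b, hKG hb⟩, MulAut.inv_apply_self]
      have f2 : (ρ ⟨b, hKG hb⟩)⁻¹ (π x') = π x' * (π (α x'))⁻¹ := by
        apply (ρ ⟨b, hKG hb⟩).injective
        rw [MulAut.apply_inv_self, map_mul, map_inv, hρ, hρ, h3, h4, mul_inv_cancel_right]
      rw [f1, f2, hAc (π x'), mul_inv_cancel_left]
    obtain ⟨γ', hγ', hag'⟩ := h.exists_top hH (mul_mem (hKG hκK) hα) (α := κ * α) (by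
      refine (mk_mem_zpowers_iff h.le x').1 ?_
      rw [← hπ, hκx]
      exact Subgroup.mem_zpowers _)
    have e1 := hV.cong_of_agree hγ' hag' w
    have e2 : incl h.le ((α w)⁻¹ * κ (α w)) ∈ V := hzV _ (hKW _ hκK _ (h.W_invariant α w hw))
    rw [MulAut.mul_apply] at e1
    rw [map_mul, map_inv] at e2
    have := mul_mem e1 (inv_mem e2)
    simpa [mul_assoc] using this
  -- decomposition
  intro u
  set v := (τ : MulAut P) u * u
  set w := v ^ ((p + 1) / 2)
  have hvW : v ∈ pb h.le W := hτW u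
  have hwW : w ∈ pb h.le W := pow_mem hvW _
  have hk : (τ : MulAut P) (u * w⁻¹) * (u * w⁻¹) ∈ pz := by
    set μ := QuotientGroup.mk' pz with hμ
    have hμc : ∀ r t : P, μ r * μ t = μ t * μ r := fun r t => (mk_commute (show ⁅r, t⁆ ∈ pz by
      rw [mem_pb, map_commutatorElement]
      exact h.data.comm_le _ (incl_mem h.le _) _ (incl_mem h.le _))).eq
    have hτw : μ ((τ : MulAut P) w) = μ w := (mk_eq.2 (hKW _ hτK w hwW)).symm
    have hvp : μ v ^ p = 1 := by
      rw [← map_pow, QuotientGroup.mk'_apply, QuotientGroup.eq_one_iff, mem_pb, map_pow]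
      exact pow_mem_of_relIndex h.data.relIndex_W hvW
    obtain ⟨k, hk⟩ := hp.odd_of_ne_two hH.ne_two
    have hw2 : μ w * μ w = μ v := by
      rw [map_pow, ← pow_add, show (p + 1) / 2 + (p + 1) / 2 = p + 1 by omega, pow_succ, hvp, one_mul]
    rw [← QuotientGroup.eq_one_iff]
    show μ ((τ : MulAut P) (u * w⁻¹) * (u * w⁻¹)) = 1
    rw [map_mul (τ : MulAut P), map_inv, map_mul, map_mul, map_mul, map_inv, map_inv, hτw]
    have e1 : μ ((τ : MulAut P) u) * μ u = μ v := (map_mul μ _ _).symm
    calc μ ((τ : MulAut P) u) * (μ w)⁻¹ * (μ u * (μ w)⁻¹)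
        = μ ((τ : MulAut P) u) * ((μ w)⁻¹ * μ u) * (μ w)⁻¹ := by group
      _ = μ ((τ : MulAut P) u) * (μ u * (μ w)⁻¹) * (μ w)⁻¹ := by
          rw [← map_inv, hμc w⁻¹ u]
      _ = μ ((τ : MulAut P) u) * μ u * (μ w * μ w)⁻¹ := by group
      _ = 1 := by rw [e1, hw2, mul_inv_cancel]
  obtain ⟨hk1, hk2⟩ := hK _ hk
  have e3 := hW w hwW
  have hu : u = (u * w⁻¹) * w := by rw [inv_mul_cancel_right]
  generalize u * w⁻¹ = k at hk1 hk2 hu
  rw [hu, map_mul α, map_mul, map_mul, ← QuotientGroup.eq_one_iff]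
  rw [← QuotientGroup.eq_one_iff] at hk1 hk2 e3
  simp only [QuotientGroup.mk_mul, QuotientGroup.mk_inv] at e3 ⊢
  rw [hk1, hk2, one_mul, one_mul]
  exact e3

/-- All automorphisms of a centric subgroup of order `p⁴` are trivial modulo `V`. -/
theorem cong_of_card4 (hH : Hyp p F) {V : Subgroup S} (hV : Good F V) (hPc : F.IsCentric P)
    (hc4 : Nat.card P = p ^ 4) {α : MulAut P} (hα : α ∈ F.autGroup P) : Cong hPc.1 V α := by
  have hp : p.Prime := Fact.out
  have hPS := hPc.1
  have : Finite P := finite_of_le hPS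
  have hN : Nat.card (P.subgroupOf S) = p ^ 4 := (card_subgroupOf hPS).trans hc4
  haveI hNn := normal_of_card hH.card hN
  have hnor := normalizerIn_eq_of_normal hNn hPS
  have hlt : P < S := lt_of_le_of_ne hPS fun e => by
    rw [e, hH.card, Nat.pow_right_injective hp.two_le |>.eq_iff] at hc4
    omega
  by_cases hess : F.IsEssential p P
  swap
  · have heq : extendableAut F P = F.autGroup P := by
      by_contra hne
      exact hess (isEssential_of_extendableAut_ne hH.isP hH.sat hlt
        (isFullyNormalized_of_normalizerIn F hPS hnor) hne)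
    rw [← heq] at hα
    have hle : extendableAut F P ≤ congSub hPS V := by
      refine (Subgroup.closure_le _).2 ?_
      rintro β ⟨R, hR, φ, hφ, hag⟩
      have hRS : R = S := by
        refine (dom_le hφ).eq_or_lt.resolve_right fun hRlt => ?_
        have h1 := mul_card_le_of_lt (p := p) hH.isP
          (show P.subgroupOf S < R.subgroupOf S from lt_of_le_of_ne (Subgroup.comap_mono hR.le) fun e =>
            hR.ne ((Subgroup.subgroupOf_inj.1 e).trans (inf_eq_left.2 (dom_le hφ)) |> fun e' =>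
              (inf_eq_left.2 hPS).symm.trans e'))
        have h2 := mul_card_le_of_lt (p := p) hH.isP
          (show R.subgroupOf S < ⊤ from lt_top_iff_ne_top.2 fun e =>
            hRlt.not_ge (Subgroup.subgroupOf_eq_top.1 e))
        rw [hN] at h1
        rw [Subgroup.card_top, hH.card] at h2
        have h3 := (Nat.mul_le_mul_left p h1).trans h2
        rw [← mul_assoc, show p * p * p ^ 4 = p ^ 6 by ring, Nat.pow_le_pow_iff_right hp.one_lt] at h3
        omega
      subst hRS
      obtain ⟨γ, hγ, hγφ⟩ := exists_aut hφ (isConj_top_eq ⟨φ, hφ, rfl⟩)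
      exact hV.cong_of_agree hγ (hPS := hPS) fun u =>
        Subtype.ext ((hγφ _).trans (hag u))
    exact hle hα
  rcases order_p4_cases hc4 (not_comm_of_card hH hPS hc4) with ⟨hZ, hD⟩ | ⟨hZ, X, hX, hD, hZD, hDX, hXc, hDc⟩
  swap
  · exfalso
    have hchar : ∀ T : Subgroup P, T.Characteristic → ∀ β : MulAut P, ∀ u ∈ T, β u ∈ T :=
      fun T hT β u hu => (Subgroup.characteristic_iff_le_comap.1 hT β) hu
    have hi : X.index = p := by
      have h' := X.card_mul_index
      rw [hXc, hc4, pow_succ p 3] at h'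
      exact Nat.eq_of_mul_eq_mul_left (pow_pos hp.pos 3) h'
    obtain ⟨β, -, i, u, hu, hu'⟩ := exists_not_preserve hH.isP hH.sat hess (n := 4)
      (s := chain X (commutator P) (Subgroup.center P)) rfl rfl
      (chain_factors4 hi hDX (relIndex_of_card hDX hDc hXc) hZD
        (relIndex_of_card hZD (hZ.trans (pow_one p).symm) hDc) hZ)
    exact hu' (chain_invariant (hchar _ hX β) (hchar _ hD β) (hchar _ inferInstance β) i u hu)
  set W := (Subgroup.center P).map (incl hPS) with hW
  haveI : W.Normal := by rw [hW, map_center_eq hPS]; infer_instance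
  set D := (commutator P).map (incl hPS) with hDdef
  haveI : D.Normal := by rw [hDdef, map_commutator_eq hPS]; infer_instance
  have hex : ∃ e ∈ P.subgroupOf S, ∃ y : S, ⁅e, y⁆ ∉ W := by
    by_contra hall
    push Not at hall
    have hDZ : commutator P ≤ Subgroup.center P := CfsgLib.FusionExtraspecial.le_center_of_card_eq
      (IsPGroup.of_card hc4) inferInstance hD
    have hpbW : pb hPS W = Subgroup.center P :=
      Subgroup.comap_map_eq_self_of_injective (incl_injective hPS) _
    have hpbD : pb hPS D = commutator P :=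
      Subgroup.comap_map_eq_self_of_injective (incl_injective hPS) _
    refine not_autInducedBy_le_disp hH.isP hH.sat hess (n := 3)
      (s := chain (Subgroup.center P) (commutator P) ⊥) rfl rfl
      (fun β _ => chain_invariant
        (fun u hu => (Subgroup.characteristic_iff_le_comap.1 inferInstance β) hu)
        (fun u hu => (Subgroup.characteristic_iff_le_comap.1 inferInstance β) hu)
        (fun u hu => by rw [Subgroup.mem_bot] at hu ⊢; rw [hu, map_one])) ?_
    intro a ha
    obtain ⟨g, hg, hgS, rfl⟩ := exists_eq_conjAut ha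
    refine ⟨(autInducedBy_le_preserve hPS (F := F) fun g hg hgS =>
      forall_chain (q := fun T => ∀ u ∈ T, conjAut P g hg u ∈ T) (fun _ _ => Subgroup.mem_top _)
        (hpbW ▸ conjAut_mem_pb hPS hg hgS) (hpbD ▸ conjAut_mem_pb hPS hg hgS)
        (fun u hu => by rw [Subgroup.mem_bot] at hu ⊢; rw [hu, map_one])
        (fun u hu => by rw [Subgroup.mem_bot] at hu ⊢; rw [hu, map_one]))
      (conjAut_mem_autInducedBy hgS hg), fun i hi u hu => ?_⟩
    have key := incl_inv_mul_conjAut hPS hg hgS u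
    interval_cases i
    · show _ ∈ Subgroup.center P
      rw [← hpbW, mem_pb, key]
      exact hall _ (inv_mem (incl_mem hPS u)) _
    · show _ ∈ commutator P
      rw [← hpbD, mem_pb, key]
      refine commutator_mem_of_relIndex hH.isP inferInstance inferInstance (Subgroup.map_mono hDZ) ?_
        (inv_mem ⟨u, hu, rfl⟩)
      refine relIndex_of_card (Subgroup.map_mono hDZ) (i := 1) ?_ ?_
      · rw [Subgroup.card_map_of_injective (incl_injective hPS), hD, pow_one]
      · rw [Subgroup.card_map_of_injective (incl_injective hPS), hZ]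
    · show _ ∈ (⊥ : Subgroup P)
      have hDc' : Nat.card D = p := (Subgroup.card_map_of_injective (incl_injective hPS)).trans hD
      have hcen := CfsgLib.FusionExtraspecial.le_center_of_card_eq hH.isP inferInstance hDc'
        (inv_mem (show incl hPS u ∈ D from ⟨u, hu, rfl⟩))
      refine Subgroup.mem_bot.2 (incl_injective hPS ?_)
      rw [key, map_one, commutatorElement_eq_one_iff_mul_comm]
      exact (Subgroup.mem_center_iff.1 hcen _).symm
  obtain ⟨e, he, y, hxy⟩ := hex
  have hy : y ∉ P.subgroupOf S := fun hy => hxy (by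
    refine Subgroup.map_mono (CfsgLib.FusionExtraspecial.le_center_of_card_eq
      (IsPGroup.of_card hc4) inferInstance hD) ?_
    rw [map_commutator_eq hPS]
    exact Subgroup.commutator_mem_commutator he hy)
  obtain ⟨z, hz⟩ := exists_NSet hH hPc hc4 hZ hD hW he hy hxy
  exact hz.cong hH hV hess hα

end CfsgLib.FusionPFive
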