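import Cfsg.Agent.Lib.FusionPFive.NCase
import Cfsg.Agent.Lib.FusionIndexP.Essential

/-!
Essential subgroups of order `p²` in a group of order `p⁵` without abelian subgroup of index `p`: the
group has maximal class, automorphisms of the normalizer extend to the whole group.
-/

set_option autoImplicit false

open Cfsg Cfsg.FusionSystem CfsgLib.Fusion
open scoped commutatorElement IsMulCommutative

namespace CfsgLib.FusionPFive

variable {Ω : Type*} [Group Ω] {S : Subgroup Ω} {p : ℕ} {F : Cfsg.FusionSystem S}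
variable {E N₁ N₂ : Subgroup Ω}

/-- An essential subgroup of order `p²` with the series it determines. -/
structure PCtx (p : ℕ) (F : Cfsg.FusionSystem S) (E N₁ N₂ : Subgroup Ω) (U D C : Subgroup S)
    (e x₁ x₂ x₃ z : S) : Prop where
  hyp : Hyp p F
  ess : F.IsEssential p E
  cardE : Nat.card E = p ^ 2
  le_N₁ : E ≤ N₁
  N₁_le : N₁ ≤ S
  N₁_le_N₂ : N₁ ≤ N₂
  N₂_le : N₂ ≤ S
  normalizer_E : normalizerIn S E = N₁
  normalizer_N₁ : normalizerIn S N₁ = N₂
  centric : F.IsCentric N₁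
  fullyNormalized : F.IsFullyNormalized N₁
  data : MData p U D C e x₁ x₂ x₃ z
  e_mem : e ∈ E.subgroupOf S
  z_mem_E : z ∈ E.subgroupOf S
  center_eq : Subgroup.center S = Subgroup.zpowers z
  e_notMem : e ∉ C
  cardU : Nat.card U = p ^ 2
  cardD : Nat.card D = p ^ 3
  cardN₁ : Nat.card N₁ = p ^ 3
  cardN₂ : Nat.card N₂ = p ^ 4
  U_le_N₁ : U ≤ N₁.subgroupOf S
  D_le_N₂ : D ≤ N₂.subgroupOf S
  inf_C : N₂.subgroupOf S ⊓ C ≤ D
  C_le : C ≤ D ⊔ Subgroup.zpowers x₁
  x₁_notMem : x₁ ∉ D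
  D_comm : ∀ a b : S, ⁅a, b⁆ ∈ D
  U_char : U.Characteristic
  D_char : D.Characteristic
  generates : C ⊔ Subgroup.zpowers e = ⊤
  x₃_notMem : x₃ ∉ Subgroup.zpowers z
  x₂_notMem : x₂ ∉ U

variable [Fact p.Prime] [Finite S]

/-- In a group of order `p³` commutators are central. -/
theorem commutator_mem_center_of_cube {Q : Type*} [Group Q] [Finite Q] (hQ : Nat.card Q = p ^ 3)
    (a b : Q) : ⁅a, b⁆ ∈ Subgroup.center Q := by
  have hp : p.Prime := Fact.out
  have hG : IsPGroup p Q := IsPGroup.of_card hQ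
  by_cases htop : Subgroup.center Q = ⊤
  · rw [htop]; exact Subgroup.mem_top _
  haveI : Nontrivial Q := Finite.one_lt_card_iff_nontrivial.1 (by rw [hQ]; exact Nat.one_lt_pow (by omega) hp.one_lt)
  obtain ⟨i, hi⟩ := IsPGroup.iff_card.1 (hG.to_subgroup (Subgroup.center Q))
  have hi0 : i ≠ 0 := fun h => by
    haveI := hG.center_nontrivial
    have := Finite.one_lt_card (α := Subgroup.center Q)
    rw [hi, h, pow_zero] at this
    exact lt_irrefl _ this
  obtain ⟨j, hj⟩ := hG.index (Subgroup.center Q)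
  have hij := (Subgroup.center Q).card_mul_index
  rw [hi, hj, hQ, ← pow_add] at hij
  have h3 := Nat.pow_right_injective hp.two_le hij
  have hcomm : ∀ u v : Q ⧸ Subgroup.center Q, u * v = v * u := by
    rw [Subgroup.index_eq_card] at hj
    rcases (show j = 0 ∨ j = 1 ∨ j = 2 by omega) with rfl | rfl | rfl
    · rw [pow_zero] at hj
      haveI := (Nat.card_eq_one_iff_unique.1 hj).1
      exact fun u v => Subsingleton.elim _ _
    · rw [pow_one] at hj
      haveI := isCyclic_of_prime_card (p := p) hj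
      exact IsCyclic.isMulCommutative.is_comm.comm
    · exact (IsPGroup.isMulCommutative_of_card_eq_prime_sq hj).is_comm.comm
  exact commutator_mem_iff_mk.2 (hcomm _ _)

/-- The configuration of an essential subgroup of order `p²`. -/
theorem exists_PCtx (hH : Hyp p F) (hE : F.IsEssential p E) (hE2 : Nat.card E = p ^ 2) {e : S}
    (he : e ∈ E.subgroupOf S) (hez : e ∉ Subgroup.center S) :
    ∃ (N₁ N₂ : Subgroup Ω) (U D C : Subgroup S) (x₁ x₂ x₃ z : S),
      PCtx p F E N₁ N₂ U D C e x₁ x₂ x₃ z := by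
  have hp : p.Prime := Fact.out
  have hS := hH.isP
  have hES : E ≤ S := hE.1.1
  have : Finite E := finite_of_le hES
  have hcE : ∀ a b : E, a * b = b * a := (IsPGroup.isMulCommutative_of_card_eq_prime_sq hE2).is_comm.comm
  haveI : IsMulCommutative E := ⟨⟨hcE⟩⟩
  set E' := E.subgroupOf S
  set Z := Subgroup.center S with hZdef
  have hE'c : Nat.card E' = p ^ 2 := (card_subgroupOf hES).trans hE2
  have hcen : ∀ s : S, (∀ u ∈ E', u * s = s * u) → s ∈ E' := fun s hs =>
    centralizerIn_le_of_isCentric hE.1 ⟨s.2, fun u hu => congrArg Subtype.val (hs ⟨u, hES hu⟩ hu)⟩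
  have hZE : Z ≤ E' := fun s hs => hcen s fun u _ => Subgroup.mem_center_iff.1 hs u
  haveI : Nontrivial S := Finite.one_lt_card_iff_nontrivial.1
    (by rw [hH.card]; exact Nat.one_lt_pow (by omega) hp.one_lt)
  have hZc : Nat.card Z = p := by
    obtain ⟨i, hi⟩ := IsPGroup.iff_card.1 (hS.to_subgroup Z)
    have hi0 : i ≠ 0 := fun h => by
      haveI := hS.center_nontrivial
      have := Finite.one_lt_card (α := Z)
      rw [hi, h, pow_zero] at this
      exact lt_irrefl _ this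
    have hlt : Z < E' := lt_of_le_of_ne hZE fun h => hez (h ▸ he)
    have h1 := mul_card_le_of_lt hS hlt
    rw [hi, hE'c, ← pow_succ', Nat.pow_le_pow_iff_right hp.one_lt] at h1
    rw [hi, show i = 1 by omega, pow_one]
  have hEgen : E' ≤ Z ⊔ Subgroup.zpowers e := le_sup_zpowers_of_relIndex hS hZE
    (relIndex_of_card hZE (hZc.trans (pow_one p).symm) hE'c) he hez
  have hcente : ∀ s : S, e * s = s * e → s ∈ E' := fun s hs => hcen s fun u hu => by
    have hle : Z ⊔ Subgroup.zpowers e ≤ Subgroup.centralizer ({s} : Set S) := sup_le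
      (fun a ha => Subgroup.mem_centralizer_singleton_iff.2 (Subgroup.mem_center_iff.1 ha s).symm)
      (Subgroup.zpowers_le.2 (Subgroup.mem_centralizer_singleton_iff.2 hs))
    exact Subgroup.mem_centralizer_singleton_iff.1 (hle (hEgen hu))
  -- the normalizer
  set N₁ := normalizerIn S E with hN₁
  have hN₁S : N₁ ≤ S := normalizerIn_le S E
  have hEN₁ : E ≤ N₁ := le_normalizerIn hES
  have hsub : (Z.map S.subtype).subgroupOf E = pb hES Z := by
    ext u
    constructor
    · rintro ⟨w, hw, he⟩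
      exact mem_pb.2 (show incl hES u ∈ Z by rwa [show incl hES u = w from Subtype.ext he.symm])
    · exact fun hu => ⟨incl hES u, hu, rfl⟩
  have hpbi : (pb hES Z).index = p := by
    have h' := (pb hES Z).card_mul_index
    rw [card_pb hES hZE, hZc, hE2, pow_two] at h'
    exact Nat.eq_of_mul_eq_mul_left hp.pos h'
  set N' := N₁.subgroupOf S
  have hnorm : ∀ s : S, (∀ u ∈ E', ⁅s, u⁆ ∈ E') → s ∈ N' := by
    intro s hs
    refine Subgroup.mem_subgroupOf.2 ⟨s.2, Subgroup.mem_normalizer_iff.2 fun u => ⟨fun hu => ?_, fun hu => ?_⟩⟩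
    · have := mul_mem (hs ⟨u, hES hu⟩ hu) (show (⟨u, hES hu⟩ : S) ∈ E' from hu)
      rwa [commutatorElement_def, inv_mul_cancel_right, Subgroup.mem_subgroupOf] at this
    · have hle : E'.map (MulAut.conj s).toMonoidHom ≤ E' := by
        rintro _ ⟨v, hv, rfl⟩
        have := mul_mem (hs v hv) hv
        rwa [commutatorElement_def, inv_mul_cancel_right] at this
      have heq := Subgroup.eq_of_le_of_card_ge hle
        (Subgroup.card_map_of_injective (f := (MulAut.conj s).toMonoidHom) (MulAut.conj s).injective).ge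
      have huS : u ∈ S := by
        have := S.mul_mem (S.mul_mem (S.inv_mem s.2) (hES hu)) s.2
        simpa [mul_assoc] using this
      obtain ⟨v, hv, hvu⟩ := heq.ge (show (s * ⟨u, huS⟩ * s⁻¹ : S) ∈ E' from hu)
      rw [show (MulAut.conj s).toMonoidHom v = s * v * s⁻¹ from rfl] at hvu
      rw [mul_left_cancel (mul_right_cancel hvu)] at hv
      exact hv
  obtain ⟨-, -, -, -, -, hrel⟩ := CfsgLib.FusionIndexP.exists_split_of_essential hS hH.sat
    (Z₀ := Z.map S.subtype) hE (by rintro _ ⟨w, hw, rfl⟩; exact hZE hw)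
    (by show ((Z.map S.subtype).subgroupOf E).index = p; rw [hsub]; exact hpbi)
    (by rintro g hg _ ⟨w, hw, rfl⟩; exact congrArg Subtype.val (Subgroup.mem_center_iff.1 hw ⟨g, hg.1⟩))
    (by
      rintro g hg x hx
      refine ⟨⁅(⟨x, hES hx⟩ : S)⁻¹, ⟨g, hg.1⟩⁆, ?_, by simp [commutatorElement_def, mul_assoc]⟩
      -- in `N_S(E)` the section `E/Z` is central
      have hN'p : IsPGroup p N' := hS.to_subgroup N'
      have hEn : (E'.subgroupOf N').Normal := ⟨fun v hv n =>
        (Subgroup.mem_normalizer_iff.1 (show ((n : S) : Ω) ∈ Subgroup.normalizer (E : Set Ω) from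
          (show ((n : S) : Ω) ∈ N₁ from n.2).2) _).1 hv⟩
      have hE'N : E' ≤ N' := Subgroup.comap_mono hEN₁
      haveI : (Z.subgroupOf N').Normal := Subgroup.normal_subgroupOf
      exact commutator_mem_of_relIndex hN'p hEn inferInstance (show Z.subgroupOf N' ≤ E'.subgroupOf N' from Subgroup.comap_mono hZE)
        (by rw [Subgroup.relIndex_subgroupOf hE'N]; exact relIndex_of_card hZE (hZc.trans (pow_one p).symm) hE'c)
        (g := (⟨⟨g, hg.1⟩, hg⟩ : N')) (u := (⟨⟨x, hES hx⟩, hE'N hx⟩ : N')⁻¹) (inv_mem hx))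
  have hN₁c : Nat.card N₁ = p ^ 3 := by
    have h := (E.subgroupOf N₁).card_mul_index
    rw [Nat.card_congr (Subgroup.subgroupOfEquivOfLe hEN₁).toEquiv,
      show (E.subgroupOf N₁).index = p from hrel, hE2, ← pow_succ] at h
    exact h.symm
  have hN'c : Nat.card N' = p ^ 3 := (card_subgroupOf hN₁S).trans hN₁c
  have hE'N : E' ≤ N' := Subgroup.comap_mono hEN₁
  have hnotn : ∀ s : S, s ∉ N' → ∃ u ∈ E', ⁅s, u⁆ ∉ E' := fun s hs => by
    by_contra h'
    push Not at h'
    exact hs (hnorm s h')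
  obtain ⟨s₀, hs₀⟩ : ∃ s, s ∉ N' := by
    by_contra h'
    push Not at h'
    have := Subgroup.card_le_of_le (show (⊤ : Subgroup S) ≤ N' from fun g _ => h' g)
    rw [Subgroup.card_top, hH.card, hN'c, Nat.pow_le_pow_iff_right hp.one_lt] at this
    omega
  -- `U`
  obtain ⟨x₃, -, hx₃Z, hx₃p, hx₃c⟩ := CfsgLib.PGroup.exists_step hS Z ⊤
    (lt_top_iff_ne_top.2 fun h => hez (h ▸ Subgroup.mem_top e))
  set U := Z ⊔ Subgroup.zpowers x₃ with hU
  haveI hUn : U.Normal := CfsgLib.PGroup.sup_zpowers_normal hx₃c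
  have hx₃U : x₃ ∈ U := Subgroup.mem_sup_right (Subgroup.mem_zpowers x₃)
  have hZU : Z ≤ U := le_sup_left
  have hUc : Nat.card U = p ^ 2 := by
    rw [CfsgLib.PGroup.card_sup_zpowers hx₃Z hx₃p, hZc, pow_two]
  have hUZ : ∀ u ∈ U, ∀ g : S, ⁅u, g⁆ ∈ Z := fun u hu g =>
    commutator_mem_of_relIndex hS hUn inferInstance hZU
      (relIndex_of_card hZU (hZc.trans (pow_one p).symm) hUc) hu
  have hZ2N : ∀ v : S, (∀ g, ⁅v, g⁆ ∈ Z) → v ∈ N' := fun v hv => hnorm v fun u _ => hZE (hv u)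
  have hUN : U ≤ N' := fun u hu => hZ2N u (hUZ u hu)
  have heU : e ∉ U := fun h => by
    obtain ⟨u, hu, hu'⟩ := hnotn s₀ hs₀
    refine hu' (hZE ?_)
    have hle : Z ⊔ Subgroup.zpowers e ≤ U := sup_le hZU (Subgroup.zpowers_le.2 h)
    rw [← commutatorElement_inv]
    exact inv_mem (hUZ u (hle (hEgen hu)) s₀)
  have heN : e ∈ N' := hE'N he
  have hN'gen : N' ≤ U ⊔ Subgroup.zpowers e :=
    le_sup_zpowers_of_relIndex hS hUN (relIndex_of_card hUN hUc hN'c) heN heU
  have hUiff : ∀ v : S, (∀ g, ⁅v, g⁆ ∈ Z) → v ∈ U := by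
    intro v hv
    by_contra hvU
    have hgen := le_sup_zpowers_of_relIndex hS hUN (relIndex_of_card hUN hUc hN'c) (hZ2N v hv) hvU
    obtain ⟨u, hu, hu'⟩ := hnotn s₀ hs₀
    refine hu' (hZE ?_)
    have hle : U ⊔ Subgroup.zpowers v ≤ (Subgroup.center (S ⧸ Z)).comap (QuotientGroup.mk' Z) := by
      have hmem : ∀ w : S, (∀ g, ⁅w, g⁆ ∈ Z) → w ∈ (Subgroup.center (S ⧸ Z)).comap (QuotientGroup.mk' Z) :=
        fun w hw => Subgroup.mem_center_iff.2 fun q => by
          obtain ⟨g, rfl⟩ := QuotientGroup.mk'_surjective Z q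
          exact (commutator_mem_iff_mk.1 (hw g)).symm
      exact sup_le (fun w hw => hmem w (hUZ w hw)) (Subgroup.zpowers_le.2 (hmem v hv))
    exact commutator_mem_iff_mk.2 (Subgroup.mem_center_iff.1 (hle (hgen (hE'N hu))) _)
  -- `C`
  set C := Subgroup.centralizer (U : Set S) with hC
  haveI hCn : C.Normal := by rw [hC]; infer_instance
  have hUab : ∀ u ∈ U, ∀ v ∈ U, u * v = v * u := fun u hu v hv =>
    congrArg Subtype.val ((IsPGroup.isMulCommutative_of_card_eq_prime_sq hUc).is_comm.comm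
      (⟨u, hu⟩ : U) ⟨v, hv⟩)
  have hUC : U ≤ C := fun u hu => Subgroup.mem_centralizer_iff.2 fun v hv => hUab v hv u hu
  have hCmem : ∀ c : S, x₃ * c = c * x₃ → c ∈ C := fun c hc => by
    refine Subgroup.mem_centralizer_iff.2 fun v hv => ?_
    have hle : U ≤ Subgroup.centralizer ({c} : Set S) := sup_le
      (fun a ha => Subgroup.mem_centralizer_singleton_iff.2 (Subgroup.mem_center_iff.1 ha c).symm)
      (Subgroup.zpowers_le.2 (Subgroup.mem_centralizer_singleton_iff.2 hc))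
    exact Subgroup.mem_centralizer_singleton_iff.1 (hle hv)
  have hx₃E : x₃ ∉ E' := fun h => by
    have hle : U ≤ E' := sup_le hZE (Subgroup.zpowers_le.2 h)
    exact heU ((Subgroup.eq_of_le_of_card_ge hle (hE'c.trans hUc.symm).le).ge he)
  have heC : e ∉ C := fun h => hx₃E (hcente x₃ (Subgroup.mem_centralizer_iff.1 h x₃ hx₃U).symm)
  let f : S →* Z :=
    { toFun := fun g => ⟨⁅g, x₃⁆, by rw [← commutatorElement_inv]; exact inv_mem (hUZ x₃ hx₃U g)⟩
      map_one' := Subtype.ext (commutatorElement_one_left x₃)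
      map_mul' := fun g g' => Subtype.ext (by
        show ⁅g * g', x₃⁆ = ⁅g, x₃⁆ * ⁅g', x₃⁆
        have hc : ∀ g : S, ⁅g, x₃⁆ ∈ Z := fun g => by
          rw [← commutatorElement_inv]; exact inv_mem (hUZ x₃ hx₃U g)
        calc ⁅g * g', x₃⁆ = g * ⁅g', x₃⁆ * g⁻¹ * ⁅g, x₃⁆ := by simp [commutatorElement_def, mul_assoc]
          _ = ⁅g, x₃⁆ * ⁅g', x₃⁆ := by
            rw [Subgroup.mem_center_iff.1 (hc g') g, mul_inv_cancel_right,
              (Subgroup.mem_center_iff.1 (hc g) _).symm]) }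
  have hfC : f.ker = C := by
    ext g
    constructor
    · exact fun h => hCmem g (commutatorElement_eq_one_iff_mul_comm.1 (congrArg Subtype.val h)).symm
    · exact fun h => Subtype.ext (commutatorElement_eq_one_iff_mul_comm.2
        (Subgroup.mem_centralizer_iff.1 h x₃ hx₃U).symm)
  have hCi : C.index = p := by
    have h1 : C.index ∣ p := by
      rw [← hfC, Subgroup.index_ker, ← hZc]; exact Subgroup.card_subgroup_dvd_card _
    refine ((Nat.dvd_prime hp).1 h1).resolve_left fun h => heC ?_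
    rw [Subgroup.index_eq_one] at h
    rw [h]; exact Subgroup.mem_top e
  have hCc : Nat.card C = p ^ 4 := by
    have h := C.card_mul_index
    rw [hCi, hH.card, pow_succ p 4] at h
    exact Nat.eq_of_mul_eq_mul_right hp.pos h
  have hgen : C ⊔ Subgroup.zpowers e = ⊤ := eq_top_of_index_lt hCi
    (lt_of_le_of_ne le_sup_left fun h => heC (h ▸ Subgroup.mem_sup_right (Subgroup.mem_zpowers e)))
  -- `x₁`, `x₂`
  obtain ⟨x₁, hx₁C, hx₂U⟩ : ∃ c ∈ C, ⁅e, c⁆ ∉ U := by
    by_contra hall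
    push Not at hall
    let g : C →* U :=
      { toFun := fun c => ⟨⁅e, (c : S)⁆, hall c c.2⟩
        map_one' := Subtype.ext (commutatorElement_one_right e)
        map_mul' := fun c d => Subtype.ext (by
          show ⁅e, (c : S) * d⁆ = ⁅e, (c : S)⁆ * ⁅e, (d : S)⁆
          calc ⁅e, (c : S) * d⁆ = ⁅e, (c : S)⁆ * (c * ⁅e, (d : S)⁆ * (c : S)⁻¹) := by
                simp [commutatorElement_def, mul_assoc]
            _ = _ := by
              rw [← (Subgroup.mem_centralizer_iff.1 c.2) _ (hall d d.2), mul_inv_cancel_right]) }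
    have hker : Nat.card g.ker ≤ p := by
      rw [← Subgroup.card_map_of_injective C.subtype_injective, ← hZc]
      refine Subgroup.card_le_of_le ?_
      rintro _ ⟨c, hc, rfl⟩
      have hcE : (c : S) ∈ E' := hcente c (commutatorElement_eq_one_iff_mul_comm.1 (congrArg Subtype.val hc))
      obtain ⟨i, hi⟩ := exists_pow_mem (A := Z) hEgen hcE
      have heiC : e ^ i ∈ C := by
        have := mul_mem c.2 (inv_mem (hUC (hZU hi)))
        rwa [mul_inv_rev, inv_inv, ← mul_assoc, mul_inv_cancel, one_mul] at this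
      obtain ⟨q, rfl⟩ : p ∣ i := by
        have ho : orderOf (QuotientGroup.mk' C e) = p := orderOf_eq_prime (by
          rw [← map_pow, QuotientGroup.mk'_apply, QuotientGroup.eq_one_iff]
          exact hCi ▸ Subgroup.pow_index_mem C e)
          (by rw [ne_eq, QuotientGroup.mk'_apply, QuotientGroup.eq_one_iff]; exact heC)
        rw [← ho, orderOf_dvd_iff_pow_eq_one, ← map_pow, QuotientGroup.mk'_apply, QuotientGroup.eq_one_iff]
        exact heiC
      show (c : S) ∈ Z
      have hepZ : e ^ p ∈ Z :=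
        pow_mem_of_relIndex (relIndex_of_card hZE (hZc.trans (pow_one p).symm) hE'c) he
      have := mul_mem (pow_mem hepZ q) hi
      rwa [← pow_mul, mul_inv_cancel_left] at this
    have h1 := g.ker.card_mul_index
    rw [Subgroup.index_ker, hCc] at h1
    have h2 : Nat.card g.range ≤ p ^ 2 := hUc ▸ Subgroup.card_le_card_group _
    have h3 : p ^ 4 ≤ p * p ^ 2 := h1 ▸ Nat.mul_le_mul hker h2
    rw [← pow_succ', Nat.pow_le_pow_iff_right hp.one_lt] at h3
    omega
  set x₂ := ⁅e, x₁⁆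
  set D := U ⊔ Subgroup.zpowers x₂ with hD
  have hQc : Nat.card (S ⧸ U) = p ^ 3 := by
    rw [← Subgroup.index_eq_card]; exact index_of_card hH.card (by omega) hUc
  have hx₂c : ∀ g : S, ⁅x₂, g⁆ ∈ U := fun g => by
    refine commutator_mem_iff_mk.2 ?_
    rw [show QuotientGroup.mk' U x₂ = ⁅QuotientGroup.mk' U e, QuotientGroup.mk' U x₁⁆ from
      map_commutatorElement _ _ _]
    exact (Subgroup.mem_center_iff.1 (commutator_mem_center_of_cube hQc _ _) _).symm
  haveI hDn : D.Normal := CfsgLib.PGroup.sup_zpowers_normal hx₂c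
  have hx₂C : x₂ ∈ C := Subgroup.commutator_le_right ⊤ C
    (Subgroup.commutator_mem_commutator (Subgroup.mem_top e) hx₁C)
  have hDC : D ≤ C := sup_le hUC (Subgroup.zpowers_le.2 hx₂C)
  have hDU : ∀ d ∈ D, ∀ g : S, ⁅d, g⁆ ∈ U := by
    intro d hd g
    have hle : D ≤ (Subgroup.center (S ⧸ U)).comap (QuotientGroup.mk' U) := by
      refine sup_le (fun w hw => ?_) (Subgroup.zpowers_le.2 ?_)
      · rw [Subgroup.mem_comap, QuotientGroup.mk'_apply, (QuotientGroup.eq_one_iff w).2 hw]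
        exact one_mem _
      · exact Subgroup.mem_center_iff.2 fun q => by
          obtain ⟨g, rfl⟩ := QuotientGroup.mk'_surjective U q
          exact (commutator_mem_iff_mk.1 (hx₂c g)).symm
    exact commutator_mem_iff_mk.2 (Subgroup.mem_center_iff.1 (hle hd) _).symm
  have hx₁D : x₁ ∉ D := fun h => hx₂U (by
    show ⁅e, x₁⁆ ∈ U
    rw [← commutatorElement_inv]; exact inv_mem (hDU x₁ h e))
  have hDc : Nat.card D = p ^ 3 := by
    have h1 := mul_card_le_of_lt hS (lt_of_le_of_ne le_sup_left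
      fun h => hx₂U (h ▸ Subgroup.mem_sup_right (Subgroup.mem_zpowers x₂)) : U < D)
    have h2 := mul_card_le_of_lt hS (lt_of_le_of_ne hDC fun h => hx₁D (h ▸ hx₁C))
    rw [hUc, ← pow_succ'] at h1
    rw [hCc, pow_succ' p 3] at h2
    exact le_antisymm (Nat.le_of_mul_le_mul_left h2 hp.pos) h1
  have hCgen : C ≤ D ⊔ Subgroup.zpowers x₁ :=
    le_sup_zpowers_of_relIndex hS hDC (relIndex_of_card hDC hDc hCc) hx₁C hx₁D
  have hN'C : ∀ v ∈ N', v ∈ C → v ∈ U := by
    intro v hv hvC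
    by_contra hvU
    refine heC ?_
    exact (le_sup_zpowers_of_relIndex hS hUN (relIndex_of_card hUN hUc hN'c) hv hvU).trans
      (sup_le hUC (Subgroup.zpowers_le.2 hvC)) heN
  set x₃' := ⁅e, x₂⁆
  have hx₃'U : x₃' ∈ U := by
    show ⁅e, x₂⁆ ∈ U
    rw [← commutatorElement_inv]; exact inv_mem (hx₂c e)
  have hx₃'Z : x₃' ∉ Z := fun h => hx₂U (hN'C x₂ (hnorm x₂ fun u hu => by
    have hle : Z ⊔ Subgroup.zpowers e ≤ (Subgroup.centralizer {QuotientGroup.mk' Z x₂}).comap
        (QuotientGroup.mk' Z) := sup_le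
      (fun w hw => Subgroup.mem_centralizer_singleton_iff.2 (by
        rw [QuotientGroup.mk'_apply, (QuotientGroup.eq_one_iff w).2 hw, one_mul, mul_one]))
      (Subgroup.zpowers_le.2 (Subgroup.mem_centralizer_singleton_iff.2 (commutator_mem_iff_mk.1 h)))
    refine hZE ?_
    rw [← commutatorElement_inv]
    exact inv_mem (commutator_mem_iff_mk.2 (Subgroup.mem_centralizer_singleton_iff.1 (hle (hEgen hu)))))
    hx₂C)
  set z := ⁅e, x₃'⁆
  have hzZ : z ∈ Z := by
    show ⁅e, x₃'⁆ ∈ Z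
    rw [← commutatorElement_inv]; exact inv_mem (hUZ x₃' hx₃'U e)
  have hz1 : z ≠ 1 := fun h => hx₃'Z (by
    have h1 := hcente x₃' (commutatorElement_eq_one_iff_mul_comm.1 h)
    obtain ⟨i, hi⟩ := exists_pow_mem (A := Z) (B := U) le_rfl hx₃'U
    by_contra hne
    have hle : U ≤ E' := (le_sup_zpowers_of_relIndex hS hZU
      (relIndex_of_card hZU (hZc.trans (pow_one p).symm) hUc) hx₃'U hne).trans
      (sup_le hZE (Subgroup.zpowers_le.2 h1))
    exact hx₃E (hle hx₃U))
  have hzo : orderOf z = p := by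
    refine orderOf_eq_prime ?_ hz1
    have := pow_card_eq_one' (x := (⟨z, hzZ⟩ : Z))
    rw [hZc] at this
    exact congrArg Subtype.val this
  have hZz : Z = Subgroup.zpowers z := (Subgroup.eq_of_le_of_card_ge (Subgroup.zpowers_le.2 hzZ)
    (by rw [Nat.card_zpowers, hzo, hZc])).symm
  have hDab : ∀ a ∈ D, ∀ b ∈ D, a * b = b * a := by
    have hle : D ≤ Subgroup.closure ((U : Set S) ∪ {x₂}) := sup_le
      (fun u hu => Subgroup.subset_closure (Or.inl hu))
      (Subgroup.zpowers_le.2 (Subgroup.subset_closure (Or.inr rfl)))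
    refine fun a ha b hb => commute_pair_closure ?_ a (hle ha) b (hle hb)
    rintro a (ha | ha) b (hb | hb)
    · exact hUab a ha b hb
    · rw [Set.mem_singleton_iff.1 hb]; exact Subgroup.mem_centralizer_iff.1 hx₂C a ha
    · rw [Set.mem_singleton_iff.1 ha]; exact (Subgroup.mem_centralizer_iff.1 hx₂C b hb).symm
    · rw [Set.mem_singleton_iff.1 ha, Set.mem_singleton_iff.1 hb]
  have hcx : ⁅x₁, x₂⁆ ∈ Z := by
    set t := ⁅x₁, x₂⁆ with ht
    have htU : t ∈ U := by rw [ht, ← commutatorElement_inv]; exact inv_mem (hx₂c x₁)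
    have htD : t ∈ D := Subgroup.mem_sup_left htU
    have hx₂D : x₂ ∈ D := Subgroup.mem_sup_right (Subgroup.mem_zpowers x₂)
    have e1 : x₁ * x₃' * x₁⁻¹ = x₃' := by
      rw [← Subgroup.mem_centralizer_iff.1 hx₁C x₃' hx₃'U, mul_inv_cancel_right]
    have e2 : x₁ * x₃' * x₁⁻¹ = x₂⁻¹ * ⁅e, t * x₂⁆ * x₂ * ⁅x₂⁻¹, t * x₂⁆ := by
      simp [t, x₃', x₂, commutatorElement_def, mul_assoc]
    have hc1 : ⁅x₂⁻¹, t * x₂⁆ = 1 :=
      commutatorElement_eq_one_iff_mul_comm.2 (hDab _ (inv_mem hx₂D) _ (mul_mem htD hx₂D))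
    have hetU : ⁅e, t⁆ ∈ U := by rw [← commutatorElement_inv]; exact inv_mem (hDU t htD e)
    have hc2 : ⁅e, t * x₂⁆ = ⁅e, t⁆ * x₃' := by
      have : ⁅e, t * x₂⁆ = ⁅e, t⁆ * (t * x₃' * t⁻¹) := by simp [x₃', commutatorElement_def, mul_assoc]
      rw [this, hUab t htU x₃' hx₃'U, mul_inv_cancel_right]
    rw [hc1, mul_one, hc2, e1, mul_assoc x₂⁻¹,
      hDab _ (mul_mem (Subgroup.mem_sup_left hetU) (Subgroup.mem_sup_left hx₃'U)) _ hx₂D,
      inv_mul_cancel_left] at e2
    have hte : e * t = t * e := commutatorElement_eq_one_iff_mul_comm.1 (mul_eq_right.1 e2.symm)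
    have htC : t ∈ C := hUC htU
    obtain ⟨i, hi⟩ := exists_pow_mem (A := Z) hEgen (hcente t hte)
    by_contra htZ
    exact hx₃E (((le_sup_zpowers_of_relIndex hS hZU
      (relIndex_of_card hZU (hZc.trans (pow_one p).symm) hUc) htU htZ).trans
      (sup_le hZE (Subgroup.zpowers_le.2 (hcente t hte)))) hx₃U)
  have hCz : ∀ c ∈ C, ∀ d ∈ C, ⁅c, d⁆ ∈ Z := by
    intro c hc d hd
    have hm : ∀ g ∈ C, QuotientGroup.mk' Z g ∈
        Subgroup.closure (QuotientGroup.mk' Z '' ((U : Set S) ∪ {x₂} ∪ {x₁})) := fun g hg => by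
      rw [← MonoidHom.map_closure]
      refine Subgroup.mem_map_of_mem _ ((hCgen.trans (sup_le (sup_le ?_ ?_) ?_)) hg)
      · exact fun u hu => Subgroup.subset_closure (Or.inl (Or.inl hu))
      · exact Subgroup.zpowers_le.2 (Subgroup.subset_closure (Or.inl (Or.inr rfl)))
      · exact Subgroup.zpowers_le.2 (Subgroup.subset_closure (Or.inr rfl))
    refine commutator_mem_iff_mk.2 (commute_pair_closure ?_ _ (hm c hc) _ (hm d hd))
    rintro _ ⟨a, ha, rfl⟩ _ ⟨b, hb, rfl⟩
    have hsw : ∀ {u v : S}, ⁅u, v⁆ ∈ Z → ⁅v, u⁆ ∈ Z := fun h => by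
      rw [← commutatorElement_inv]; exact inv_mem h
    refine commutator_mem_iff_mk.1 ?_
    rcases ha with (ha | ha) | ha
    · exact hUZ a ha b
    · rw [Set.mem_singleton_iff.1 ha]
      rcases hb with (hb | hb) | hb
      · exact hsw (hUZ b hb _)
      · rw [Set.mem_singleton_iff.1 hb, commutatorElement_self]; exact one_mem _
      · rw [Set.mem_singleton_iff.1 hb]; exact hsw hcx
    · rw [Set.mem_singleton_iff.1 ha]
      rcases hb with (hb | hb) | hb
      · exact hsw (hUZ b hb _)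
      · rw [Set.mem_singleton_iff.1 hb]; exact hcx
      · rw [Set.mem_singleton_iff.1 hb, commutatorElement_self]; exact one_mem _
  have hnc : ⁅x₁, x₂⁆ ≠ 1 := fun h => by
    have h1 : x₁ * x₂ = x₂ * x₁ := commutatorElement_eq_one_iff_mul_comm.1 h
    have hle : C ≤ Subgroup.closure ((D : Set S) ∪ {x₁}) := hCgen.trans (sup_le
      (fun u hu => Subgroup.subset_closure (Or.inl hu))
      (Subgroup.zpowers_le.2 (Subgroup.subset_closure (Or.inr rfl))))
    have hx₁cD : ∀ d ∈ D, x₁ * d = d * x₁ := fun d hd => by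
      have hle' : D ≤ Subgroup.centralizer ({x₁} : Set S) := sup_le
        (fun u hu => Subgroup.mem_centralizer_singleton_iff.2
          (Subgroup.mem_centralizer_iff.1 hx₁C u hu))
        (Subgroup.zpowers_le.2 (Subgroup.mem_centralizer_singleton_iff.2 h1.symm))
      exact (Subgroup.mem_centralizer_singleton_iff.1 (hle' hd)).symm
    have := hH.noAb C fun a ha b hb => commute_pair_closure (by
      rintro a (ha | ha) b (hb | hb)
      · exact hDab a ha b hb
      · rw [Set.mem_singleton_iff.1 hb]; exact (hx₁cD a ha).symm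
      · rw [Set.mem_singleton_iff.1 ha]; exact hx₁cD b hb
      · rw [Set.mem_singleton_iff.1 ha, Set.mem_singleton_iff.1 hb]) a (hle ha) b (hle hb)
    rw [hCc] at this
    exact lt_irrefl _ this
  have hDgen : D ≤ Subgroup.zpowers x₂ ⊔ U := by rw [hD, sup_comm]
  -- characteristic subgroups
  have hUchar : U.Characteristic := by
    refine Subgroup.characteristic_iff_le_comap.2 fun φ u hu => hUiff _ fun g => ?_
    obtain ⟨g, rfl⟩ := φ.surjective g
    show ⁅φ u, φ g⁆ ∈ Z
    rw [← map_commutatorElement]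
    exact (Subgroup.characteristic_iff_le_comap.1 (inferInstance : Z.Characteristic) φ) (hUZ u hu g)
  have hDiff : ∀ v : S, (∀ g, ⁅v, g⁆ ∈ U) → v ∈ D := by
    intro v hv
    by_contra hvD
    have hc : ∀ w : S, (∀ g, ⁅w, g⁆ ∈ U) → QuotientGroup.mk' U w ∈ Subgroup.center (S ⧸ U) :=
      fun w hw => Subgroup.mem_center_iff.2 fun q => by
        obtain ⟨g, rfl⟩ := QuotientGroup.mk'_surjective U q
        exact (commutator_mem_iff_mk.1 (hw g)).symm
    refine hx₂U (commutator_mem_iff_mk.2 ?_)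
    -- the centre of `S/U` contains the image of `D⟨v⟩`, so `S/U` is abelian
    set Q := (Subgroup.center (S ⧸ U)).comap (QuotientGroup.mk' U)
    have hDQ : D < Q := lt_of_le_of_ne (fun d hd => hc d (hDU d hd)) fun h => hvD (h ▸ hc v hv)
    have hQ4 := mul_card_le_of_lt hS hDQ
    rw [hDc, ← pow_succ'] at hQ4
    by_cases hQt : Q = ⊤
    · exact (Subgroup.mem_center_iff.1 (show e ∈ Q from hQt ▸ Subgroup.mem_top e) _).symm
    have hQ5 := mul_card_le_of_lt hS (lt_top_iff_ne_top.2 hQt)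
    rw [Subgroup.card_top, hH.card, pow_succ' p 4] at hQ5
    have hQi : Q.index = p := by
      have h := Q.card_mul_index
      rw [le_antisymm (Nat.le_of_mul_le_mul_left hQ5 hp.pos) hQ4, hH.card, pow_succ p 4] at h
      exact Nat.eq_of_mul_eq_mul_left (pow_pos hp.pos 4) h
    by_cases heQ : e ∈ Q
    · exact (Subgroup.mem_center_iff.1 heQ _).symm
    have htop : Q ⊔ Subgroup.zpowers e = ⊤ := eq_top_of_index_lt hQi
      (lt_of_le_of_ne le_sup_left fun h => heQ (h ▸ Subgroup.mem_sup_right (Subgroup.mem_zpowers e)))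
    have hle : Q ⊔ Subgroup.zpowers e ≤ (Subgroup.centralizer {QuotientGroup.mk' U e}).comap
        (QuotientGroup.mk' U) := sup_le
      (fun w hw => Subgroup.mem_centralizer_singleton_iff.2 (Subgroup.mem_center_iff.1 hw _).symm)
      (Subgroup.zpowers_le.2 (Subgroup.mem_centralizer_singleton_iff.2 rfl))
    exact (Subgroup.mem_centralizer_singleton_iff.1 (hle (htop ▸ Subgroup.mem_top x₁))).symm
  have hDchar : D.Characteristic := by
    refine Subgroup.characteristic_iff_le_comap.2 fun φ d hd => hDiff _ fun g => ?_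
    obtain ⟨g, rfl⟩ := φ.surjective g
    show ⁅φ d, φ g⁆ ∈ U
    rw [← map_commutatorElement]
    exact (Subgroup.characteristic_iff_le_comap.1 hUchar φ) (hDU d hd g)
  have hSD : ∀ a b : S, ⁅a, b⁆ ∈ D := fun a b => hDiff _ fun g => by
    refine commutator_mem_iff_mk.2 ?_
    rw [map_commutatorElement]
    exact (Subgroup.mem_center_iff.1 (commutator_mem_center_of_cube hQc _ _) _).symm
  -- the normalizer of `N₁`
  set N₂' := D ⊔ Subgroup.zpowers e with hN₂'
  have heD : e ∉ D := fun h => heC (hDC h)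
  have hN₂n : ∀ g ∈ N₂', ∀ v ∈ N', g * v * g⁻¹ ∈ N' := by
    have hle : N₂' ≤ Subgroup.normalizer (N' : Set S) := by
      refine sup_le (fun d hd => ?_) (Subgroup.zpowers_le.2 (Subgroup.le_normalizer heN))
      refine Subgroup.mem_normalizer_iff.2 fun v => ?_
      have key : ∀ d ∈ D, ∀ v ∈ N', d * v * d⁻¹ ∈ N' := fun d hd v hv => by
        have := mul_mem (hUN (hDU d hd v)) hv
        rwa [commutatorElement_def, inv_mul_cancel_right] at this
      exact ⟨key d hd v, fun h => by simpa [mul_assoc] using key d⁻¹ (inv_mem hd) _ h⟩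
    exact fun g hg v hv => (Subgroup.mem_normalizer_iff.1 (hle hg) v).1 hv
  have hN'sub : N' ≤ N₂' := hN'gen.trans (sup_le_sup_right le_sup_left _)
  set N₂ := normalizerIn S N₁ with hN₂
  have hN₂S : N₂ ≤ S := normalizerIn_le S N₁
  have hsubN₂ : N₂' ≤ N₂.subgroupOf S := fun g hg =>
    Subgroup.mem_subgroupOf.2 ⟨g.2, Subgroup.mem_normalizer_iff.2 fun v => by
      constructor
      · exact fun hv => hN₂n g hg ⟨v, hN₁S hv⟩ hv
      · intro hv
        have hvS : v ∈ S := by
          have := S.mul_mem (S.mul_mem (S.inv_mem g.2) (hN₁S hv)) g.2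
          simpa [mul_assoc] using this
        have h2 := hN₂n g⁻¹ (inv_mem hg) (g * ⟨v, hvS⟩ * g⁻¹) hv
        have h3 : (⟨v, hvS⟩ : S) ∈ N' := by simpa [mul_assoc] using h2
        exact h3⟩
  have hnorm3 : ∀ T : Subgroup S, T.Normal → Nat.card T = p ^ 3 → T = D := by
    intro T hT hTc
    haveI := hT
    obtain ⟨U', -, hU'n, hU'T, -, -, -, hU'c, -⟩ := CfsgLib.PGroup.exists_normal_index_prime hS T
      (fun h => by rw [h, Subgroup.card_bot] at hTc; exact (Nat.one_lt_pow (by norm_num) hp.one_lt).ne hTc)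
    haveI := hU'n
    rw [hTc, pow_succ' p 2] at hU'c
    have hU'2 : Nat.card U' = p ^ 2 := (Nat.eq_of_mul_eq_mul_left hp.pos hU'c).symm
    obtain ⟨Z', -, hZ'n, hZ'U, -, -, -, hZ'c, -⟩ := CfsgLib.PGroup.exists_normal_index_prime hS U'
      (fun h => by rw [h, Subgroup.card_bot] at hU'2; exact (Nat.one_lt_pow (by norm_num) hp.one_lt).ne hU'2)
    rw [hU'2, pow_two] at hZ'c
    have hZ'p : Nat.card Z' = p := (Nat.eq_of_mul_eq_mul_left hp.pos hZ'c).symm
    have hZ'eq : Z' = Z := Subgroup.eq_of_le_of_card_ge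
      (CfsgLib.FusionExtraspecial.le_center_of_card_eq hS hZ'n hZ'p) (hZc.trans hZ'p.symm).le
    have hU'U : U' = U := Subgroup.eq_of_le_of_card_ge (fun v hv => hUiff v fun g =>
      hZ'eq.le (commutator_mem_of_relIndex hS hU'n hZ'n hZ'U
        (relIndex_of_card hZ'U (hZ'p.trans (pow_one p).symm) hU'2) hv)) (hUc.trans hU'2.symm).le
    subst hU'U
    exact Subgroup.eq_of_le_of_card_ge (fun v hv => hDiff v fun g =>
      commutator_mem_of_relIndex hS hT hU'n hU'T (relIndex_of_card hU'T hU'2 hTc) hv) (hDc.trans hTc.symm).le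
  have hN₂ne : N₂.subgroupOf S ≠ ⊤ := fun h => by
    have hn : N'.Normal := ⟨fun v hv g => by
      have hg : (g : Ω) ∈ N₂ := show g ∈ N₂.subgroupOf S from h ▸ Subgroup.mem_top g
      exact (Subgroup.mem_normalizer_iff.1 hg.2 v).1 hv⟩
    exact heD ((hnorm3 N' hn hN'c).le heN)
  have hN₂'c : Nat.card N₂' = p ^ 4 ∧ N₂.subgroupOf S = N₂' := by
    have h1 := mul_card_le_of_lt hS (lt_of_le_of_ne le_sup_left
      fun h => heD (h ▸ Subgroup.mem_sup_right (Subgroup.mem_zpowers e)) : D < N₂')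
    rw [hDc, ← pow_succ'] at h1
    have h2 := mul_card_le_of_lt hS (lt_top_iff_ne_top.2 hN₂ne)
    rw [Subgroup.card_top, hH.card, pow_succ' p 4] at h2
    have h2' := Nat.le_of_mul_le_mul_left h2 hp.pos
    exact ⟨le_antisymm ((Subgroup.card_le_of_le hsubN₂).trans h2') h1,
      (Subgroup.eq_of_le_of_card_ge hsubN₂ (h2'.trans h1)).symm⟩
  have hN₂c : Nat.card N₂ = p ^ 4 := by rw [← card_subgroupOf hN₂S, hN₂'c.2, hN₂'c.1]
  have hN₁N₂ : N₁ ≤ N₂ := le_normalizerIn hN₁S
  have hfn : F.IsFullyNormalized N₁ := by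
    refine ⟨hN₁S, fun Q hQ => ?_⟩
    have hQS : Q ≤ S := isConj_le_right hQ
    have : Finite Q := finite_of_le hQS
    rw [← hN₂, hN₂c]
    set M := (normalizerIn S Q).subgroupOf S
    by_cases hMt : M = ⊤
    · exfalso
      have hn : (Q.subgroupOf S).Normal := ⟨fun v hv g => by
        have hg : (g : Ω) ∈ normalizerIn S Q := show g ∈ M from hMt ▸ Subgroup.mem_top g
        exact (Subgroup.mem_normalizer_iff.1 hg.2 v).1 hv⟩
      have hQD := hnorm3 _ hn ((card_subgroupOf hQS).trans ((isConj_card_eq hQ).symm.trans hN₁c))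
      obtain ⟨φ, hφ⟩ := exists_iso_of_isConj hQ
      refine hx₃E (hcente x₃ (commutatorElement_eq_one_iff_mul_comm.1 ?_))
      have hc : ∀ a b : N₁, a * b = b * a := fun a b => φ.injective (by
        rw [map_mul, map_mul]
        exact Subtype.ext (congrArg Subtype.val (hDab ⟨φ a, hQS (φ a).2⟩
          (hQD.le (φ a).2) ⟨φ b, hQS (φ b).2⟩ (hQD.le (φ b).2)) :))
      exact commutatorElement_eq_one_iff_mul_comm.2
        (Subtype.ext (congrArg Subtype.val (hc ⟨e, heN⟩ ⟨x₃, hUN hx₃U⟩) :))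
    · have h2 := mul_card_le_of_lt hS (lt_top_iff_ne_top.2 hMt)
      rw [Subgroup.card_top, hH.card, pow_succ' p 4, card_subgroupOf (normalizerIn_le S Q)] at h2
      exact Nat.le_of_mul_le_mul_left h2 hp.pos
  have hinf : N₂' ⊓ C ≤ D := by
    refine (Subgroup.eq_of_le_of_card_ge (le_inf le_sup_left hDC) ?_).ge
    have hlt : N₂' ⊓ C < N₂' := lt_of_le_of_ne inf_le_left fun h =>
      heC (inf_eq_left.1 h (Subgroup.mem_sup_right (Subgroup.mem_zpowers e)))
    have h1 := mul_card_le_of_lt hS hlt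
    rw [hN₂'c.1, pow_succ' p 3] at h1
    rw [hDc]
    exact Nat.le_of_mul_le_mul_left h1 hp.pos
  refine ⟨N₁, N₂, U, D, C, x₁, x₂, x₃', z, hH, hE, hE2, hEN₁, hN₁S, hN₁N₂, hN₂S, rfl, rfl,
    isCentric_mono hE.1 hEN₁ hN₁S, hfn,
    { normU := hUn, normD := hDn, C_def := rfl, U_le_D := le_sup_left, D_le_C := hDC, D_le := hDgen,
      comm_U := fun u hu g => hZz ▸ hUZ u hu g, comm_D := hDU,
      comm_C := fun c hc d hd => hZz ▸ hCz c hc d hd, x₁_mem := hx₁C,
      x₂_mem := Subgroup.mem_sup_right (Subgroup.mem_zpowers x₂), x₃_mem := hx₃'U, x₂_def := rfl,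
      x₃_def := rfl, z_def := rfl, z_mem := hZU hzZ, z_central := hzZ, z_order := hzo, noncomm := hnc },
    he, hZE hzZ, hZz, heC, hUc, hDc, hN₁c, hN₂c, hUN, hN₂'c.2 ▸ le_sup_left, hN₂'c.2 ▸ hinf, hCgen,
    hx₁D, hSD, hUchar, hDchar, hgen, fun h => hx₃'Z (hZz ▸ h), hx₂U⟩

end CfsgLib.FusionPFive
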