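import Cfsg.Agent.Lib.FusionPFive.Tools
import Cfsg.Agent.Lib.Fusion.Normal
import Mathlib.GroupTheory.IndexNormal

/-!
Common setting for fusion systems on groups of order `p⁵`: series pulled back from `S`, extension of
automorphisms up to `S`, congruence modulo a normal subgroup with abelian quotient.
-/

set_option autoImplicit false

open Cfsg Cfsg.FusionSystem CfsgLib.Fusion
open scoped commutatorElement

namespace CfsgLib.FusionPFive

/-- The running hypotheses. -/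
structure Hyp {Ω : Type*} [Group Ω] (p : ℕ) {S : Subgroup Ω} (F : Cfsg.FusionSystem S) : Prop where
  isP : IsPGroup p S
  sat : F.IsSaturated p
  card : Nat.card S = p ^ 5
  noAb : NoAb p S
  ne_two : p ≠ 2

section Groups

variable {G : Type*} [Group G] {p : ℕ} [hp : Fact p.Prime]

theorem cast_pred : ((p - 1 : ℕ) : ZMod p) = -1 := by
  rw [Nat.cast_sub hp.out.one_le, ZMod.natCast_self, Nat.cast_one, zero_sub]

theorem neg_one_ne_one (h2 : p ≠ 2) : (-1 : ZMod p) ≠ 1 := by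
  intro h
  have h' : ((2 : ℕ) : ZMod p) = 0 := by
    push_cast
    linear_combination -h
  exact h2 ((Nat.prime_dvd_prime_iff_eq hp.out Nat.prime_two).1 ((ZMod.natCast_eq_zero_iff 2 p).1 h'))

theorem eq_three_of_sq (h : ((2 : ℕ) : ZMod p) ^ 2 = 1) : p = 3 := by
  have h' : ((3 : ℕ) : ZMod p) = 0 := by
    push_cast at h ⊢
    linear_combination h
  exact (Nat.prime_dvd_prime_iff_eq hp.out Nat.prime_three).1 ((ZMod.natCast_eq_zero_iff 3 p).1 h')

theorem pow_cast_eq {x : G} (hx : x ^ p = 1) {i j : ℕ} (h : (i : ZMod p) = j) : x ^ i = x ^ j := by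
  rw [pow_eq_pow_mod i hx, pow_eq_pow_mod j hx, (ZMod.natCast_eq_natCast_iff' i j p).1 h]

theorem pow_pred {x : G} (hx : x ^ p = 1) : x ^ (p - 1) = x⁻¹ := by
  refine eq_inv_of_mul_eq_one_left ?_
  rw [← pow_succ, Nat.sub_add_cancel hp.out.one_le, hx]

variable [Finite G]

theorem relIndex_of_card {A B : Subgroup G} (hAB : A ≤ B) {i : ℕ} (hA : Nat.card A = p ^ i)
    (hB : Nat.card B = p ^ (i + 1)) : A.relIndex B = p := by
  have h := (A.subgroupOf B).card_mul_index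
  rw [Nat.card_congr (Subgroup.subgroupOfEquivOfLe hAB).toEquiv, hA, hB, pow_succ] at h
  exact Nat.eq_of_mul_eq_mul_left (pow_pos hp.out.pos i) h

theorem index_of_card (hc : Nat.card G = p ^ 5) {A : Subgroup G} {i : ℕ} (hi : i ≤ 5)
    (hA : Nat.card A = p ^ i) : A.index = p ^ (5 - i) := by
  have h := A.card_mul_index
  rw [hA, hc, show p ^ 5 = p ^ i * p ^ (5 - i) by rw [← pow_add, Nat.add_sub_cancel' hi]] at h
  exact Nat.eq_of_mul_eq_mul_left (pow_pos hp.out.pos i) h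

theorem normal_of_card (hc : Nat.card G = p ^ 5) {A : Subgroup G} (hA : Nat.card A = p ^ 4) :
    A.Normal := by
  refine Subgroup.normal_of_index_eq_minFac_card ?_
  rw [index_of_card hc (by omega) hA, hc, Nat.Prime.pow_minFac hp.out (by omega), pow_one]

omit [Finite G] hp in
theorem pow_mem_of_relIndex {A B : Subgroup G} [A.Normal] (h : A.relIndex B = p) {x : G} (hx : x ∈ B) :
    x ^ p ∈ A := by
  have := Subgroup.pow_index_mem (A.subgroupOf B) (⟨x, hx⟩ : B)
  rwa [show (A.subgroupOf B).index = p from h] at this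

/-- Every element is congruent to a power of a generator of a factor of order `p`. -/
theorem exists_pow_mem {A B : Subgroup G} [A.Normal] {y : G} (hB : B ≤ A ⊔ Subgroup.zpowers y) {g : G}
    (hg : g ∈ B) : ∃ b : ℕ, (y ^ b)⁻¹ * g ∈ A := by
  obtain ⟨b, hb : QuotientGroup.mk' A y ^ b = QuotientGroup.mk' A g⟩ :=
    (isOfFinOrder_of_finite _).mem_powers_iff_mem_zpowers.2 (mem_sup_iff_mk.1 (hB hg))
  rw [← map_pow, mk_eq] at hb
  exact ⟨b, hb⟩

theorem le_sup_zpowers_of_relIndex (hG : IsPGroup p G) {A B : Subgroup G} (hAB : A ≤ B)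
    (hi : A.relIndex B = p) {y : G} (hy : y ∈ B) (hyA : y ∉ A) : B ≤ A ⊔ Subgroup.zpowers y := by
  have hle : A ⊔ Subgroup.zpowers y ≤ B := sup_le hAB (Subgroup.zpowers_le.2 hy)
  refine (Subgroup.eq_of_le_of_card_ge hle ?_).ge
  have h := mul_card_le_of_lt hG (lt_of_le_of_ne le_sup_left
    fun e => hyA (e ▸ Subgroup.mem_sup_right (Subgroup.mem_zpowers y)) : A < A ⊔ Subgroup.zpowers y)
  have h' := (A.subgroupOf B).card_mul_index
  rw [Nat.card_congr (Subgroup.subgroupOfEquivOfLe hAB).toEquiv,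
    show (A.subgroupOf B).index = p from hi] at h'
  rwa [← h', mul_comm]

end Groups

variable {Ω : Type*} [Group Ω] {S : Subgroup Ω} {p : ℕ} {F : Cfsg.FusionSystem S}
variable {P Q : Subgroup Ω}

/-- `P` as a subgroup of `S`, by inclusion. -/
abbrev incl (hPS : P ≤ S) : P →* S := Subgroup.inclusion hPS

theorem incl_injective (hPS : P ≤ S) : Function.Injective (incl hPS) :=
  Subgroup.inclusion_injective hPS

theorem range_incl (hPS : P ≤ S) : (incl hPS).range = P.subgroupOf S := by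
  ext s
  exact ⟨by rintro ⟨u, rfl⟩; exact u.2, fun h => ⟨⟨s, h⟩, rfl⟩⟩

theorem incl_mem (hPS : P ≤ S) (u : P) : incl hPS u ∈ P.subgroupOf S := u.2

/-- The trace on `P` of a subgroup of `S`. -/
def pb (hPS : P ≤ S) (T : Subgroup S) : Subgroup P := T.comap (incl hPS)

theorem mem_pb {hPS : P ≤ S} {T : Subgroup S} {u : P} : u ∈ pb hPS T ↔ incl hPS u ∈ T := Iff.rfl

instance pb_normal (hPS : P ≤ S) (T : Subgroup S) [T.Normal] : (pb hPS T).Normal :=
  Subgroup.Normal.comap inferInstance _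

theorem map_pb (hPS : P ≤ S) {T : Subgroup S} (hT : T ≤ P.subgroupOf S) :
    (pb hPS T).map (incl hPS) = T := by
  rw [pb, Subgroup.map_comap_eq, range_incl, inf_eq_right.2 hT]

theorem card_pb (hPS : P ≤ S) {T : Subgroup S} (hT : T ≤ P.subgroupOf S) :
    Nat.card (pb hPS T) = Nat.card T := by
  conv_rhs => rw [← map_pb hPS hT]
  rw [Subgroup.card_map_of_injective (incl_injective hPS)]

theorem relIndex_pb (hPS : P ≤ S) {T T' : Subgroup S} (hT : T' ≤ P.subgroupOf S) :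
    (pb hPS T).relIndex (pb hPS T') = T.relIndex T' := by
  conv_rhs => rw [← map_pb hPS hT]
  exact Subgroup.relIndex_comap T (incl hPS) (pb hPS T')

theorem pb_top (hPS : P ≤ S) {T : Subgroup S} (hT : P.subgroupOf S ≤ T) : pb hPS T = ⊤ :=
  eq_top_iff.2 fun u _ => hT (incl_mem hPS u)

theorem card_subgroupOf (hPS : P ≤ S) : Nat.card (P.subgroupOf S) = Nat.card P :=
  Nat.card_congr (Subgroup.subgroupOfEquivOfLe hPS).toEquiv

theorem mk_mem_zpowers_iff (hPS : P ≤ S) {W : Subgroup S} [W.Normal] (x : P) {u : P} :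
    QuotientGroup.mk' (pb hPS W) u ∈ Subgroup.zpowers (QuotientGroup.mk' (pb hPS W) x) ↔
      incl hPS u ∈ W ⊔ Subgroup.zpowers (incl hPS x) := by
  rw [mem_sup_iff_mk, Subgroup.mem_zpowers_iff, Subgroup.mem_zpowers_iff]
  refine exists_congr fun i => ?_
  rw [← map_zpow, ← map_zpow, mk_eq, mk_eq, mem_pb, map_mul, map_inv, map_zpow]

/-- An automorphism mapping generators of a trace into it preserves the trace. -/
theorem map_mem_pb_of (hPS : P ≤ S) {A T : Subgroup S} (hT : T ≤ P.subgroupOf S) {x : P}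
    (hTA : T = A ⊔ Subgroup.zpowers (incl hPS x)) (α : MulAut P)
    (hA : ∀ u ∈ pb hPS A, α u ∈ pb hPS T) (hx : α x ∈ pb hPS T) :
    ∀ u ∈ pb hPS T, α u ∈ pb hPS T := by
  intro u hu
  have hle : T ≤ ((pb hPS T).comap α.toMonoidHom).map (incl hPS) := by
    conv_lhs => rw [hTA]
    refine sup_le (fun s hs => ?_) (Subgroup.zpowers_le.2 ⟨x, hx, rfl⟩)
    have hsP : s ∈ P.subgroupOf S := hT (hTA ▸ Subgroup.mem_sup_left hs)
    exact ⟨⟨s, hsP⟩, hA _ (show incl hPS ⟨s, hsP⟩ ∈ A from hs), rfl⟩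
  obtain ⟨v, hv, hvu⟩ := hle hu
  exact incl_injective hPS hvu ▸ hv

/-- `β` restricts to `α`. -/
def Agree (hPQ : P ≤ Q) (α : MulAut P) (β : MulAut Q) : Prop :=
  ∀ x : P, β (Subgroup.inclusion hPQ x) = Subgroup.inclusion hPQ (α x)

theorem Agree.trans {R : Subgroup Ω} {hPQ : P ≤ Q} {hQR : Q ≤ R} {α : MulAut P} {β : MulAut Q}
    {γ : MulAut R} (h : Agree hPQ α β) (h' : Agree hQR β γ) : Agree (hPQ.trans hQR) α γ := fun x =>
  (h' (Subgroup.inclusion hPQ x)).trans (congrArg (Subgroup.inclusion hQR) (h x))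

theorem Agree.map_pb {hPS : P ≤ S} {α : MulAut P} {γ : MulAut S} (h : Agree hPS α γ) {T : Subgroup S}
    (hT : T ≤ P.subgroupOf S) (hα : ∀ u ∈ pb hPS T, α u ∈ pb hPS T) : ∀ s ∈ T, γ s ∈ T := by
  intro s hs
  have := hα ⟨s, hT hs⟩ hs
  rw [mem_pb, ← h] at this
  exact this

/-- Subgroups stable under conjugation by `N_S(P)` are preserved by `Aut_S(P)`. -/
theorem autInducedBy_le_preserve (hPS : P ≤ S) [Finite P] {s : ℕ → Subgroup P}
    (h : ∀ g (hg : g ∈ Subgroup.normalizer (P : Set Ω)), g ∈ S → ∀ i, ∀ u ∈ s i,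
      conjAut P g hg u ∈ s i) :
    autInducedBy S P ≤ preserve (F.autGroup P) s := by
  intro a ha
  obtain ⟨g, hg, hgS, rfl⟩ := exists_eq_conjAut ha
  exact mem_preserve_of_le (autInducedBy_le_autGroup F hPS (conjAut_mem_autInducedBy hgS hg))
    (h g hg hgS)

theorem conjAut_mem_pb (hPS : P ≤ S) {T : Subgroup S} [hT : T.Normal] {g : Ω}
    (hg : g ∈ Subgroup.normalizer (P : Set Ω)) (hgS : g ∈ S) :
    ∀ u ∈ pb hPS T, conjAut P g hg u ∈ pb hPS T :=
  fun u hu => hT.conj_mem (incl hPS u) hu (⟨g, hgS⟩ : S)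

theorem incl_conjAut (hPS : P ≤ S) {g : Ω} (hg : g ∈ Subgroup.normalizer (P : Set Ω)) (hgS : g ∈ S)
    (u : P) : incl hPS (conjAut P g hg u) = (⟨g, hgS⟩ : S) * incl hPS u * (⟨g, hgS⟩ : S)⁻¹ := rfl

theorem incl_inv_mul_conjAut (hPS : P ≤ S) {g : Ω} (hg : g ∈ Subgroup.normalizer (P : Set Ω))
    (hgS : g ∈ S) (u : P) :
    incl hPS (u⁻¹ * conjAut P g hg u) = ⁅(incl hPS u)⁻¹, (⟨g, hgS⟩ : S)⁆ := by
  rw [map_mul, map_inv, incl_conjAut hPS hg hgS, commutatorElement_def, inv_inv]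
  group

theorem autInducedBy_le_preserve_chain (hPS : P ≤ S) [Finite P] (A B C : Subgroup S) [A.Normal]
    [B.Normal] [C.Normal] :
    autInducedBy S P ≤ preserve (F.autGroup P) (chain (pb hPS A) (pb hPS B) (pb hPS C)) :=
  autInducedBy_le_preserve hPS fun g hg hgS =>
    forall_chain (q := fun T => ∀ u ∈ T, conjAut P g hg u ∈ T) (fun _ _ => Subgroup.mem_top _)
      (conjAut_mem_pb hPS hg hgS) (conjAut_mem_pb hPS hg hgS) (conjAut_mem_pb hPS hg hgS)
      (fun u hu => by rw [Subgroup.mem_bot] at hu ⊢; rw [hu, map_one])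

theorem chain_invariant {A B C : Subgroup P} {α : MulAut P} (hA : ∀ u ∈ A, α u ∈ A)
    (hB : ∀ u ∈ B, α u ∈ B) (hC : ∀ u ∈ C, α u ∈ C) : ∀ i, ∀ u ∈ chain A B C i, α u ∈ chain A B C i :=
  forall_chain (q := fun T => ∀ u ∈ T, α u ∈ T) (fun _ _ => Subgroup.mem_top _) hA hB hC
    (fun u hu => by rw [Subgroup.mem_bot] at hu ⊢; rw [hu, map_one])

theorem chain_factors4 {A B C : Subgroup P} (h1 : A.index = p) (h2 : B ≤ A) (h2' : B.relIndex A = p)
    (h3 : C ≤ B) (h3' : C.relIndex B = p) (h4 : Nat.card C = p) :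
    ∀ i < 4, chain A B C (i + 1) ≤ chain A B C i ∧
      (chain A B C (i + 1)).relIndex (chain A B C i) = p := fun
  | 0, _ => ⟨le_top, by rw [show chain A B C 0 = ⊤ from rfl, Subgroup.relIndex_top_right]; exact h1⟩
  | 1, _ => ⟨h2, h2'⟩
  | 2, _ => ⟨h3, h3'⟩
  | 3, _ => ⟨bot_le, by rw [show chain A B C (3 + 1) = ⊥ from rfl, Subgroup.relIndex_bot_left]; exact h4⟩
  | i + 4, h => absurd h (by omega)

theorem chain_factors3 {A B : Subgroup P} (h1 : A.index = p) (h2 : B ≤ A) (h2' : B.relIndex A = p)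
    (h4 : Nat.card B = p) :
    ∀ i < 3, chain A B ⊥ (i + 1) ≤ chain A B ⊥ i ∧
      (chain A B ⊥ (i + 1)).relIndex (chain A B ⊥ i) = p := fun
  | 0, _ => ⟨le_top, by rw [show chain A B ⊥ 0 = ⊤ from rfl, Subgroup.relIndex_top_right]; exact h1⟩
  | 1, _ => ⟨h2, h2'⟩
  | 2, _ => ⟨bot_le, by rw [show chain A B ⊥ (2 + 1) = ⊥ from rfl, Subgroup.relIndex_bot_left]; exact h4⟩
  | i + 3, h => absurd h (by omega)

theorem chain_factors2 {A : Subgroup P} (h1 : A.index = p) (h4 : Nat.card A = p) :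
    ∀ i < 2, chain A ⊥ ⊥ (i + 1) ≤ chain A ⊥ ⊥ i ∧
      (chain A ⊥ ⊥ (i + 1)).relIndex (chain A ⊥ ⊥ i) = p := fun
  | 0, _ => ⟨le_top, by rw [show chain A ⊥ ⊥ 0 = ⊤ from rfl, Subgroup.relIndex_top_right]; exact h1⟩
  | 1, _ => ⟨bot_le, by rw [show chain A ⊥ ⊥ (1 + 1) = ⊥ from rfl, Subgroup.relIndex_bot_left]; exact h4⟩
  | i + 2, h => absurd h (by omega)

theorem normalizerIn_eq_of_normal (hn : (P.subgroupOf S).Normal) (hPS : P ≤ S) :
    normalizerIn S P = S := by
  refine inf_eq_left.2 fun g hg => Subgroup.mem_normalizer_iff.2 fun n => ⟨fun h => ?_, fun h => ?_⟩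
  · exact hn.conj_mem ⟨n, hPS h⟩ h ⟨g, hg⟩
  · have := hn.conj_mem ⟨g * n * g⁻¹, hPS h⟩ h (⟨g, hg⟩ : S)⁻¹
    simpa [Subgroup.mem_subgroupOf, mul_assoc] using this

theorem isFullyNormalized_of_normalizerIn [Finite S] (F : Cfsg.FusionSystem S) (hPS : P ≤ S)
    (h : normalizerIn S P = S) : F.IsFullyNormalized P :=
  ⟨hPS, fun R _ => by rw [h]; exact Subgroup.card_le_of_le (normalizerIn_le S R)⟩

variable [Fact p.Prime] [Finite S]

/-- Extension along `hQ : N_S(P) = Q`. -/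
theorem exists_extend (hS : IsPGroup p S) (hF : F.IsSaturated p) (hPc : F.IsCentric P)
    (hPn : F.IsFullyNormalized P) (hPQ : P ≤ Q) (hQ : normalizerIn S P = Q) {s : ℕ → Subgroup P}
    {n : ℕ} (h0 : s 0 = ⊤) (hn : s n = ⊥) (hA : autInducedBy S P ≤ preserve (F.autGroup P) s)
    (hf : ∀ i < n, s (i + 1) ≤ s i ∧ (s (i + 1)).relIndex (s i) = p)
    {α : MulAut P} (hα : α ∈ F.autGroup P) (hinv : ∀ i, ∀ x ∈ s i, α x ∈ s i) :
    ∃ β ∈ F.autGroup Q, Agree hPQ α β := by
  have : Finite P := finite_of_le hPc.1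
  subst hQ
  obtain ⟨β, hβ, h⟩ := exists_extension_of_preserve hS hF hPc hPn h0 hn hA hf
    (mem_preserve_of_le hα hinv)
  exact ⟨β, hβ, fun x => Subtype.ext (h (Subgroup.inclusion hPQ x) x.2)⟩

/-- A normal subgroup with abelian quotient such that every `F`-automorphism of `S` acts trivially
on the quotient. -/
structure Good (F : Cfsg.FusionSystem S) (V : Subgroup S) : Prop where
  comm : ∀ a b : S, ⁅a, b⁆ ∈ V
  inv : ∀ γ ∈ F.autGroup S, ∀ g : S, g⁻¹ * γ g ∈ V

variable {V : Subgroup S}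

omit [Fact p.Prime] [Finite S] in
theorem Good.normal (hV : Good F V) : V.Normal := ⟨fun v hv g => by
  have := mul_mem (hV.comm g v) hv
  rwa [commutatorElement_def, inv_mul_cancel_right] at this⟩

theorem Good.mem_of_sq (hH : Hyp p F) (hV : Good F V) {g : S} (h : g * g ∈ V) : g ∈ V := by
  have hp : p.Prime := Fact.out
  have := hV
  obtain ⟨k, hk⟩ : Odd (p ^ 5) := (hp.odd_of_ne_two hH.ne_two).pow
  have h1 : g ^ (2 * k + 1) = 1 := by
    rw [← hk, ← hH.card]; exact pow_card_eq_one'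
  have h2 : g = (g * g) ^ (k + 1) := by
    rw [← pow_two, ← pow_mul, show 2 * (k + 1) = 2 * k + 1 + 1 by ring, pow_succ, h1, one_mul]
  rw [h2]
  exact pow_mem h _

/-- `α` is trivial modulo `V`. -/
def Cong (hPS : P ≤ S) (V : Subgroup S) (α : MulAut P) : Prop :=
  ∀ u : P, (incl hPS u)⁻¹ * incl hPS (α u) ∈ V

omit [Fact p.Prime] [Finite S] in
theorem Cong.of_agree (hPQ : P ≤ Q) (hQS : Q ≤ S) {α : MulAut P} {β : MulAut Q} (h : Agree hPQ α β)
    (hβ : Cong hQS V β) : Cong (hPQ.trans hQS) V α := fun u => by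
  have h1 := hβ (Subgroup.inclusion hPQ u)
  rw [h u] at h1
  exact h1

omit [Fact p.Prime] [Finite S] in
theorem Good.cong_of_agree (hV : Good F V) {hPS : P ≤ S} {α : MulAut P} {γ : MulAut S}
    (hγ : γ ∈ F.autGroup S) (h : Agree hPS α γ) : Cong hPS V α := fun u => by
  have h1 := hV.inv γ hγ (incl hPS u)
  rwa [h u] at h1

/-- The automorphisms trivial modulo `V`. -/
def congSub (hPS : P ≤ S) (V : Subgroup S) : Subgroup (MulAut P) where
  carrier := {α | Cong hPS V α}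
  one_mem' := fun u => by simp
  mul_mem' := fun {α β} hα hβ u => by
    have := mul_mem (hβ u) (hα (β u))
    rwa [mul_assoc, mul_inv_cancel_left] at this
  inv_mem' := fun {α} hα u => by
    have := inv_mem (hα (α⁻¹ u))
    rwa [MulAut.apply_inv_self, mul_inv_rev, inv_inv] at this

omit [Fact p.Prime] [Finite S] in
theorem mem_congSub {hPS : P ≤ S} {α : MulAut P} : α ∈ congSub hPS V ↔ Cong hPS V α := Iff.rfl

/-- If an automorphism inverts `u` modulo `V` and is trivial modulo `V`, then `u` lies in `V`. -/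
theorem Good.mem_of_inverted (hH : Hyp p F) (hV : Good F V) {hPS : P ≤ S} {α : MulAut P}
    (hα : Cong hPS V α) {u : P} (h : incl hPS (α u) * incl hPS u ∈ V) : incl hPS u ∈ V := by
  have := hV.normal
  refine hV.mem_of_sq hH ?_
  have h3 := mul_mem h (this.conj_mem _ (inv_mem (hα u)) (incl hPS u)⁻¹)
  convert h3 using 1
  group

end CfsgLib.FusionPFive
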