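import Cfsg.Agent.Lib.FusionPFive.Group
import Cfsg.Agent.Lib.FusionIndexP.Essential
import Cfsg.Agent.Lib.Fusion.Stability
import Cfsg.Agent.Lib.Fusion.Centric

/-!
Stabilizers of flags in automorphism groups of fusion systems, extension of automorphisms to
normalizers, and diagonal elements generated by transvections on a group of order `p²`.
-/

set_option autoImplicit false

open Cfsg Cfsg.FusionSystem CfsgLib.Fusion

namespace CfsgLib.FusionPFive

section Disp

variable {P : Type*} [Group P]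

/-- The elements of `G` preserving every term of a series. -/
def preserve (G : Subgroup (MulAut P)) (s : ℕ → Subgroup P) : Subgroup (MulAut P) where
  carrier := {α | α ∈ G ∧ ∀ i, ∀ x ∈ s i, α x ∈ s i ∧ α⁻¹ x ∈ s i}
  one_mem' := ⟨one_mem _, fun i x hx => ⟨by simpa using hx, by simpa using hx⟩⟩
  mul_mem' := fun {α β} hα hβ => ⟨mul_mem hα.1 hβ.1, fun i x hx => by
    refine ⟨(hα.2 i _ (hβ.2 i x hx).1).1, ?_⟩
    rw [mul_inv_rev, MulAut.mul_apply]
    exact (hβ.2 i _ (hα.2 i x hx).2).2⟩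
  inv_mem' := fun {α} hα => ⟨inv_mem hα.1, fun i x hx => ⟨(hα.2 i x hx).2, by
    rw [inv_inv]; exact (hα.2 i x hx).1⟩⟩

theorem mem_preserve {G : Subgroup (MulAut P)} {s : ℕ → Subgroup P} {α : MulAut P} :
    α ∈ preserve G s ↔ α ∈ G ∧ ∀ i, ∀ x ∈ s i, α x ∈ s i ∧ α⁻¹ x ∈ s i := Iff.rfl

/-- In a finite group it is enough to preserve the terms in one direction. -/
theorem mem_preserve_of_le [Finite P] {G : Subgroup (MulAut P)} {s : ℕ → Subgroup P} {α : MulAut P}
    (hα : α ∈ G) (h : ∀ i, ∀ x ∈ s i, α x ∈ s i) : α ∈ preserve G s := by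
  refine ⟨hα, fun i x hx => ⟨h i x hx, ?_⟩⟩
  have heq : (s i).map α.toMonoidHom = s i :=
    Subgroup.eq_of_le_of_card_ge (by rintro _ ⟨y, hy, rfl⟩; exact h i y hy)
      (Subgroup.card_map_of_injective (f := α.toMonoidHom) α.injective).ge
  obtain ⟨y, hy, rfl⟩ := heq.ge hx
  simpa using hy

/-- The stabiliser of a series. -/
def disp (G : Subgroup (MulAut P)) (s : ℕ → Subgroup P) (n : ℕ) : Subgroup (MulAut P) where
  carrier := {α | α ∈ preserve G s ∧ ∀ i < n, ∀ x ∈ s i, x⁻¹ * α x ∈ s (i + 1)}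
  one_mem' := ⟨one_mem _, fun i _ x _ => by simp⟩
  mul_mem' := fun {α β} hα hβ => ⟨mul_mem hα.1 hβ.1, fun i hi x hx => by
    have := mul_mem (hβ.2 i hi x hx) (hα.2 i hi (β x) (hβ.1.2 i x hx).1)
    simpa [mul_assoc] using this⟩
  inv_mem' := fun {α} hα => ⟨inv_mem hα.1, fun i hi x hx => by
    have := inv_mem (hα.2 i hi (α⁻¹ x) (hα.1.2 i x hx).2)
    simpa using this⟩

theorem mem_disp {G : Subgroup (MulAut P)} {s : ℕ → Subgroup P} {n : ℕ} {α : MulAut P} :
    α ∈ disp G s n ↔ α ∈ preserve G s ∧ ∀ i < n, ∀ x ∈ s i, x⁻¹ * α x ∈ s (i + 1) := Iff.rfl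

theorem conj_mem_disp {G : Subgroup (MulAut P)} {s : ℕ → Subgroup P} {n : ℕ} {α γ : MulAut P}
    (hγ : γ ∈ preserve G s) (hα : α ∈ disp G s n) : γ * α * γ⁻¹ ∈ disp G s n := by
  refine ⟨mul_mem (mul_mem hγ hα.1) (inv_mem hγ), fun i hi x hx => ?_⟩
  have := (hγ.2 (i + 1) _ (hα.2 i hi (γ⁻¹ x) (hγ.2 i x hx).2)).1
  simpa using this

theorem isPGroup_disp [Finite P] {p : ℕ} [Fact p.Prime] (hP : IsPGroup p P)
    (G : Subgroup (MulAut P)) (s : ℕ → Subgroup P) (n : ℕ) (h0 : s 0 = ⊤) (hn : s n = ⊥) :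
    IsPGroup p (disp G s n) := by
  have : Finite (MulAut P) := finite_mulAut
  refine Stability.isPGroup_of_coprime_eq_one fun α hα => Subtype.ext (MulEquiv.ext fun x => ?_)
  exact Stability.eq_self_of_series hP _ (by rw [Subgroup.orderOf_coe]; exact hα) s n hn
    (fun i hi y hy => α.2.2 i hi y hy) 0 (Nat.zero_le n) x (h0 ▸ Subgroup.mem_top x)

/-- A series of length four. -/
def chain (A B C : Subgroup P) : ℕ → Subgroup P
  | 0 => ⊤
  | 1 => A
  | 2 => B
  | 3 => C
  | _ + 4 => ⊥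

theorem forall_chain {A B C : Subgroup P} {q : Subgroup P → Prop} (ht : q ⊤) (ha : q A) (hb : q B)
    (hc : q C) (hbot : q ⊥) : ∀ i, q (chain A B C i) := fun i => match i with
  | 0 => ht
  | 1 => ha
  | 2 => hb
  | 3 => hc
  | _ + 4 => hbot

end Disp

variable {Ω : Type*} [Group Ω] {S : Subgroup Ω} {p : ℕ} [Fact p.Prime] {F : Cfsg.FusionSystem S}
variable [Finite S] {P : Subgroup Ω}

/-- Conjugations by the normalizer act trivially on invariant factors of order `p`. -/
theorem autInducedBy_le_disp (hS : IsPGroup p S) (hPS : P ≤ S) {s : ℕ → Subgroup P} {n : ℕ}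
    (hs : autInducedBy S P ≤ preserve (F.autGroup P) s)
    (hf : ∀ i < n, s (i + 1) ≤ s i ∧ (s (i + 1)).relIndex (s i) = p) :
    autInducedBy S P ≤ disp (F.autGroup P) s n := by
  intro α hα
  refine ⟨hs hα, fun i hi x hx => ?_⟩
  obtain ⟨g, hg, hgS, rfl⟩ := exists_eq_conjAut hα
  set N := normalizerIn S P with hN
  have hPN : P ≤ N := le_normalizerIn hPS
  have : Finite N := finite_of_le (normalizerIn_le S P)
  have hNp : IsPGroup p N := hS.to_le (normalizerIn_le S P)
  have hnorm : ∀ j, (((s j).map P.subtype).subgroupOf N).Normal := by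
    refine fun j => ⟨fun u hu k => ?_⟩
    obtain ⟨v, hv, hvu⟩ := (Subgroup.mem_subgroupOf.1 hu)
    have hk := (hs (conjAut_mem_autInducedBy (P := P) k.2.1 k.2.2)).2 j v hv
    refine Subgroup.mem_subgroupOf.2 ⟨_, hk.1, ?_⟩
    show (k : Ω) * v * (k : Ω)⁻¹ = _
    rw [show (v : Ω) = u from hvu]
    rfl
  have hle : ((s (i + 1)).map P.subtype).subgroupOf N ≤ ((s i).map P.subtype).subgroupOf N :=
    Subgroup.comap_mono (Subgroup.map_mono (hf i hi).1)
  have hrel : (((s (i + 1)).map P.subtype).subgroupOf N).relIndex (((s i).map P.subtype).subgroupOf N) = p := by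
    rw [Subgroup.relIndex_subgroupOf ((Subgroup.map_subtype_le _).trans hPN),
      Subgroup.relIndex_map_map_of_injective _ _ P.subtype_injective, (hf i hi).2]
  have h := commutator_mem_of_relIndex hNp (hnorm i) (hnorm (i + 1)) hle hrel
    (g := (⟨g, hgS, hg⟩ : N)) (u := (⟨x, hPN x.2⟩ : N)⁻¹)
    (Subgroup.inv_mem _ (Subgroup.mem_subgroupOf.2 ⟨x, hx, rfl⟩))
  obtain ⟨v, hv, hvx⟩ := Subgroup.mem_subgroupOf.1 h
  have heq : x⁻¹ * conjAut P g hg x = v := Subtype.ext (by
    rw [show (v : Ω) = _ from hvx]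
    simp [commutatorElement_def, conjAut_apply, mul_assoc])
  rw [heq]
  exact hv

/-- For a fully normalized subgroup the stabiliser of an invariant flag is `Aut_S(P)`. -/
theorem disp_eq_autInducedBy (hS : IsPGroup p S) (hF : F.IsSaturated p) (hPn : F.IsFullyNormalized P)
    {s : ℕ → Subgroup P} {n : ℕ} (h0 : s 0 = ⊤) (hn : s n = ⊥)
    (hA : autInducedBy S P ≤ disp (F.autGroup P) s n) :
    disp (F.autGroup P) s n = autInducedBy S P := by
  have hPS : P ≤ S := hPn.1
  have : Finite P := finite_of_le hPS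
  have : Finite (MulAut P) := finite_mulAut
  set G := F.autGroup P
  obtain ⟨-, T, hT⟩ := isFullyAutomized_of_isFullyNormalized hS hF hPn
  set Q := disp G s n
  have hQG : Q ≤ G := fun a ha => ha.1.1
  have hQ' : IsPGroup p (Q.subgroupOf G) :=
    IsPGroup.comap_subtype (isPGroup_disp (hS.to_le hPS) G s n h0 hn)
  have := T.3 hQ' (hT.trans_le (Subgroup.comap_mono hA))
  rw [hT] at this
  refine le_antisymm (fun a ha => ?_) hA
  have h1 : (⟨a, hQG ha⟩ : G) ∈ Q.subgroupOf G := ha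
  rw [this] at h1
  exact h1

/-- An automorphism normalizing `Aut_S(P)` extends to the normalizer. -/
theorem exists_extension (hS : IsPGroup p S) (hF : F.IsSaturated p) (hPc : F.IsCentric P)
    {α : MulAut P} (hα : α ∈ F.autGroup P)
    (hnorm : ∀ a ∈ autInducedBy S P, α * a * α⁻¹ ∈ autInducedBy S P) :
    ∃ β ∈ F.autGroup (normalizerIn S P),
      ∀ (x : normalizerIn S P) (hx : (x : Ω) ∈ P), ((β x : normalizerIn S P) : Ω) = α ⟨x, hx⟩ := by
  have hPS : P ≤ S := hPc.1
  have : Finite P := finite_of_le hPS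
  have hR := isReceptive_of_isCentric hS hF hPc
  obtain ⟨ψ, hψ, hag⟩ := hR.2 _ _ ((mem_autGroup_iff_hom hPS).1 hα) (range_subtype_comp α)
  set N := normalizerIn S P
  have : Finite N := finite_of_le (normalizerIn_le S P)
  have hle : N ≤ extender S P (P.subtype.comp α.toMonoidHom) := by
    intro g hg
    obtain ⟨h, hh, hhS, he⟩ := exists_eq_conjAut
      (hnorm _ (conjAut_mem_autInducedBy (P := P) hg.1 hg.2))
    refine Subgroup.subset_closure ⟨hg.1, hg.2, h, hhS, fun x hx => ?_⟩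
    have h1 := congrArg (fun a : MulAut P => ((a (α x) : P) : Ω)) he
    simp only [MulAut.mul_apply, MulAut.inv_apply_self, conjAut_apply] at h1
    exact h1
  have hχ := restrict_mem hψ hle
  have hagP : ∀ (x : Ω) (hP : x ∈ P) (hN : x ∈ N),
      ψ ⟨x, hle hN⟩ = ((α ⟨x, hP⟩ : P) : Ω) := fun x hP hN => hag x hP (hle hN)
  have hmem : ∀ g : N, ψ ⟨g, hle g.2⟩ ∈ N := by
    intro g
    refine ⟨map_mem hψ _, mem_normalizer_of_forall (α := α * conjAut P g g.2.2 * α⁻¹) fun x => ?_⟩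
    simp only [MulAut.mul_apply]
    set y := α⁻¹ x with hy
    have hyN : (y : Ω) ∈ N := le_normalizerIn hPS y.2
    have h1 := hagP _ (conjAut P g g.2.2 y).2
      (by rw [conjAut_apply]; exact mul_mem (mul_mem g.2 hyN) (inv_mem g.2))
    have h2 := hagP _ y.2 hyN
    rw [Subtype.coe_eta, show α y = x from MulAut.apply_inv_self _ α x] at h2
    rw [Subtype.coe_eta] at h1
    rw [← h1, ← h2, ← map_inv, ← map_mul, ← map_mul]
    exact congrArg ψ (Subtype.ext rfl)
  obtain ⟨β, hβ, hβx⟩ := exists_aut hχ (range_eq_of_le (hom_inj hχ) hmem)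
  exact ⟨β, hβ, fun x hx => (hβx x).trans (hagP x hx x.2)⟩

/-- An automorphism preserving a flag with factors of order `p` extends to the normalizer. -/
theorem exists_extension_of_preserve (hS : IsPGroup p S) (hF : F.IsSaturated p) (hPc : F.IsCentric P)
    (hPn : F.IsFullyNormalized P) {s : ℕ → Subgroup P} {n : ℕ} (h0 : s 0 = ⊤) (hn : s n = ⊥)
    (hA : autInducedBy S P ≤ preserve (F.autGroup P) s)
    (hf : ∀ i < n, s (i + 1) ≤ s i ∧ (s (i + 1)).relIndex (s i) = p)
    {α : MulAut P} (hα : α ∈ preserve (F.autGroup P) s) :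
    ∃ β ∈ F.autGroup (normalizerIn S P),
      ∀ (x : normalizerIn S P) (hx : (x : Ω) ∈ P), ((β x : normalizerIn S P) : Ω) = α ⟨x, hx⟩ := by
  have heq := disp_eq_autInducedBy hS hF hPn h0 hn (autInducedBy_le_disp hS hPn.1 hA hf)
  refine exists_extension hS hF hPc hα.1 fun a ha => ?_
  rw [← heq] at ha ⊢
  exact conj_mem_disp hα ha

/-- For an essential subgroup `Aut_S(P)` does not stabilise an invariant series. -/
theorem not_autInducedBy_le_disp (hS : IsPGroup p S) (hF : F.IsSaturated p) (hP : F.IsEssential p P)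
    {s : ℕ → Subgroup P} {n : ℕ} (h0 : s 0 = ⊤) (hn : s n = ⊥)
    (hG : ∀ α ∈ F.autGroup P, ∀ i, ∀ x ∈ s i, α x ∈ s i) :
    ¬ autInducedBy S P ≤ disp (F.autGroup P) s n := by
  intro hA
  have hPS : P ≤ S := hP.1.1
  have : Finite P := finite_of_le hPS
  have : Finite (MulAut P) := finite_mulAut
  have hG' : F.autGroup P ≤ preserve (F.autGroup P) s := fun α hα => mem_preserve_of_le hα (hG α hα)
  obtain ⟨-, hlt, hout⟩ := CfsgLib.FusionIndexP.exists_outer_of_isEssential hS hF hP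
  obtain ⟨g, hg, hgP⟩ := SetLike.exists_of_lt hlt
  apply hout g hg.2 hg.1 hgP
  rw [← (isRadical_of_isEssential hS hF hP).2]
  have hmem := hA (conjAut_mem_autInducedBy (P := P) hg.1 hg.2)
  have hn' : ((disp (F.autGroup P) s n).subgroupOf (F.autGroup P)).Normal :=
    ⟨fun k hk γ => conj_mem_disp (hG' γ.2) hk⟩
  exact ⟨⟨conjAut P g hg.2, hmem.1.1⟩, CfsgLib.Solvable.le_pCore hn'
    (IsPGroup.comap_subtype (isPGroup_disp (hS.to_le hPS) _ s n h0 hn)) hmem, rfl⟩

/-- An essential subgroup has no invariant flag with factors of order `p`. -/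
theorem exists_not_preserve (hS : IsPGroup p S) (hF : F.IsSaturated p) (hP : F.IsEssential p P)
    {s : ℕ → Subgroup P} {n : ℕ} (h0 : s 0 = ⊤) (hn : s n = ⊥)
    (hf : ∀ i < n, s (i + 1) ≤ s i ∧ (s (i + 1)).relIndex (s i) = p) :
    ∃ α ∈ F.autGroup P, ∃ i, ∃ x ∈ s i, α x ∉ s i := by
  have hPS : P ≤ S := hP.1.1
  have : Finite P := finite_of_le hPS
  by_contra hc
  push Not at hc
  exact not_autInducedBy_le_disp hS hF hP h0 hn hc
    (autInducedBy_le_disp hS hPS ((autInducedBy_le_autGroup F hPS).trans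
      fun α hα => mem_preserve_of_le hα (hc α hα)) hf)

section Diag

variable {G A : Type*} [Group G] [Group A] [Finite A]

omit [Finite A] in
theorem map_pow_mul_pow {σ : MulAut A} (l m : A) (i j : ℕ) :
    σ (l ^ i * m ^ j) = σ l ^ i * σ m ^ j := by rw [map_mul, map_pow, map_pow]

/-- Two opposite transvections give every diagonal element of determinant one. -/
theorem diag_of_pair (ρ : G →* MulAut A) {l m : A} (hc : Commute l m) (hl : l ^ p = 1) (hm : m ^ p = 1)
    {a b : G} (hal : ρ a l = l) (ham : ρ a m = m * l) (hbm : ρ b m = m) (hbl : ρ b l = l * m)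
    {K : Subgroup G} (haK : a ∈ K) (hbK : b ∈ K) (ν μ : ℕ) (hνμ : ((ν * μ : ℕ) : ZMod p) = 1) :
    ∃ h ∈ K, ρ h l = l ^ ν ∧ ρ h m = m ^ μ := by
  have hp : p.Prime := Fact.out
  have red : ∀ {x : A}, x ^ p = 1 → ∀ {i j : ℕ}, (i : ZMod p) = j → x ^ i = x ^ j := fun {x} hx {i j} h => by
    rw [pow_eq_pow_mod i hx, pow_eq_pow_mod j hx, (ZMod.natCast_eq_natCast_iff' i j p).1 h]
  have eu : ∀ t i j : ℕ, ρ (a ^ t) (l ^ i * m ^ j) = l ^ (i + t * j) * m ^ j := by
    intro t
    induction t with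
    | zero => simp
    | succ t ih =>
      intro i j
      rw [pow_succ, map_mul ρ, MulAut.mul_apply, map_pow_mul_pow, hal, ham, hc.symm.mul_pow,
        (hc.pow_pow j j).symm.eq, ← mul_assoc, ← pow_add, ih]
      ring_nf
  have eL : ∀ t i j : ℕ, ρ (b ^ t) (l ^ i * m ^ j) = l ^ i * m ^ (j + t * i) := by
    intro t
    induction t with
    | zero => simp
    | succ t ih =>
      intro i j
      rw [pow_succ, map_mul ρ, MulAut.mul_apply, map_pow_mul_pow, hbm, hbl, hc.mul_pow, mul_assoc,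
        ← pow_add, ih]
      ring_nf
  obtain ⟨q, rfl⟩ : ∃ q, p = q + 1 := ⟨p - 1, by have := hp.two_le; omega⟩
  have hq : (q : ZMod (q + 1)) = -1 := by
    have h : ((q + 1 : ℕ) : ZMod (q + 1)) = 0 := ZMod.natCast_self _
    push_cast at h
    linear_combination h
  push_cast at hνμ
  refine ⟨a ^ ν * (b ^ (q * μ) * (a ^ ν * (a ^ q * (b ^ 1 * a ^ q)))),
    K.mul_mem (pow_mem haK _) (K.mul_mem (pow_mem hbK _) (K.mul_mem (pow_mem haK _)
      (K.mul_mem (pow_mem haK _) (K.mul_mem (pow_mem hbK _) (pow_mem haK _))))), ?_, ?_⟩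
  · conv_lhs => rw [show l = l ^ 1 * m ^ 0 by simp]
    simp only [map_mul ρ, MulAut.mul_apply, eu, eL]
    conv_rhs => rw [show l ^ ν = l ^ ν * m ^ 0 by simp]
    congr 1
    · refine red hl ?_
      push_cast
      linear_combination (norm := (rw [hq]; ring)) (-(ν : ZMod (q + 1))) * hνμ
    · refine red hm ?_
      push_cast
      linear_combination (norm := (rw [hq]; ring)) (-(1 : ZMod (q + 1))) * hνμ
  · conv_lhs => rw [show m = l ^ 0 * m ^ 1 by simp]
    simp only [map_mul ρ, MulAut.mul_apply, eu, eL]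
    conv_rhs => rw [show m ^ μ = l ^ 0 * m ^ μ by simp]
    congr 1
    · refine red hl ?_
      push_cast
      linear_combination (norm := (rw [hq]; ring)) hνμ
    · refine red hm ?_
      push_cast
      linear_combination (norm := (rw [hq]; ring)) (0 : ZMod (q + 1)) * hνμ

/-- A transvection whose line is moved gives two opposite transvections in its normal closure. -/
theorem exists_pair (ρ : G →* MulAut A) (hcard : Nat.card A = p ^ 2)
    (hcomm : ∀ x y : A, x * y = y * x) {l : A} (hl1 : l ≠ 1) (hlp : l ^ p = 1) {a : G}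
    (hal : ρ a l = l) (hdisp : ∀ x, x⁻¹ * ρ a x ∈ Subgroup.zpowers l) (hne : ρ a ≠ 1)
    {g : G} (hg : ρ g l ∉ Subgroup.zpowers l) :
    Subgroup.zpowers l ⊔ Subgroup.zpowers (ρ g l) = ⊤ ∧
      ∃ a' ∈ Subgroup.normalClosure ({a} : Set G), ∃ b' ∈ Subgroup.normalClosure ({a} : Set G),
        ρ a' l = l ∧ ρ a' (ρ g l) = ρ g l * l ∧ ρ b' (ρ g l) = ρ g l ∧ ρ b' l = l * ρ g l := by
  have hp : p.Prime := Fact.out
  set m := ρ g l with hm
  have hmp : m ^ p = 1 := by rw [hm, ← map_pow, hlp, map_one]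
  have hlo : Nat.card (Subgroup.zpowers l) = p := by
    rw [Nat.card_zpowers]; exact orderOf_eq_prime hlp hl1
  have hA : IsPGroup p A := IsPGroup.of_card hcard
  have htop : Subgroup.zpowers l ⊔ Subgroup.zpowers m = ⊤ := by
    refine Subgroup.eq_top_of_le_card _ ?_
    have h := mul_card_le_of_lt hA (A := Subgroup.zpowers l)
      (B := Subgroup.zpowers l ⊔ Subgroup.zpowers m)
      (lt_of_le_of_ne le_sup_left fun e => hg (e ▸ Subgroup.mem_sup_right (Subgroup.mem_zpowers m)))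
    rw [hlo, ← pow_two] at h
    rw [hcard]
    exact h
  have hgen : ∀ σ τ : MulAut A, σ l = τ l → σ m = τ m → σ = τ := fun σ τ h1 h2 => MulEquiv.ext fun x => by
    have hle : Subgroup.zpowers l ⊔ Subgroup.zpowers m ≤ σ.toMonoidHom.eqLocus τ.toMonoidHom :=
      sup_le (Subgroup.zpowers_le.2 h1) (Subgroup.zpowers_le.2 h2)
    exact hle (htop ▸ Subgroup.mem_top x)
  set K := Subgroup.normalClosure ({a} : Set G)
  have haK : a ∈ K := Subgroup.subset_normalClosure rfl
  obtain ⟨i, hi : l ^ i = m⁻¹ * ρ a m⟩ :=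
    (isOfFinOrder_of_finite l).mem_powers_iff_mem_zpowers.2 (hdisp m)
  have ham : ρ a m = m * l ^ i := by rw [hi, mul_inv_cancel_left]
  have hi0 : (i : ZMod p) ≠ 0 := fun h0 => hne (hgen _ _ (by rw [hal]; rfl) (by
    rw [ham, pow_eq_pow_mod i hlp, (ZMod.natCast_eq_natCast_iff' i 0 p).1 (by rw [h0, Nat.cast_zero]),
      Nat.zero_mod, pow_zero, mul_one]; rfl))
  set k := g * a * g⁻¹ with hk
  have hkm : ρ k m = m := by
    simp only [hk, hm, map_mul, map_inv, MulAut.mul_apply, MulAut.inv_apply_self, hal]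
  obtain ⟨j, hj⟩ : ∃ j : ℕ, ρ k l = l * m ^ j := by
    obtain ⟨j, hj : l ^ j = (ρ g⁻¹ l)⁻¹ * ρ a (ρ g⁻¹ l)⟩ :=
      (isOfFinOrder_of_finite l).mem_powers_iff_mem_zpowers.2 (hdisp (ρ g⁻¹ l))
    refine ⟨j, ?_⟩
    have h1 := congrArg (ρ g) hj
    rw [map_pow, map_mul, map_inv (ρ g), map_inv ρ, MulAut.apply_inv_self] at h1
    rw [show m ^ j = _ from h1, mul_inv_cancel_left, hk, map_mul, map_mul, MulAut.mul_apply,
      MulAut.mul_apply, map_inv]
  have hj0 : (j : ZMod p) ≠ 0 := fun h0 => hne (by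
    have h1 : ρ k = 1 := hgen _ _ (by
      rw [hj, pow_eq_pow_mod j hmp, (ZMod.natCast_eq_natCast_iff' j 0 p).1 (by rw [h0, Nat.cast_zero]),
        Nat.zero_mod, pow_zero, mul_one]; rfl) (by rw [hkm]; rfl)
    rw [hk, map_mul, map_mul, map_inv, mul_inv_eq_one] at h1
    exact mul_left_cancel (h1.trans (mul_one _).symm))
  have hapow : ∀ t : ℕ, ρ (a ^ t) l = l ∧ ρ (a ^ t) m = m * (l ^ i) ^ t := by
    intro t
    induction t with
    | zero => simp
    | succ t ih =>
      refine ⟨by rw [pow_succ', map_mul, MulAut.mul_apply, ih.1, hal], ?_⟩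
      rw [pow_succ', map_mul, MulAut.mul_apply, ih.2, map_mul, ham, map_pow, map_pow, hal, mul_assoc,
        ← pow_succ']
  have hkpow : ∀ t : ℕ, ρ (k ^ t) m = m ∧ ρ (k ^ t) l = l * (m ^ j) ^ t := by
    intro t
    induction t with
    | zero => simp
    | succ t ih =>
      refine ⟨by rw [pow_succ', map_mul, MulAut.mul_apply, ih.1, hkm], ?_⟩
      rw [pow_succ', map_mul, MulAut.mul_apply, ih.2, map_mul, hj, map_pow, map_pow, hkm, mul_assoc,
        ← pow_succ']
  exact ⟨htop, _, pow_mem haK ((i : ZMod p)⁻¹).val,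
    _, pow_mem (Subgroup.normalClosure_normal.conj_mem a haK g) ((j : ZMod p)⁻¹).val,
    (hapow _).1, (by
      rw [(hapow _).2, ← pow_mul, pow_eq_pow_mod _ hlp,
        (ZMod.natCast_eq_natCast_iff' _ 1 p).1 (by
          rw [Nat.cast_mul, ZMod.natCast_zmod_val, mul_inv_cancel₀ hi0, Nat.cast_one]),
        ← pow_eq_pow_mod _ hlp, pow_one]),
    (hkpow _).1, (by
      rw [(hkpow _).2, ← pow_mul, pow_eq_pow_mod _ hmp,
        (ZMod.natCast_eq_natCast_iff' _ 1 p).1 (by
          rw [Nat.cast_mul, ZMod.natCast_zmod_val, mul_inv_cancel₀ hj0, Nat.cast_one]),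
        ← pow_eq_pow_mod _ hmp, pow_one])⟩

/-- An automorphism raising two generators of an abelian group to the same power. -/
theorem apply_eq_pow_of_gen (hcomm : ∀ x y : A, x * y = y * x) {l m : A}
    (htop : Subgroup.zpowers l ⊔ Subgroup.zpowers m = ⊤) (σ : MulAut A) (ν : ℕ) (hl : σ l = l ^ ν)
    (hm : σ m = m ^ ν) (x : A) : σ x = x ^ ν := by
  have hle : Subgroup.zpowers l ⊔ Subgroup.zpowers m ≤ σ.toMonoidHom.eqLocus
      ({ toFun := fun x => x ^ ν, map_one' := one_pow ν,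
         map_mul' := fun x y => (show Commute x y from hcomm x y).mul_pow ν } : A →* A) :=
    sup_le (Subgroup.zpowers_le.2 hl) (Subgroup.zpowers_le.2 hm)
  exact hle (htop ▸ Subgroup.mem_top x)

end Diag

/-- The action on the quotient by an invariant subgroup. -/
def actHom {P : Type*} [Group P] [Finite P] (G : Subgroup (MulAut P)) (W : Subgroup P) [W.Normal]
    (h : ∀ α ∈ G, ∀ x ∈ W, α x ∈ W) : G →* MulAut (P ⧸ W) where
  toFun α := QuotientGroup.congr W W (α : MulAut P) (Subgroup.eq_of_le_of_card_ge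
    (by rintro _ ⟨y, hy, rfl⟩; exact h _ α.2 y hy)
    (Subgroup.card_map_of_injective (f := (α : MulAut P).toMonoidHom) (α : MulAut P).injective).ge)
  map_one' := MulEquiv.ext fun q => QuotientGroup.induction_on q fun x => rfl
  map_mul' := fun α β => MulEquiv.ext fun q => QuotientGroup.induction_on q fun x => rfl

theorem actHom_mk {P : Type*} [Group P] [Finite P] (G : Subgroup (MulAut P)) (W : Subgroup P) [W.Normal]
    (h : ∀ α ∈ G, ∀ x ∈ W, α x ∈ W) (α : G) (x : P) :
    actHom G W h α (QuotientGroup.mk' W x) = QuotientGroup.mk' W ((α : MulAut P) x) := rfl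

end CfsgLib.FusionPFive
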